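import Cfsg.Agent.Lib.Orders5.Acting
import Cfsg.Agent.S4006

/-
A group with element orders at most five having a normal 2-subgroup `D` with quotient `A₅`.

* `A5.v0`, `A5.x3`, `A5.x5`, `A5.V` : elements of `A₅`
* `frame` : `D` is elementary abelian, and the Sylow 2-subgroup `S` lifting `V` centralises in `D` exactly
  what any of its elements outside `D` centralises
-/

set_option autoImplicit false

namespace Cfsg.Agent.Orders5

namespace A5

/-- The alternating group of degree 5. -/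
abbrev Alt := ↥(alternatingGroup (Fin 5))

/-- `(0 1)(2 3)`. -/
def v0 : Alt := ⟨Equiv.swap 0 1 * Equiv.swap 2 3, Equiv.Perm.mem_alternatingGroup.2 (by decide)⟩

/-- `(0 1 2)`. -/
def x3 : Alt := ⟨Equiv.swap 0 1 * Equiv.swap 1 2, Equiv.Perm.mem_alternatingGroup.2 (by decide)⟩

/-- A five-cycle inverted by `v0`. -/
def x5 : Alt := ⟨[4, 0, 2, 3, 1].formPerm, Equiv.Perm.mem_alternatingGroup.2 (by decide)⟩

/-- The conjugate of `v0` by `x3`. -/
def w : Alt := x3 * v0 * x3⁻¹

theorem facts : v0 * v0 = 1 ∧ v0 ≠ 1 ∧ w * w = 1 ∧ w ≠ 1 ∧ w ≠ v0 ∧ v0 * w = w * v0 ∧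
    x3 * w * x3⁻¹ = v0 * w ∧ x3 * (v0 * w) * x3⁻¹ = v0 ∧ x3 ^ 3 = 1 ∧ x3 ≠ 1 ∧
    x5 ^ 5 = 1 ∧ x5 ≠ 1 ∧ v0 * x5 * v0⁻¹ = x5⁻¹ ∧ v0 * w ≠ 1 := by
  decide +kernel

/-- The four-group `{1, v0, w, v0 w}`. -/
def V : Subgroup Alt where
  carrier := {g | g = 1 ∨ g = v0 ∨ g = w ∨ g = v0 * w}
  one_mem' := Or.inl rfl
  mul_mem' := by
    rintro a b (rfl | rfl | rfl | rfl) (rfl | rfl | rfl | rfl) <;>
      simp only [Set.mem_setOf_eq] <;> decide +kernel
  inv_mem' := by
    rintro a (rfl | rfl | rfl | rfl) <;> simp only [Set.mem_setOf_eq] <;> decide +kernel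

theorem card_V : Nat.card V = 4 := by
  have e : (V : Set Alt) = ↑({1, v0, w, v0 * w} : Finset Alt) := by
    ext g
    simp only [Finset.coe_insert, Finset.coe_singleton, Set.mem_insert_iff, Set.mem_singleton_iff]
    rfl
  rw [← SetLike.coe_sort_coe, Nat.card_coe_set_eq, e, Set.ncard_coe_finset]
  decide +kernel

theorem card_alt : Nat.card Alt = 60 := by
  rw [nat_card_alternatingGroup]
  simp [Nat.factorial]

theorem v0_mem : v0 ∈ V := Or.inr (Or.inl rfl)

theorem V_sq {g : Alt} (hg : g ∈ V) : g * g = 1 := by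
  rcases hg with rfl | rfl | rfl | rfl <;> decide +kernel

theorem x3_norm {g : Alt} (hg : g ∈ V) : x3 * g * x3⁻¹ ∈ V ∧ x3⁻¹ * g * x3 ∈ V := by
  obtain ⟨-, -, -, -, -, -, h2, h3, -⟩ := facts
  have h1 : x3 * v0 * x3⁻¹ = w := rfl
  rcases hg with rfl | rfl | rfl | rfl
  · simp [V.one_mem]
  · refine ⟨Or.inr (Or.inr (Or.inl h1)), Or.inr (Or.inr (Or.inr ?_))⟩
    nth_rw 1 [← h3]; group
  · refine ⟨Or.inr (Or.inr (Or.inr h2)), Or.inr (Or.inl ?_)⟩
    nth_rw 1 [← h1]; group
  · refine ⟨Or.inr (Or.inl h3), Or.inr (Or.inr (Or.inl ?_))⟩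
    nth_rw 1 [← h2]; group

end A5

open A5 in
/-- The structure of `H` with `H / D ≅ A₅`. -/
theorem frame {G : Type*} [Group G] [Finite G] (h : Ord5 G) {D H : Subgroup G} (hDH : D ≤ H)
    (hHN : H ≤ Subgroup.normalizer (D : Set G)) (hD : IsPGroup 2 D) (hD1 : D ≠ ⊥)
    (π : H →* A5.Alt) (hπ : Function.Surjective π) (hker : π.ker = D.subgroupOf H) :
    ∃ S : Subgroup G, D ≤ S ∧ S ≤ H ∧ IsPGroup 2 S ∧ D.relIndex S = 4 ∧ (∀ d ∈ D, d * d = 1) ∧
      (∀ x ∈ S, x ∉ D → ∀ d ∈ D, Commute d x → d ∈ Subgroup.centralizer (S : Set G)) ∧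
      Nat.card D = Nat.card (D ⊓ Subgroup.centralizer (S : Set G) : Subgroup G) ^ 2 ∧
      Nat.card D % 5 = 1 ∧
      (∃ v ∈ S, v ∉ D ∧ v * v = 1) ∧
      (∀ T : Subgroup G, S ≤ T → T ≤ H → IsPGroup 2 T → T = S) ∧
      Nat.card H = Nat.card D * 60 ∧ (∀ g : H, π g ∈ V → (g : G) ∈ S) ∧
      ∃ a b : H, π a = v0 ∧ π b = w ∧ (a : G) * a = 1 ∧ (b : G) * b = 1 ∧ Commute (a : G) b := by
  obtain ⟨hv2, hv1, hw2, hw1, hwv, hvw, -, -, hx3, hx31, hx5, hx51, hinv, -⟩ := A5.facts
  have hkerD : ∀ g : H, π g = 1 ↔ (g : G) ∈ D := fun g => by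
    rw [← MonoidHom.mem_ker, hker, Subgroup.mem_subgroupOf]
  have hpow4 : ∀ g : H, π g * π g = 1 → (g : G) ^ 4 = 1 := by
    intro g hg
    rcases eq_or_ne (π g) 1 with e | e
    · exact h.pow_four_of_isPGroup hD ((hkerD g).1 e)
    rcases h g with h4 | h3 | h5
    · exact h4
    · exfalso
      have : π g ^ 3 = 1 := by rw [← map_pow, show g ^ 3 = 1 from Subtype.ext h3, map_one]
      rw [pow_succ, pow_two, hg, one_mul] at this
      exact e this
    · exfalso
      have : π g ^ 5 = 1 := by rw [← map_pow, show g ^ 5 = 1 from Subtype.ext h5, map_one]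
      rw [pow_succ, show 4 = 2 * 2 from rfl, pow_mul, pow_two (π g), hg, one_pow, one_mul] at this
      exact e this
  -- lifts
  obtain ⟨x, hx⟩ := hπ x3
  obtain ⟨y, hy⟩ := hπ x5
  obtain ⟨g, hg⟩ := hπ v0
  have hx3' : (x : G) ^ 3 = 1 := by
    rcases h x with e | e | e
    · exfalso
      have : π x ^ 4 = 1 := by rw [← map_pow, show x ^ 4 = 1 from Subtype.ext e, map_one]
      rw [hx, pow_succ, hx3, one_mul] at this
      exact hx31 this
    · exact e
    · exfalso
      have : π x ^ 5 = 1 := by rw [← map_pow, show x ^ 5 = 1 from Subtype.ext e, map_one]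
      rw [hx] at this
      revert this; decide +kernel
  have hy5 : (y : G) ^ 5 = 1 := by
    rcases h y with e | e | e
    · exfalso
      have : π y ^ 4 = 1 := by rw [← map_pow, show y ^ 4 = 1 from Subtype.ext e, map_one]
      rw [hy] at this
      revert this; decide +kernel
    · exfalso
      have : π y ^ 3 = 1 := by rw [← map_pow, show y ^ 3 = 1 from Subtype.ext e, map_one]
      rw [hy] at this
      revert this; decide +kernel
    · exact e
  have hx1 : (x : G) ≠ 1 := fun e => hx31 (by rw [← hx, show x = 1 from Subtype.ext e, map_one])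
  have hy1 : (y : G) ≠ 1 := fun e => hx51 (by rw [← hy, show y = 1 from Subtype.ext e, map_one])
  -- an involution over `v0` inverting `y`
  have hu : ((y : G)⁻¹)⁻¹ * ((g : G) * y * (g : G)⁻¹) ∈ D := by
    have h1 : π (y⁻¹⁻¹ * (g * y * g⁻¹)) = 1 := by
      simp only [map_mul, map_inv, hg, hy, hinv, inv_inv, mul_inv_cancel]
    simpa using (hkerD _).1 h1
  obtain ⟨d, hd, hd'⟩ := exists_adjust h hD Nat.prime_five (by norm_num) (y' := (y : G)⁻¹)
    (inv_mem (hHN y.2)) (by rw [inv_pow, hy5, inv_one]) (inv_ne_one.2 hy1) hu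
  set t : H := ⟨d, hDH hd⟩ * g with ht
  have htπ : π t = v0 := by rw [ht, map_mul, (hkerD ⟨d, hDH hd⟩).2 hd, one_mul, hg]
  have htinv : (t : G) * y * (t : G)⁻¹ = (y : G)⁻¹ := by
    rw [← hd', ht, Subgroup.coe_mul]; group
  have ht2 : (t : G) * t = 1 := by
    have hc : Commute ((t : G) * t) y := by
      have e : (t : G) * (t * y * (t : G)⁻¹) * (t : G)⁻¹ = y := by
        rw [htinv, ← conj_inv, htinv, inv_inv]
      show (t : G) * t * y = y * (t * t)
      calc (t : G) * t * y = (t : G) * (t * y * (t : G)⁻¹) * (t : G)⁻¹ * (t * t) := by group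
        _ = _ := by rw [e]
    have hD' : ((t : G) * t) ∈ D := (hkerD (t * t)).1 (by rw [map_mul, htπ, hv2])
    exact h.fpf Nat.prime_five (by norm_num) hy5 hy1 (h.pow_four_of_isPGroup hD hD') hc
  have htne : (t : G) ∉ D := fun e => hv1 (by rw [← htπ, (hkerD t).2 e])
  obtain ⟨hsq, hcardD, hfix⟩ := dihedral h hD Nat.prime_five (by norm_num) (hHN y.2) hy5 hy1 (hHN t.2) ht2 htinv
  have hDcomm : ∀ a ∈ D, ∀ b ∈ D, Commute a b := fun a ha b hb => by
    have hi : ∀ u ∈ D, u⁻¹ = u := fun u hu => inv_eq_of_mul_eq_one_right (hsq u hu)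
    calc a * b = (a * b)⁻¹ := (hi _ (D.mul_mem ha hb)).symm
      _ = b * a := by rw [mul_inv_rev, hi a ha, hi b hb]
  -- the 2-subgroup over `V`
  set S : Subgroup G := (V.comap π).map H.subtype with hS
  have hmemS : ∀ s : H, (s : G) ∈ S ↔ π s ∈ V := fun s => by
    rw [hS]; exact Subgroup.mem_map_iff_mem H.subtype_injective
  have hSH : S ≤ H := Subgroup.map_subtype_le _
  have hDS : D ≤ S := fun a ha => (hmemS ⟨a, hDH ha⟩).2 (by rw [(hkerD ⟨a, hDH ha⟩).2 ha]; exact V.one_mem)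
  have hS4 : ∀ s ∈ S, s ^ 4 = 1 := fun s hs =>
    hpow4 ⟨s, hSH hs⟩ (V_sq ((hmemS ⟨s, hSH hs⟩).1 hs))
  have hS2 : IsPGroup 2 S := isPGroup_two_of_pow_four hS4
  have hHcard : Nat.card H = Nat.card D * 60 := by
    rw [← Subgroup.card_mul_index π.ker, Subgroup.index_ker, MonoidHom.range_eq_top.2 hπ, Subgroup.card_top,
      card_alt, hker, Nat.card_congr (Subgroup.subgroupOfEquivOfLe hDH).toEquiv]
  have hScard : Nat.card S = Nat.card D * 4 := by
    rw [hS, Subgroup.card_subtype]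
    have h1 := Subgroup.card_mul_index (V.comap π)
    rw [Subgroup.index_comap_of_surjective V hπ, hHcard] at h1
    have h2 := Subgroup.card_mul_index V
    rw [card_V, card_alt] at h2
    have h3 : V.index = 15 := by omega
    rw [h3] at h1
    omega
  have hrel : D.relIndex S = 4 := by
    have h1 := Subgroup.card_mul_index (D.subgroupOf S)
    rw [Nat.card_congr (Subgroup.subgroupOfEquivOfLe hDS).toEquiv, hScard] at h1
    exact Nat.eq_of_mul_eq_mul_left Nat.card_pos h1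
  -- `x` acts fixed-point-freely on `S`
  have hxN : (x : G) ∈ Subgroup.normalizer (S : Set G) := by
    refine Subgroup.mem_normalizer_iff.2 fun s => ⟨fun hs => ?_, fun hs => ?_⟩
    · have h1 : π (x * ⟨s, hSH hs⟩ * x⁻¹) ∈ V := by
        rw [map_mul, map_mul, map_inv, hx]; exact (x3_norm ((hmemS _).1 hs)).1
      simpa using (hmemS _).2 h1
    · have hsH : s ∈ H := by
        have := H.mul_mem (H.mul_mem (H.inv_mem x.2) (hSH hs)) x.2
        simpa [mul_assoc] using this
      have h1 : π ⟨s, hsH⟩ ∈ V := by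
        have h2 := (x3_norm ((hmemS (x * ⟨s, hsH⟩ * x⁻¹)).1 hs)).2
        rw [map_mul, map_mul, map_inv, hx] at h2
        simpa [mul_assoc] using h2
      exact (hmemS _).2 h1
  have hcommS : ∀ a : S, Commute (a : G) ((x : G) * a * (x : G)⁻¹) := fun a => by
    have hiter : ∀ b : S, cj S x hxN (cj S x hxN (cj S x hxN b)) = b := fun b => Subtype.ext (by
      show (x : G) * (x * (x * (b : G) * (x : G)⁻¹) * (x : G)⁻¹) * (x : G)⁻¹ = b
      calc (x : G) * (x * (x * (b : G) * (x : G)⁻¹) * (x : G)⁻¹) * (x : G)⁻¹ =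
          (x : G) * x * x * b * ((x : G) * x * x)⁻¹ := by group
        _ = b := by rw [← pow_three', hx3']; group)
    exact congrArg Subtype.val (S4006.commute_apply (cj S x hxN)
      (h.cj_fpf hS2 Nat.prime_three (by norm_num) hxN hx3' hx1) hiter a)
  -- the lift `w'` of `w`
  set w' : G := (x : G) * t * (x : G)⁻¹ with hw'
  have htS : (t : G) ∈ S := (hmemS t).2 (by rw [htπ]; exact v0_mem)
  have htw : Commute (t : G) w' := hcommS ⟨t, htS⟩
  -- quadratic action
  have hquad : ∀ a ∈ D, Commute (a * (w' * a * w'⁻¹)) (t : G) := by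
    intro a ha
    have h1 := hcommS ⟨a * t, S.mul_mem (hDS ha) htS⟩
    have hi : (t : G)⁻¹ = t := inv_eq_of_mul_eq_one_right ht2
    set b := (x : G) * a * (x : G)⁻¹ with hb
    have hbD : b ∈ D := (Subgroup.mem_normalizer_iff.1 (hHN x.2) a).1 ha
    have hw'D : w' ∈ Subgroup.normalizer (D : Set G) :=
      hHN (H.mul_mem (H.mul_mem x.2 t.2) (H.inv_mem x.2))
    have e1 : (x : G) * (a * t) * (x : G)⁻¹ = b * w' := by rw [hb, hw']; group
    have h1' : a * t * (b * w') = b * w' * (a * t) := by rw [← e1]; exact h1.eq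
    set A := (t : G) * b * (t : G)⁻¹ with hA
    set B := w' * a * w'⁻¹ with hB
    have hAD : A ∈ D := (Subgroup.mem_normalizer_iff.1 (hHN t.2) b).1 hbD
    have hBD : B ∈ D := (Subgroup.mem_normalizer_iff.1 hw'D a).1 ha
    -- `a A = b B`
    have h2 : a * A = b * B := by
      have l : a * t * (b * w') = a * A * ((t : G) * w') := by rw [hA]; group
      have r : b * w' * (a * t) = b * B * (w' * t) := by rw [hB]; group
      rw [l, r, htw.eq] at h1'
      exact mul_right_cancel h1'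
    -- so `a B = b A`, which `t` fixes
    have h3 : a * B = b * A := by
      calc a * B = a * (b * b) * B := by rw [hsq b hbD, mul_one]
        _ = a * b * (b * B) := by group
        _ = a * b * (a * A) := by rw [h2]
        _ = a * a * b * A := by
          rw [← mul_assoc (a * b) a A, mul_assoc a b a, (hDcomm b hbD a ha).eq, ← mul_assoc a a b]
        _ = b * A := by rw [hsq a ha, one_mul]
    show a * B * t = t * (a * B)
    rw [h3]
    have h4 : (t : G) * (b * A) * (t : G)⁻¹ = b * A := by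
      have e : (t : G) * A * (t : G)⁻¹ = b := by
        rw [hA, hi, ← mul_assoc, ← mul_assoc, ht2, one_mul, mul_assoc, ht2, mul_one]
      rw [← conj_mul, e, ← hA]
      exact (hDcomm A hAD b hbD).eq
    exact (mul_inv_eq_iff_eq_mul.1 h4).symm
  set C := D ⊓ Subgroup.centralizer ({(t : G)} : Set G) with hC
  have hxD : ∀ a ∈ D, (x : G) * a * (x : G)⁻¹ ∈ D := fun a ha => (Subgroup.mem_normalizer_iff.1 (hHN x.2) a).1 ha
  have hmemC : ∀ a, a ∈ C ↔ a ∈ D ∧ Commute a (t : G) := fun a => by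
    rw [hC, Subgroup.mem_inf, Subgroup.mem_centralizer_singleton_iff]; rfl
  -- the fixed groups of `t` and `w'` agree, so `x` normalises `C`
  have hsub : ∀ a ∈ D, Commute a w' → a ∈ C := by
    intro a ha haw
    have ha' : Commute ((x : G)⁻¹ * a * x) (t : G) := commute_of_conj (g := (x : G)) (by
      have e : (x : G) * ((x : G)⁻¹ * a * x) * (x : G)⁻¹ = a := by group
      rw [e]; exact haw)
    have haD : (x : G)⁻¹ * a * x ∈ D := by
      have := (Subgroup.mem_normalizer_iff.1 (inv_mem (hHN x.2)) a).1 ha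
      simpa using this
    obtain ⟨e, he, hee⟩ := hfix _ haD ha'
    refine (hmemC a).2 ⟨ha, ?_⟩
    have h5 := hquad ((x : G) * e * (x : G)⁻¹) (hxD e he)
    have e2 : (x : G) * e * (x : G)⁻¹ * (w' * ((x : G) * e * (x : G)⁻¹) * w'⁻¹) = a := by
      calc (x : G) * e * (x : G)⁻¹ * (w' * ((x : G) * e * (x : G)⁻¹) * w'⁻¹) =
          (x : G) * (e * (t * e * (t : G)⁻¹)) * (x : G)⁻¹ := by rw [hw']; group
        _ = a := by rw [← hee]; group
    rwa [e2] at h5
  have hCx : ∀ a ∈ C, (x : G) * a * (x : G)⁻¹ ∈ C := fun a ha =>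
    hsub _ (hxD a ((hmemC a).1 ha).1) (commute_conj ((hmemC a).1 ha).2)
  have hCsymm : ∀ a ∈ C, ((x : G)⁻¹ * a * x) ∈ C := by
    intro a ha
    have h1 := hCx _ (hCx a ha)
    have e : (x : G) * ((x : G) * a * (x : G)⁻¹) * (x : G)⁻¹ = (x : G)⁻¹ * a * x := by
      have : (x : G) * x = (x : G)⁻¹ := eq_inv_of_mul_eq_one_left (by rw [← pow_three', hx3'])
      calc (x : G) * ((x : G) * a * (x : G)⁻¹) * (x : G)⁻¹ = (x : G) * x * a * ((x : G) * x)⁻¹ := by group
        _ = _ := by rw [this, inv_inv]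
    rwa [e] at h1
  have hCw : ∀ a ∈ C, Commute a w' := fun a ha => by
    have h1 := commute_conj (g := (x : G)) ((hmemC _).1 (hCsymm a ha)).2
    have e : (x : G) * ((x : G)⁻¹ * a * x) * (x : G)⁻¹ = a := by group
    rwa [e] at h1
  have hCu : ∀ a ∈ D, Commute a ((x : G) * w' * (x : G)⁻¹) → a ∈ C := fun a ha hau => by
    have haD : (x : G)⁻¹ * a * x ∈ D := by
      have := (Subgroup.mem_normalizer_iff.1 (inv_mem (hHN x.2)) a).1 ha
      simpa using this
    have h1 := hsub _ haD (commute_of_conj (g := (x : G)) (by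
      have e : (x : G) * ((x : G)⁻¹ * a * x) * (x : G)⁻¹ = a := by group
      rw [e]; exact hau))
    have h2 := hCx _ h1
    have e : (x : G) * ((x : G)⁻¹ * a * x) * (x : G)⁻¹ = a := by group
    rwa [e] at h2
  have hCu' : ∀ a ∈ C, Commute a ((x : G) * w' * (x : G)⁻¹) := fun a ha => by
    have h1 := commute_conj (g := (x : G)) (hCw _ (hCsymm a ha))
    have e : (x : G) * ((x : G)⁻¹ * a * x) * (x : G)⁻¹ = a := by group
    rwa [e] at h1
  -- the cosets of `D` in `S`
  have hdecomp : ∀ s ∈ S, ∃ a ∈ D, s = a ∨ s = a * (t : G) ∨ s = a * w' ∨ s = a * ((x : G) * w' * (x : G)⁻¹) := by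
    intro s hs
    have hlift : ∀ (u : H) (_ : π ⟨s, hSH hs⟩ = π u), ∃ a ∈ D, s = a * (u : G) := fun u hu => by
      refine ⟨s * (u : G)⁻¹, ?_, by group⟩
      simpa using (hkerD (⟨s, hSH hs⟩ * u⁻¹)).1 (by rw [map_mul, map_inv, hu, mul_inv_cancel])
    rcases (hmemS ⟨s, hSH hs⟩).1 hs with e | e | e | e
    · exact ⟨s, (hkerD _).1 e, Or.inl rfl⟩
    · obtain ⟨a, ha, hs'⟩ := hlift t (by rw [e, htπ])
      exact ⟨a, ha, Or.inr (Or.inl hs')⟩
    · obtain ⟨a, ha, hs'⟩ := hlift (x * t * x⁻¹) (by rw [e, map_mul, map_mul, map_inv, hx, htπ]; rfl)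
      exact ⟨a, ha, Or.inr (Or.inr (Or.inl hs'))⟩
    · obtain ⟨a, ha, hs'⟩ := hlift (x * (x * t * x⁻¹) * x⁻¹) (by
        rw [e, map_mul, map_mul, map_mul, map_mul, map_inv, hx, htπ]
        exact A5.facts.2.2.2.2.2.2.1.symm)
      exact ⟨a, ha, Or.inr (Or.inr (Or.inr hs'))⟩
  have hCS : D ⊓ Subgroup.centralizer (S : Set G) = C := by
    refine le_antisymm (fun a ha => (hmemC a).2 ⟨ha.1, (Subgroup.mem_centralizer_iff.1 ha.2 _ htS).symm⟩)
      fun a ha => ⟨((hmemC a).1 ha).1, Subgroup.mem_centralizer_iff.2 fun s hs => ?_⟩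
    obtain ⟨b, hb, hh⟩ := hdecomp s hs
    have hab : Commute b a := hDcomm b hb a ((hmemC a).1 ha).1
    rcases hh with rfl | rfl | rfl | rfl
    · exact hab
    · exact hab.mul_left ((hmemC a).1 ha).2.symm
    · exact hab.mul_left (hCw a ha).symm
    · exact hab.mul_left (hCu' a ha).symm
  refine ⟨S, hDS, hSH, hS2, hrel, hsq, ?_, by rw [hCS, hcardD], ?_, ⟨t, htS, htne, ht2⟩, ?_, hHcard, fun g => (hmemS g).2,
    t, x * t * x⁻¹, htπ, by rw [map_mul, map_mul, map_inv, hx, htπ]; rfl, ht2, sq_conj ht2, htw⟩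
  · intro s hs hsD a ha hc
    have hgoal : a ∈ C := by
      obtain ⟨b, hb, hh⟩ := hdecomp s hs
      have hcan : ∀ u : G, s = b * u → Commute a u := fun u e => by
        have h6 := (hDcomm a ha b hb).inv_right.mul_right hc
        rwa [e, inv_mul_cancel_left] at h6
      rcases hh with e | e | e | e
      · exact absurd (e ▸ hb) hsD
      · exact (hmemC a).2 ⟨ha, hcan _ e⟩
      · exact hsub a ha (hcan _ e)
      · exact hCu a ha (hcan _ e)
    rw [← hCS] at hgoal
    exact hgoal.2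
  · haveI := Fact.mk Nat.prime_five
    classical
    haveI := Fintype.ofFinite D
    let f : Function.End D := fun a => cj D y (hHN y.2) a
    have hf : f ^ 5 ^ 1 = 1 := by
      funext a
      rw [pow_one]
      apply Subtype.ext
      have e : (f ^ 5) a = (cj D y (hHN y.2))^[5] a := rfl
      rw [e, coe_cj_iterate, hy5]
      show (1 : G) * a * (1 : G)⁻¹ = a
      group
    have h1 := Equiv.Perm.card_fixedPoints_modEq (p := 5) (n := 1) hf
    have h2 : Fintype.card (Function.fixedPoints f) = 1 :=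
      Fintype.card_eq_one_iff.2 ⟨⟨1, map_one (cj D y (hHN y.2))⟩, fun a => Subtype.ext
        (h.cj_fpf hD Nat.prime_five (by norm_num) (hHN y.2) hy5 hy1 a.1 a.2)⟩
    rw [Nat.card_eq_fintype_card]
    rw [h2] at h1
    exact h1
  · intro T hST hTH hT
    refine (Subgroup.eq_of_le_of_card_ge hST ?_).symm
    haveI := Fact.mk Nat.prime_two
    obtain ⟨n, hn⟩ := IsPGroup.iff_card.1 hT
    obtain ⟨k, hk⟩ := IsPGroup.iff_card.1 hD
    have h1 := Subgroup.card_dvd_of_le hTH
    rw [hn, hHcard, hk] at h1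
    rw [hn, hScard, hk, show 2 ^ k * 4 = 2 ^ (k + 2) by rw [pow_add]; norm_num]
    refine Nat.pow_le_pow_right (by norm_num) ?_
    have h2 : 2 ^ n ∣ 2 ^ (k + 2) := by
      refine (Nat.Coprime.pow_left n (by norm_num : Nat.Coprime 2 15)).dvd_of_dvd_mul_right ?_
      rw [pow_add]
      rwa [show 2 ^ k * 2 ^ 2 * 15 = 2 ^ k * 60 by ring]
    exact (Nat.pow_dvd_pow_iff_le_right (by norm_num)).1 h2

end Cfsg.Agent.Orders5
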