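import Mathlib
import Cfsg.Agent.EqLemmas

/-
A fixed-point-free dihedral action on a 2-group `N` in which `(x * x^t)^2 = 1` for all `x`:
`N` is elementary abelian and the involution fixes exactly the elements `e * e^t`.

* `sq_eq_one`, `exists_eq_mul_apply`, `card_eq_sq`
-/

set_option autoImplicit false

open scoped commutatorElement

namespace Cfsg.Agent.Orders5.FpfDihedral

universe u

/-- The hypotheses: `φ` is fixed-point-free of odd order, `ψ` is an involution inverting it. -/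
structure Act {N : Type*} [Group N] (φ ψ : N ≃* N) : Prop where
  fpf : ∀ x, φ x = x → x = 1
  odd : ∃ m : ℕ, ∀ x, φ^[2 * m + 1] x = x
  invol : ∀ x, ψ (ψ x) = x
  rel : ∀ x, φ (ψ (φ x)) = ψ x

variable {N : Type*} [Group N] {φ ψ : N ≃* N}

namespace Act

theorem psi_phi (h : Act φ ψ) (x : N) : ψ (φ x) = φ.symm (ψ x) := by
  rw [← h.rel x, φ.symm_apply_apply]

theorem psi_symm (h : Act φ ψ) (x : N) : ψ (φ.symm x) = φ (ψ x) := by
  have := h.rel (φ.symm x)
  rwa [φ.apply_symm_apply, eq_comm] at this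

theorem iter (h : Act φ ψ) (k : ℕ) : ∀ x, φ^[k] (ψ (φ^[k] x)) = ψ x := by
  induction k with
  | zero => exact fun x => rfl
  | succ k ih =>
    intro x
    rw [Function.iterate_succ_apply' φ k, Function.iterate_succ_apply φ k x, ih (φ x), h.rel]

theorem eq_one_of_sq (h : Act φ ψ) {f : N} (hf : φ (φ f) = f) : f = 1 := by
  obtain ⟨m, hm⟩ := h.odd
  refine h.fpf f ?_
  have h1 : ∀ k, φ^[2 * k] f = f := by
    intro k
    induction k with
    | zero => rfl
    | succ k ih => rw [Nat.mul_succ, Function.iterate_add_apply, show φ^[2] f = f from hf, ih]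
  have h2 := hm f
  rwa [Function.iterate_succ_apply', h1] at h2

/-- Both generators fix an element only if it is trivial. -/
theorem eq_one_of_fixed (h : Act φ ψ) {f : N} (h1 : ψ f = f) (h2 : ψ (φ f) = φ f) : f = 1 := by
  refine h.eq_one_of_sq ?_
  rw [h.psi_phi, h1] at h2
  exact φ.eq_symm_apply.1 h2.symm |>.symm ▸ rfl

/-- The descent to a characteristic quotient. -/
theorem quotient [Finite N] (h : Act φ ψ) {Z : Subgroup N} [Z.Normal]
    (hφ : Z.map φ.toMonoidHom = Z) (hψ : Z.map ψ.toMonoidHom = Z) :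
    Act (QuotientGroup.congr Z Z φ hφ) (QuotientGroup.congr Z Z ψ hψ) := by
  have hit : ∀ k (x : N), (⇑(QuotientGroup.congr Z Z φ hφ))^[k] (x : N ⧸ Z) = ((φ^[k] x : N) : N ⧸ Z) := by
    intro k
    induction k with
    | zero => exact fun x => rfl
    | succ k ih => intro x; rw [Function.iterate_succ_apply, Function.iterate_succ_apply]; exact ih (φ x)
  refine ⟨?_, ?_, ?_, ?_⟩
  · intro q hq
    obtain ⟨x, rfl⟩ := QuotientGroup.mk_surjective q
    have hz : x⁻¹ * φ x ∈ Z := QuotientGroup.eq.1 hq.symm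
    have hmem : ∀ w : Z, (w : N)⁻¹ * φ w ∈ Z := fun w =>
      Z.mul_mem (Z.inv_mem w.2) (hφ.le ⟨w, w.2, rfl⟩)
    have hinj : Function.Injective (fun w : Z => (⟨(w : N)⁻¹ * φ w, hmem w⟩ : Z)) := by
      intro w w' e
      have e' : (w : N)⁻¹ * φ w = (w' : N)⁻¹ * φ w' := congrArg Subtype.val e
      refine Subtype.ext (mul_inv_eq_one.1 (h.fpf _ ?_))
      rw [map_mul, map_inv]
      calc φ w * (φ w')⁻¹ = (w : N) * ((w : N)⁻¹ * φ w) * (φ w')⁻¹ := by group
        _ = (w : N) * (w' : N)⁻¹ := by rw [e']; group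
    obtain ⟨w, hw⟩ := (Finite.injective_iff_surjective.1 hinj) ⟨_, hz⟩
    have e : (w : N)⁻¹ * φ w = x⁻¹ * φ x := congrArg Subtype.val hw
    have hx : x * (w : N)⁻¹ = 1 := by
      refine h.fpf _ ?_
      rw [map_mul, map_inv]
      calc φ x * (φ w)⁻¹ = x * (x⁻¹ * φ x) * (φ w)⁻¹ := by group
        _ = x * (w : N)⁻¹ := by rw [← e]; group
    rw [mul_inv_eq_one] at hx
    exact (QuotientGroup.eq_one_iff x).2 (hx ▸ w.2)
  · obtain ⟨m, hm⟩ := h.odd
    refine ⟨m, fun q => ?_⟩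
    obtain ⟨x, rfl⟩ := QuotientGroup.mk_surjective q
    rw [hit, hm]
  · intro q
    obtain ⟨x, rfl⟩ := QuotientGroup.mk_surjective q
    exact congrArg QuotientGroup.mk (h.invol x)
  · intro q
    obtain ⟨x, rfl⟩ := QuotientGroup.mk_surjective q
    exact congrArg QuotientGroup.mk (h.rel x)

end Act

/-- In the elementary abelian case the fixed points of `ψ` are the `e * ψ e`. -/
theorem exists_eq_mul_apply [Finite N] (h : Act φ ψ) (hsq : ∀ x : N, x * x = 1) {a : N} (ha : ψ a = a) :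
    ∃ e : N, a = e * ψ e := by
  have hcomm : ∀ x y : N, x * y = y * x := fun x y => by
    have hinv : ∀ z : N, z⁻¹ = z := fun z => inv_eq_of_mul_eq_one_right (hsq z)
    calc x * y = (x * y)⁻¹ := (hinv _).symm
      _ = y * x := by rw [mul_inv_rev, hinv, hinv]
  let : CommGroup N := { ‹Group N› with mul_comm := hcomm }
  obtain ⟨m, hm⟩ := h.odd
  let e : N := ∏ i ∈ Finset.range m, φ^[i + 1] a
  have hsplit : ∏ i ∈ Finset.range (2 * m + 1), φ^[i] a = 1 :=
    MonoidHom.FixedPointFree.prod_pow_eq_one (φ := φ) h.fpf (funext hm) a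
  rw [Finset.prod_range_succ', Function.iterate_zero_apply, two_mul, Finset.prod_range_add] at hsplit
  have hsecond : ∏ i ∈ Finset.range m, φ^[m + i + 1] a = ψ e := by
    rw [← Finset.prod_range_reflect, map_prod]
    refine Finset.prod_congr rfl fun i hi => ?_
    rw [Finset.mem_range] at hi
    apply φ.injective.iterate (i + 1)
    rw [h.iter, ha, ← Function.iterate_add_apply,
      show i + 1 + (m + (m - 1 - i) + 1) = 2 * m + 1 by omega, hm]
  rw [hsecond] at hsplit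
  refine ⟨e, ?_⟩
  calc a = (e * ψ e)⁻¹ := eq_inv_of_mul_eq_one_right hsplit
    _ = e * ψ e := inv_eq_of_mul_eq_one_right (hsq _)

/-- In the elementary abelian case the order is the square of that of the fixed point group. -/
theorem card_eq_sq [Finite N] (h : Act φ ψ) (hsq : ∀ x : N, x * x = 1) :
    Nat.card N = Nat.card {a : N // ψ a = a} ^ 2 := by
  have hcomm : ∀ x y : N, x * y = y * x := fun x y => by
    have hinv : ∀ z : N, z⁻¹ = z := fun z => inv_eq_of_mul_eq_one_right (hsq z)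
    calc x * y = (x * y)⁻¹ := (hinv _).symm
      _ = y * x := by rw [mul_inv_rev, hinv, hinv]
  let χ : N →* N := MonoidHom.mk' (fun e => e * ψ e) fun x y => by
    rw [map_mul]
    exact (show Commute y (ψ x) from hcomm _ _).mul_mul_mul_comm _ _
  have h1 : Nat.card χ.ker = Nat.card {a : N // ψ a = a} := Nat.card_congr (Equiv.subtypeEquivRight fun a => by
    rw [MonoidHom.mem_ker]
    show a * ψ a = 1 ↔ _
    rw [mul_eq_one_iff_eq_inv', inv_eq_of_mul_eq_one_right (hsq a)])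
  have h2 : Nat.card χ.range = Nat.card {a : N // ψ a = a} := Nat.card_congr (Equiv.subtypeEquivRight fun a => by
    constructor
    · rintro ⟨e, rfl⟩
      show ψ (e * ψ e) = e * ψ e
      rw [map_mul, h.invol, hcomm]
    · intro ha
      obtain ⟨e, he⟩ := exists_eq_mul_apply h hsq ha
      exact ⟨e, he.symm⟩)
  rw [← Subgroup.card_mul_index χ.ker, Subgroup.index_ker, h1, h2, pow_two]

theorem sq_of_comm (h : Act φ ψ) (hcomm : ∀ x y : N, x * y = y * x)
    (h4 : ∀ x : N, x ^ 4 = 1) (h2 : ∀ x : N, (x * ψ x) ^ 2 = 1) (x : N) : x * x = 1 := by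
  have hfix : ∀ y : N, ψ (y * y) = y * y := by
    intro y
    have e := h2 y
    rw [pow_two, (show Commute (ψ y) y from hcomm _ _).mul_mul_mul_comm, ← map_mul] at e
    rw [eq_inv_of_mul_eq_one_right e]
    refine inv_eq_of_mul_eq_one_right ?_
    rw [← h4 y, pow_succ, pow_succ, pow_succ, pow_one, mul_assoc (y * y)]
  refine h.eq_one_of_fixed (hfix x) ?_
  rw [map_mul φ]
  exact hfix (φ x)

theorem commutatorElement_mul_central {a b z w : N} (hz : ∀ x, z * x = x * z) (hw : ∀ x, w * x = x * w) :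
    ⁅a * z, b * w⁆ = ⁅a, b⁆ := by
  have hz' : ∀ x, z * x * z⁻¹ = x := fun x => by rw [hz, mul_inv_cancel_right]
  have hw' : ∀ x, w * x * w⁻¹ = x := fun x => by rw [hw, mul_inv_cancel_right]
  calc ⁅a * z, b * w⁆ = a * (z * b * w * z⁻¹) * a⁻¹ * w⁻¹ * b⁻¹ := by
        simp only [commutatorElement_def]; group
    _ = a * (b * w) * a⁻¹ * w⁻¹ * b⁻¹ := by rw [mul_assoc z b w, hz']
    _ = a * b * (w * a⁻¹ * w⁻¹) * b⁻¹ := by group
    _ = ⁅a, b⁆ := by rw [hw', commutatorElement_def]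

theorem commutatorElement_mul_right_central {a b c : N} (hc : ∀ x, ⁅a, c⁆ * x = x * ⁅a, c⁆) :
    ⁅a, b * c⁆ = ⁅a, b⁆ * ⁅a, c⁆ := by
  calc ⁅a, b * c⁆ = ⁅a, b⁆ * (b * ⁅a, c⁆ * b⁻¹) := by simp only [commutatorElement_def]; group
    _ = ⁅a, b⁆ * ⁅a, c⁆ := by rw [← hc, mul_inv_cancel_right]

theorem sq_eq_one_aux : ∀ (n : ℕ) (N : Type u) [Group N] [Finite N] (φ ψ : N ≃* N), Nat.card N = n →
    Act φ ψ → (∀ x : N, x ^ 4 = 1) → (∀ x : N, (x * ψ x) ^ 2 = 1) → ∀ x : N, x * x = 1 := by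
  intro n
  induction n using Nat.strong_induction_on with
  | _ n ih =>
  intro N _ _ φ ψ hn h h4 h2
  rcases subsingleton_or_nontrivial N with hs | hs
  · exact fun x => Subsingleton.elim _ _
  haveI : Fact (Nat.Prime 2) := ⟨Nat.prime_two⟩
  have hp : IsPGroup 2 N := fun g => ⟨2, h4 g⟩
  set Z := Subgroup.center N
  haveI : Nontrivial Z := hp.center_nontrivial
  have hZc : ∀ z ∈ Z, ∀ x, z * x = x * z := fun z hz x => (Subgroup.mem_center_iff.1 hz x).symm
  have hφ : Z.map φ.toMonoidHom = Z := Subgroup.characteristic_iff_map_eq.1 inferInstance φ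
  have hψ : Z.map ψ.toMonoidHom = Z := Subgroup.characteristic_iff_map_eq.1 inferInstance ψ
  -- the centre is elementary
  have hZsq : ∀ z ∈ Z, z * z = 1 := by
    intro z hz
    refine h.eq_one_of_fixed (f := z * z) ?_ ?_
    all_goals
      have hfix : ∀ y ∈ Z, ψ (y * y) = y * y := fun y hy => by
        have e := h2 y
        rw [pow_two, (show Commute (ψ y) y from (hZc y hy _).symm).mul_mul_mul_comm, ← map_mul] at e
        rw [eq_inv_of_mul_eq_one_right e]
        refine inv_eq_of_mul_eq_one_right ?_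
        rw [← h4 y, pow_succ, pow_succ, pow_succ, pow_one, mul_assoc (y * y)]
    · exact hfix z hz
    · rw [map_mul φ]; exact hfix _ (hφ.le ⟨z, hz, rfl⟩)
  have hZinv : ∀ z ∈ Z, z⁻¹ = z := fun z hz => inv_eq_of_mul_eq_one_right (hZsq z hz)
  -- the quotient
  let φQ := QuotientGroup.congr Z Z φ hφ
  let ψQ := QuotientGroup.congr Z Z ψ hψ
  have hQ : Act φQ ψQ := h.quotient hφ hψ
  have hlt : Nat.card (N ⧸ Z) < n := by
    rw [← hn, ← Subgroup.card_mul_index Z, ← Subgroup.index_eq_card]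
    exact lt_mul_of_one_lt_left (Nat.pos_of_ne_zero Subgroup.index_ne_zero_of_finite)
      (Finite.one_lt_card)
  have hQsq : ∀ q : N ⧸ Z, q * q = 1 := ih _ hlt (N ⧸ Z) φQ ψQ rfl hQ
    (fun q => by obtain ⟨x, rfl⟩ := QuotientGroup.mk_surjective q; rw [← QuotientGroup.mk_pow, h4]; rfl)
    (fun q => by
      obtain ⟨x, rfl⟩ := QuotientGroup.mk_surjective q
      show ((x : N ⧸ Z) * ((ψ x : N) : N ⧸ Z)) ^ 2 = 1
      rw [← QuotientGroup.mk_mul, ← QuotientGroup.mk_pow, h2]; rfl)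
  have hQinv : ∀ q : N ⧸ Z, q⁻¹ = q := fun q => inv_eq_of_mul_eq_one_right (hQsq q)
  have hQcomm : ∀ p q : N ⧸ Z, p * q = q * p := fun p q => by
    calc p * q = (p * q)⁻¹ := (hQinv _).symm
      _ = q * p := by rw [mul_inv_rev, hQinv, hQinv]
  have hcZ : ∀ a b : N, ⁅a, b⁆ ∈ Z := fun a b => by
    rw [← QuotientGroup.eq_one_iff, commutatorElement_def]
    simp only [QuotientGroup.mk_mul, QuotientGroup.mk_inv, hQinv]
    rw [hQcomm a b, mul_assoc (b : N ⧸ Z) a a, hQsq, mul_one, hQsq]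
  have hflip : ∀ a b : N, ⁅b, a⁆ = ⁅a, b⁆ := fun a b => by
    rw [← commutatorElement_inv a b, hZinv _ (hcZ a b)]
  -- lifts of fixed elements
  let P : N → Prop := fun a => ψQ (a : N ⧸ Z) = (a : N ⧸ Z)
  have hPz : ∀ a, P a → ∃ z ∈ Z, ψ a = a * z := fun a ha =>
    ⟨a⁻¹ * ψ a, QuotientGroup.eq.1 (Eq.symm ha), by group⟩
  have hPsq : ∀ a, P a → a * a = 1 := by
    intro a ha
    obtain ⟨q, hq⟩ := exists_eq_mul_apply hQ hQsq ha
    obtain ⟨e, rfl⟩ := QuotientGroup.mk_surjective q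
    have hz : (e * ψ e)⁻¹ * a ∈ Z := QuotientGroup.eq.1 (show ((e * ψ e : N) : N ⧸ Z) = a from hq.symm)
    have e1 := h2 e
    rw [pow_two] at e1
    have key : a = (e * ψ e) * ((e * ψ e)⁻¹ * a) := by group
    rw [key, (show Commute ((e * ψ e)⁻¹ * a) (e * ψ e) from hZc _ hz _).mul_mul_mul_comm, e1,
      hZsq _ hz, one_mul]
  have hPmul : ∀ a b, P a → P b → P (a * b) := fun a b ha hb => by
    show ψQ ((a : N ⧸ Z) * (b : N ⧸ Z)) = (a : N ⧸ Z) * (b : N ⧸ Z)
    rw [map_mul, ha, hb]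
  have hPcomm : ∀ a b, P a → P b → a * b = b * a := fun a b ha hb => by
    calc a * b = (a * b)⁻¹ := (inv_eq_of_mul_eq_one_right (hPsq _ (hPmul a b ha hb))).symm
      _ = b * a := by
        rw [mul_inv_rev, inv_eq_of_mul_eq_one_right (hPsq a ha), inv_eq_of_mul_eq_one_right (hPsq b hb)]
  have hswap : ∀ b, P b → ((ψ (φ b) : N) : N ⧸ Z) = (φ.symm b : N ⧸ Z) := fun b hb => by
    obtain ⟨z, hz, e⟩ := hPz b hb
    rw [h.psi_phi, e, map_mul, QuotientGroup.mk_mul,
      (QuotientGroup.eq_one_iff _).2 (show φ.symm z ∈ Z by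
        obtain ⟨w, hw, hwz⟩ := hφ.ge hz
        rw [← hwz]; simpa using hw), mul_one]
  have hfixed : ∀ a b, P a → P b → ψ ⁅a, φ b⁆ = ⁅a, φ b⁆ := by
    intro a b ha hb
    set b' := φ b * φ.symm b with hb'
    have hPb' : P b' := by
      show ψQ (b' : N ⧸ Z) = b'
      rw [hb', QuotientGroup.mk_mul, map_mul]
      show ((ψ (φ b) : N) : N ⧸ Z) * ((ψ (φ.symm b) : N) : N ⧸ Z) = _
      rw [hswap b hb, h.psi_symm]
      obtain ⟨z, hz, e⟩ := hPz b hb
      rw [e, map_mul, QuotientGroup.mk_mul Z (φ b),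
        (QuotientGroup.eq_one_iff _).2 (show φ z ∈ Z from hφ.le ⟨z, hz, rfl⟩), mul_one, hQcomm]
    have h1 : ⁅a, b'⁆ = 1 := commutatorElement_eq_one_iff_mul_comm.2 (hPcomm a b' ha hPb')
    rw [hb', commutatorElement_mul_right_central (fun x => hZc _ (hcZ _ _) x),
      mul_eq_one_iff_eq_inv] at h1
    rw [hZinv _ (hcZ _ _)] at h1
    obtain ⟨z, hz, e⟩ := hPz a ha
    obtain ⟨w, hw, e'⟩ : ∃ w ∈ Z, ψ (φ b) = φ.symm b * w :=
      ⟨(φ.symm b)⁻¹ * ψ (φ b), QuotientGroup.eq.1 (hswap b hb).symm, by group⟩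
    rw [map_commutatorElement, e, e', commutatorElement_mul_central (hZc z hz) (hZc w hw), h1]
  have hcross : ∀ a b, P a → P b → a * φ b = φ b * a := by
    intro a b ha hb
    refine commutatorElement_eq_one_iff_mul_comm.1 (h.eq_one_of_fixed (hfixed a b ha hb) ?_)
    -- `φ ⁅a, φ b⁆ = ⁅b, φ a⁆`
    have e : φ ⁅a, φ b⁆ = ⁅b, φ a⁆ := by
      obtain ⟨z, hz, e⟩ := hPz a ha
      obtain ⟨w, hw, e'⟩ : ∃ w ∈ Z, ψ (φ b) = φ.symm b * w :=
        ⟨(φ.symm b)⁻¹ * ψ (φ b), QuotientGroup.eq.1 (hswap b hb).symm, by group⟩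
      conv_lhs => rw [← hfixed a b ha hb]
      rw [map_commutatorElement ψ,
        e, e', commutatorElement_mul_central (hZc z hz) (hZc w hw), map_commutatorElement,
        φ.apply_symm_apply, hflip]
    rw [e]
    exact hfixed b a hb ha
  -- generation
  have hgen : ∀ x : N, ∃ a b z, P a ∧ P b ∧ z ∈ Z ∧ x = a * φ b * z := by
    let C := {q : N ⧸ Z // ψQ q = q}
    let f : C × C → N ⧸ Z := fun c => c.1.1 * φQ c.2.1
    have hf : Function.Injective f := by
      rintro ⟨c, d⟩ ⟨c', d'⟩ e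
      have e1 : c.1 * φQ d.1 = c'.1 * φQ d'.1 := e
      have e2 : c'.1 * c.1 = φQ (d.1 * d'.1) := by
        rw [map_mul]
        calc c'.1 * c.1 = c'.1 * (c.1 * φQ d.1) * φQ d.1 := by
              rw [mul_assoc, mul_assoc, hQsq, mul_one]
          _ = φQ d.1 * φQ d'.1 := by rw [e1, ← mul_assoc, hQsq, one_mul, hQcomm]
      have hdd : d.1 * d'.1 = 1 := by
        refine hQ.eq_one_of_fixed (by rw [map_mul, d.2, d'.2]) ?_
        rw [← e2, map_mul, c.2, c'.2]
      rw [hdd, map_one] at e2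
      have hd : d.1 = d'.1 := by rw [← hQinv d'.1]; exact eq_inv_of_mul_eq_one_left hdd
      have hc : c.1 = c'.1 := by rw [← hQinv c'.1]; exact eq_inv_of_mul_eq_one_right e2
      exact Prod.ext (Subtype.ext hc) (Subtype.ext hd)
    have hsurj : Function.Surjective f := ((Nat.bijective_iff_injective_and_card f).2 ⟨hf, by
      rw [Nat.card_prod, card_eq_sq hQ hQsq, pow_two]⟩).2
    intro x
    obtain ⟨⟨⟨p, hp⟩, ⟨q, hq⟩⟩, hx⟩ := hsurj (x : N ⧸ Z)
    obtain ⟨a, rfl⟩ := QuotientGroup.mk_surjective p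
    obtain ⟨b, rfl⟩ := QuotientGroup.mk_surjective q
    exact ⟨a, b, (a * φ b)⁻¹ * x, hp, hq,
      QuotientGroup.eq.1 (show ((a * φ b : N) : N ⧸ Z) = x from hx), by group⟩
  have hcomm : ∀ x y : N, x * y = y * x := by
    intro x y
    obtain ⟨a, b, z, ha, hb, hz, rfl⟩ := hgen x
    obtain ⟨c, d, w, hc, hd, hw, rfl⟩ := hgen y
    have hzc : ∀ u, Commute z u := fun u => hZc z hz u
    have hwc : ∀ u, Commute u w := fun u => (hZc w hw u).symm
    have h11 : Commute a c := hPcomm a c ha hc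
    have h12 : Commute a (φ d) := hcross a d ha hd
    have h21 : Commute (φ b) c := (hcross c b hc hb).symm
    have h22 : Commute (φ b) (φ d) := (show Commute b d from hPcomm b d hb hd).map φ
    exact (((h11.mul_right h12).mul_right (hwc a)).mul_left
      ((h21.mul_right h22).mul_right (hwc _))).mul_left (hzc _)
  exact sq_of_comm h hcomm h4 h2

/-- A 2-group with such an action is elementary abelian. -/
theorem sq_eq_one {N : Type*} [Group N] [Finite N] {φ ψ : N ≃* N} (h : Act φ ψ)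
    (h4 : ∀ x : N, x ^ 4 = 1) (h2 : ∀ x : N, (x * ψ x) ^ 2 = 1) (x : N) : x * x = 1 :=
  sq_eq_one_aux _ N φ ψ rfl h h4 h2 x

end Cfsg.Agent.Orders5.FpfDihedral
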