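import Cfsg.Agent.Lib.Orders5.Local
import Cfsg.Agent.Lib.Orders5.FpfDihedral
import Cfsg.Agent.S0058

/-
Odd elements acting on 2-subgroups of a group with element orders at most five.

* `exists_adjust` : a normaliser of `⟨y⟩D` can be adjusted by `D` to normalise `⟨y⟩`
* `dihedral` : a 2-subgroup normalised by an inverted odd element is elementary abelian of square order
* `eq_zpowers_of_act` : a p-group acting on a nontrivial 2-subgroup has order p
-/

set_option autoImplicit false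

namespace Cfsg.Agent.Orders5

variable {G : Type*} [Group G]

/-- Conjugation on a subgroup. -/
def cj (D : Subgroup G) (x : G) (hx : x ∈ Subgroup.normalizer (D : Set G)) : D ≃* D where
  toFun d := ⟨x * d * x⁻¹, (Subgroup.mem_normalizer_iff.1 hx d).1 d.2⟩
  invFun d := ⟨x⁻¹ * d * x, (Subgroup.mem_normalizer_iff.1 hx _).2 (by simp [mul_assoc])⟩
  left_inv d := Subtype.ext (by simp [mul_assoc])
  right_inv d := Subtype.ext (by simp [mul_assoc])
  map_mul' a b := Subtype.ext (by simp [mul_assoc])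

@[simp] theorem coe_cj (D : Subgroup G) (x : G) (hx : x ∈ Subgroup.normalizer (D : Set G)) (d : D) :
    (cj D x hx d : G) = x * d * x⁻¹ := rfl

theorem coe_cj_iterate (D : Subgroup G) (x : G) (hx : x ∈ Subgroup.normalizer (D : Set G)) (n : ℕ) :
    ∀ d : D, (((cj D x hx)^[n] d : D) : G) = x ^ n * d * (x ^ n)⁻¹ := by
  induction n with
  | zero => intro d; simp
  | succ n ih =>
    intro d
    rw [Function.iterate_succ_apply', coe_cj, ih, pow_succ']
    group

theorem Ord5.cj_fpf (h : Ord5 G) {D : Subgroup G} (hD : IsPGroup 2 D) {p : ℕ} (hp : p.Prime)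
    (hp2 : p ≠ 2) {x : G} (hxD : x ∈ Subgroup.normalizer (D : Set G)) (hx : x ^ p = 1) (hx1 : x ≠ 1)
    (d : D) (hd : cj D x hxD d = d) : d = 1 :=
  Subtype.ext (h.fpf hp hp2 hx hx1 (h.pow_four_of_isPGroup hD d.2)
    (mul_inv_eq_iff_eq_mul.1 (congrArg Subtype.val hd)).symm)

variable [Finite G]

/-- An element conjugating `y` to an element of `y' D` can be adjusted to conjugate it to `y'`. -/
theorem exists_adjust (h : Ord5 G) {D : Subgroup G} (hD : IsPGroup 2 D) {p : ℕ} (hp : p.Prime)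
    (hp2 : p ≠ 2) {y' : G} (hy'D : y' ∈ Subgroup.normalizer (D : Set G)) (hy' : y' ^ p = 1) (hy'1 : y' ≠ 1)
    {u : G} (hu : y'⁻¹ * u ∈ D) : ∃ d ∈ D, d * u * d⁻¹ = y' := by
  have hinj : Function.Injective fun e : D => (cj D (y'⁻¹) (inv_mem hy'D) e) * e⁻¹ := by
    intro a b hab
    refine inv_mul_eq_one.1 (h.cj_fpf hD hp hp2 (inv_mem hy'D) (by rw [inv_pow, hy', inv_one])
      (inv_ne_one.2 hy'1) (a⁻¹ * b) ?_)
    rw [map_mul, map_inv]
    have hab' : cj D (y'⁻¹) (inv_mem hy'D) a * a⁻¹ = cj D (y'⁻¹) (inv_mem hy'D) b * b⁻¹ := hab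
    calc (cj D (y'⁻¹) (inv_mem hy'D) a)⁻¹ * cj D (y'⁻¹) (inv_mem hy'D) b =
        a⁻¹ * (cj D (y'⁻¹) (inv_mem hy'D) a * a⁻¹)⁻¹ * (cj D (y'⁻¹) (inv_mem hy'D) b * b⁻¹) * b := by group
      _ = a⁻¹ * b := by rw [hab']; group
  obtain ⟨e, he⟩ := Finite.injective_iff_surjective.1 hinj ⟨_, hu⟩
  refine ⟨(e : G)⁻¹, D.inv_mem e.2, ?_⟩
  have h1 : y'⁻¹ * e * y'⁻¹⁻¹ * (e : G)⁻¹ = y'⁻¹ * u := congrArg Subtype.val he
  calc (e : G)⁻¹ * u * (e : G)⁻¹⁻¹ = (e : G)⁻¹ * (y' * (y'⁻¹ * u)) * e := by group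
    _ = y' := by rw [← h1]; group

/-- A 2-subgroup normalised by an odd element and an involution inverting it. -/
theorem dihedral (h : Ord5 G) {D : Subgroup G} (hD : IsPGroup 2 D) {p : ℕ} (hp : p.Prime)
    (hp2 : p ≠ 2) {y t : G} (hyD : y ∈ Subgroup.normalizer (D : Set G)) (hy : y ^ p = 1) (hy1 : y ≠ 1)
    (htD : t ∈ Subgroup.normalizer (D : Set G)) (ht : t * t = 1) (hinv : t * y * t⁻¹ = y⁻¹) :
    (∀ d ∈ D, d * d = 1) ∧
      Nat.card D = Nat.card (D ⊓ Subgroup.centralizer ({t} : Set G) : Subgroup G) ^ 2 ∧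
      ∀ c ∈ D, Commute c t → ∃ e ∈ D, c = e * (t * e * t⁻¹) := by
  obtain ⟨m, hm⟩ : ∃ m, p = 2 * m + 1 := hp.odd_of_ne_two hp2
  have hti : t⁻¹ = t := inv_eq_of_mul_eq_one_right ht
  have hAct : FpfDihedral.Act (cj D y hyD) (cj D t htD) := by
    refine ⟨h.cj_fpf hD hp hp2 hyD hy hy1, ⟨m, fun d => Subtype.ext ?_⟩, fun d => Subtype.ext ?_,
      fun d => Subtype.ext ?_⟩
    · rw [coe_cj_iterate, ← hm, hy]; group
    · show t * (t * (d : G) * t⁻¹) * t⁻¹ = d
      rw [hti, ← mul_assoc, ← mul_assoc, ht, one_mul, mul_assoc, ht, mul_one]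
    · show y * (t * (y * (d : G) * y⁻¹) * t⁻¹) * y⁻¹ = t * d * t⁻¹
      have h1 : t * y = y⁻¹ * t := mul_inv_eq_iff_eq_mul.1 hinv
      calc y * (t * (y * (d : G) * y⁻¹) * t⁻¹) * y⁻¹ = y * (t * y) * d * (y * (t * y))⁻¹ := by group
        _ = _ := by rw [h1, mul_inv_cancel_left]
  have h4 : ∀ d : D, d ^ 4 = 1 := fun d => Subtype.ext (by simpa using h.pow_four_of_isPGroup hD d.2)
  have h2 : ∀ d : D, (d * cj D t htD d) ^ 2 = 1 := by
    intro d
    refine Subtype.ext ?_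
    show ((d : G) * (t * d * t⁻¹)) ^ 2 = 1
    have e : ((d : G) * (t * d * t⁻¹)) = ((d : G) * t) ^ 2 := by rw [hti, pow_two]; group
    rw [e, ← pow_mul]
    have h8 : ((d : G) * t) ^ (2 ^ 3) = 1 := by
      have h' : ((d : G) * (t * d * t⁻¹)) ^ 4 = 1 :=
        h.pow_four_of_isPGroup hD (D.mul_mem d.2 ((Subgroup.mem_normalizer_iff.1 htD d).1 d.2))
      rw [e, ← pow_mul] at h'
      exact h'
    obtain ⟨k, -, hk⟩ := (Nat.dvd_prime_pow Nat.prime_two).1 (orderOf_dvd_of_pow_eq_one h8)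
    exact h.pow_four hk
  have hsq := FpfDihedral.sq_eq_one hAct h4 h2
  refine ⟨fun d hd => congrArg Subtype.val (hsq ⟨d, hd⟩), ?_, fun c hc hct => ?_⟩
  · rw [FpfDihedral.card_eq_sq hAct hsq]
    congr 1
    refine Nat.card_congr
      { toFun := fun a => ⟨(a.1 : G), a.1.2, Subgroup.mem_centralizer_singleton_iff.2
          (mul_inv_eq_iff_eq_mul.1 (congrArg Subtype.val a.2)).symm⟩
        invFun := fun a => ⟨⟨a.1, a.2.1⟩, Subtype.ext (mul_inv_eq_iff_eq_mul.2
          (Subgroup.mem_centralizer_singleton_iff.1 a.2.2).symm)⟩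
        left_inv := fun a => rfl
        right_inv := fun a => rfl }
  · obtain ⟨e, he⟩ := FpfDihedral.exists_eq_mul_apply hAct hsq (a := ⟨c, hc⟩)
      (Subtype.ext (mul_inv_eq_iff_eq_mul.2 hct.eq.symm))
    exact ⟨e, e.2, congrArg Subtype.val he⟩

omit [Finite G] in
/-- An involution normalising `⟨y⟩` inverts `y`. -/
theorem inverts_of_fpf (h : Ord5 G) {p : ℕ} (hp : p.Prime) (hp2 : p ≠ 2) {t : G} (ht : t * t = 1)
    (ht1 : t ≠ 1) {y : G} (hy : y ^ p = 1) (hn : ∃ i : ℕ, t * y * t⁻¹ = y ^ i) :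
    t * y * t⁻¹ = y⁻¹ := by
  obtain ⟨i, hi⟩ := hn
  have hti : t⁻¹ = t := inv_eq_of_mul_eq_one_right ht
  have hc : Commute t (y * (t * y * t⁻¹)) := by
    show t * (y * (t * y * t⁻¹)) = y * (t * y * t⁻¹) * t
    have hyy : Commute y (t * y * t⁻¹) := hi ▸ (Commute.refl y).pow_right i
    rw [hyy.eq, hti]
    calc t * (t * y * t * y) = (t * t) * (y * t * y) := by group
      _ = (t * y * t * y) * t := by
        rw [ht, one_mul]
        have e := hyy.eq
        rw [hti] at e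
        rw [← e]
        calc y * t * y = y * t * y * (t * t) := by rw [ht, mul_one]
          _ = _ := by group
  have hpow : (y * (t * y * t⁻¹)) ^ p = 1 := by
    rw [hi, ← pow_succ', ← pow_mul, mul_comm, pow_mul, hy, one_pow]
  rcases h.eq_one_of_coprime hc (show t ^ 2 = 1 by rw [pow_two]; exact ht) hpow
    ((Nat.coprime_primes Nat.prime_two hp).2 (Ne.symm hp2)) with e | e
  · exact absurd e ht1
  · exact eq_inv_of_mul_eq_one_right e

/-- A p-group (p odd) acting on a nontrivial 2-subgroup has order p. -/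
theorem eq_zpowers_of_act (h : Ord5 G) {D : Subgroup G} (hD : IsPGroup 2 D) (hD1 : D ≠ ⊥) {p : ℕ}
    (hp : p.Prime) (hp2 : p ≠ 2) {P : Subgroup G} (hP : IsPGroup p P)
    (hPD : P ≤ Subgroup.normalizer (D : Set G)) (hP1 : P ≠ ⊥) :
    ∃ y ∈ P, y ≠ 1 ∧ P = Subgroup.zpowers y := by
  haveI := Fact.mk hp
  haveI : Nontrivial P := (Subgroup.nontrivial_iff_ne_bot P).2 hP1
  haveI := hP.center_nontrivial
  obtain ⟨c, hc⟩ := exists_ne (1 : Subgroup.center P)
  set y : G := ((c : P) : G) with hy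
  have hy1 : y ≠ 1 := fun e => hc (Subtype.ext (Subtype.ext e))
  have hyP : y ∈ P := (c : P).2
  have hyp : y ^ p = 1 := h.pow_prime_of_isPGroup hp2 hP hyP
  refine ⟨y, hyP, hy1, le_antisymm (fun g hg => ?_) (Subgroup.zpowers_le.2 hyP)⟩
  by_contra hgy
  have hcomm : Commute g y := congrArg Subtype.val (Subgroup.mem_center_iff.1 c.2 ⟨g, hg⟩)
  set A := Subgroup.closure ({y, g} : Set G) with hA
  have hAP : A ≤ P := (Subgroup.closure_le _).2 (by
    intro x hx
    rcases hx with rfl | hx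
    · exact hyP
    · rw [Set.mem_singleton_iff] at hx
      exact hx ▸ hg)
  haveI : IsMulCommutative A := Subgroup.isMulCommutative_closure (by
    intro a ha b hb
    rcases ha with rfl | ha <;> rcases hb with rfl | hb <;>
      first | rfl | (simp only [Set.mem_singleton_iff] at *; subst_vars; first | rfl | exact hcomm.eq | exact hcomm.symm.eq))
  have hnc : ¬ IsCyclic A := by
    intro hcyc
    obtain ⟨a, ha⟩ := IsCyclic.exists_ofOrder_eq_natCard (α := A)
    have h1 : orderOf a ∣ p := orderOf_dvd_of_pow_eq_one (Subtype.ext (h.pow_prime_of_isPGroup hp2 hP (hAP a.2)))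
    have h2 : Subgroup.zpowers y = A := Subgroup.eq_of_le_of_card_ge
      (Subgroup.zpowers_le.2 (Subgroup.subset_closure (Set.mem_insert _ _))) (by
        rw [Nat.card_zpowers, orderOf_eq_prime hyp hy1, ← ha]
        exact Nat.le_of_dvd hp.pos h1)
    exact hgy (h2 ▸ Subgroup.subset_closure (Set.mem_insert_of_mem _ rfl))
  have hcop : (Nat.card A).Coprime (Nat.card D) := by
    obtain ⟨a, ha⟩ := IsPGroup.iff_card.1 (hP.to_le hAP)
    obtain ⟨b, hb⟩ := IsPGroup.iff_card.1 hD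
    rw [ha, hb]
    exact ((Nat.coprime_primes hp Nat.prime_two).2 hp2).pow _ _
  refine hD1 (eq_bot_iff.2 ?_)
  rw [← S0058.result A D hnc (hAP.trans hPD) hcop]
  refine iSup₂_le fun a ha d hd => ?_
  rw [Subgroup.mem_bot]
  exact h.fpf hp hp2 (h.pow_prime_of_isPGroup hp2 hP (hAP ha.1)) ha.2 (h.pow_four_of_isPGroup hD hd.1)
    (Subgroup.mem_centralizer_singleton_iff.1 hd.2)

end Cfsg.Agent.Orders5
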