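import Cfsg.Agent.Lib.Orders5.Main
import Cfsg.Agent.Lib.Spectrum.Affine
import Cfsg.Agent.Lib.Solvable.Gaschutz
import Cfsg.Agent.Lib.GLOrder.Basic

/-
A group with element orders at most five which is an extension of a nontrivial 2-group by `A₅` contains
the affine group `F² : SL₂(4)`.

* `A5.generated`, `exists_affine_hom`
-/

set_option autoImplicit false

open Matrix

namespace Cfsg.Agent.Orders5

namespace A5

/-- An involution inverting `x3`. -/
def tt : Alt := ⟨Equiv.swap 0 1 * Equiv.swap 3 4, Equiv.Perm.mem_alternatingGroup.2 (by decide)⟩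

theorem tt_facts : tt * tt = 1 ∧ tt * x3 * tt⁻¹ = x3⁻¹ ∧ (tt * v0) * (tt * v0) * (tt * v0) = 1 ∧ tt * v0 ≠ 1 := by
  decide +kernel

/-- `x3`, `tt` and `v0` generate. -/
theorem generated : Subgroup.closure ({x3, tt, v0} : Set Alt) = ⊤ := by
  classical
  set K := Subgroup.closure ({x3, tt, v0} : Set Alt) with hK
  have hx : x3 ∈ K := Subgroup.subset_closure (by simp)
  have ht : tt ∈ K := Subgroup.subset_closure (by simp)
  have hv : v0 ∈ K := Subgroup.subset_closure (by simp)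
  have hw : w ∈ K := K.mul_mem (K.mul_mem hx hv) (K.inv_mem hx)
  let f : Fin 3 × Fin 2 × Fin 2 × Fin 3 → Alt := fun p =>
    x3 ^ (p.1 : ℕ) * v0 ^ (p.2.1 : ℕ) * w ^ (p.2.2.1 : ℕ) * ((v0 * tt) ^ (p.2.2.2 : ℕ))
  have hmem : ∀ p, f p ∈ K := fun p =>
    K.mul_mem (K.mul_mem (K.mul_mem (pow_mem hx _) (pow_mem hv _)) (pow_mem hw _)) (pow_mem (K.mul_mem hv ht) _)
  have hcard : (Finset.univ.image f).card = 36 := by decide +kernel
  have h1 : 36 ≤ Nat.card K := by
    have h3 := Set.ncard_le_ncard (t := (K : Set Alt)) (s := ((Finset.univ.image f : Finset Alt) : Set Alt))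
      (fun y hy => by
        obtain ⟨p, -, rfl⟩ := Finset.mem_image.1 (Finset.mem_coe.1 hy)
        exact hmem p) (Set.toFinite _)
    rw [Set.ncard_coe_finset, hcard, ← Nat.card_coe_set_eq] at h3
    simpa only [SetLike.coe_sort_coe] using h3
  have h2 := Subgroup.card_mul_index K
  rw [card_alt] at h2
  refine Subgroup.index_eq_one.1 ?_
  by_contra hne
  have h3 : 2 ≤ K.index := by
    have := Subgroup.index_ne_zero_of_finite (H := K)
    omega
  nlinarith

end A5

open A5 in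
/-- The affine group embeds. -/
theorem exists_affine_hom {G : Type*} [Group G] [Finite G] (h : Ord5 G) (π : G →* A5.Alt)
    (hπ : Function.Surjective π) (hk : IsPGroup 2 π.ker) (hne : π.ker ≠ ⊥) :
    ∃ (F : Type) (_ : Field F) (_ : Fintype F), Fintype.card F = 4 ∧
      ∃ Φ : Subgroup.closure (Spectrum.affSet F) →* G, Function.Injective Φ := by
  classical
  set D := π.ker with hDdef
  let π' : (⊤ : Subgroup G) →* A5.Alt := π.comp (Subgroup.topEquiv).toMonoidHom
  obtain ⟨S, hDS, -, -, hrel, hsq, hcentr, hDcard, -, -, -, hGcard, hVS, a₀, b₀, ha₀, hb₀, ha2, hb2, hab⟩ :=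
    frame h (D := π.ker) (H := ⊤) le_top (by rw [Subgroup.normalizer_eq_top (H := π.ker)]) hk hne π'
      (hπ.comp Subgroup.topEquiv.surjective) (by ext x; rfl)
  rw [Subgroup.card_top] at hGcard
  have hDinv : ∀ d ∈ D, d⁻¹ = d := fun d hd => inv_eq_of_mul_eq_one_right (hsq d hd)
  have hDcomm : ∀ a ∈ D, ∀ b ∈ D, Commute a b := fun a ha b hb => Count.inv_mul_comm hsq ha hb
  haveI : IsMulCommutative D := ⟨⟨fun a b => Subtype.ext (hDcomm a a.2 b b.2).eq⟩⟩
  -- a four-group complementing `D` in `S`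
  set a : G := (a₀ : G)
  set b : G := (b₀ : G)
  have hπa : π a = v0 := ha₀
  have hπb : π b = w := hb₀
  have hVmem : ∀ g : G, π g ∈ V → g ∈ S := fun g hg => hVS ⟨g, Subgroup.mem_top g⟩ hg
  have haS : a ∈ S := hVmem a (hπa ▸ v0_mem)
  have hbS : b ∈ S := hVmem b (hπb ▸ Or.inr (Or.inr (Or.inl rfl)))
  let A : Subgroup G :=
    { carrier := {g | g = 1 ∨ g = a ∨ g = b ∨ g = a * b}
      one_mem' := Or.inl rfl
      mul_mem' := by
        have e1 : b * a = a * b := hab.eq.symm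
        have e2 : ∀ y, a * (a * y) = y := fun y => by rw [← mul_assoc, ha2, one_mul]
        have e3 : ∀ y, b * (b * y) = y := fun y => by rw [← mul_assoc, hb2, one_mul]
        have e4 : ∀ y, b * (a * y) = a * (b * y) := fun y => by rw [← mul_assoc, e1, mul_assoc]
        rintro g₁ g₂ (rfl | rfl | rfl | rfl) (rfl | rfl | rfl | rfl) <;>
          simp [mul_assoc, ha2, hb2, e1, e2, e3, e4]
      inv_mem' := by
        have hai : a⁻¹ = a := inv_eq_of_mul_eq_one_right ha2
        have hbi : b⁻¹ = b := inv_eq_of_mul_eq_one_right hb2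
        rintro g (rfl | rfl | rfl | rfl) <;> simp [hai, hbi, hab.eq] }
  obtain ⟨hv2, hv1, hw2, hw1, hwv, -, -, -, hx3, hx31, -, -, -, hvw1⟩ := A5.facts
  have hAD : A ⊓ D = ⊥ := by
    refine eq_bot_iff.2 fun g hg => Subgroup.mem_bot.2 ?_
    obtain ⟨hgA, hgD⟩ := hg
    have hg1 : π g = 1 := MonoidHom.mem_ker.1 hgD
    rcases hgA with rfl | rfl | rfl | rfl
    · rfl
    · exact absurd (hπa ▸ hg1) hv1
    · exact absurd (hπb ▸ hg1) hw1
    · rw [map_mul, hπa, hπb] at hg1; exact absurd hg1 hvw1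
  have hScard : Nat.card S = Nat.card D * 4 := by
    rw [← hrel, ← Nat.card_congr (Subgroup.subgroupOfEquivOfLe hDS).toEquiv]
    exact (Subgroup.card_mul_index (D.subgroupOf S)).symm
  have hA4 : 4 ≤ Nat.card A := by
    have h4 : (A : Set G) = ↑({1, a, b, a * b} : Finset G) := by
      ext g
      simp only [Finset.coe_insert, Finset.coe_singleton, Set.mem_insert_iff, Set.mem_singleton_iff]
      rfl
    have hle : ({1, v0, w, v0 * w} : Finset A5.Alt).card ≤ ({1, a, b, a * b} : Finset G).card := by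
      refine le_trans (le_of_eq ?_) (Finset.card_image_le (f := π))
      congr 1
      simp [Finset.image_insert, hπa, hπb]
    rw [← SetLike.coe_sort_coe, Nat.card_coe_set_eq, h4, Set.ncard_coe_finset]
    exact le_trans (by decide +kernel) hle
  have hDA : D ⊔ A = S := by
    have hAS : A ≤ S := by
      rintro g (rfl | rfl | rfl | rfl)
      exacts [S.one_mem, haS, hbS, S.mul_mem haS hbS]
    refine Subgroup.eq_of_le_of_card_ge (sup_le hDS hAS) ?_
    refine le_trans ?_ (Nat.card_le_card_of_injective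
      (fun p : ↥D × ↥A => (⟨p.1 * p.2, Subgroup.mul_mem_sup p.1.2 p.2.2⟩ : ↥(D ⊔ A))) ?_)
    · rw [Nat.card_prod, hScard]; exact Nat.mul_le_mul_left _ hA4
    · intro p q hpq
      exact Subgroup.mul_injective_of_disjoint (disjoint_iff.2 (by rw [inf_comm, hAD]))
        (congrArg Subtype.val hpq)
  obtain ⟨H, hH⟩ := Solvable.gaschutz_exists (K := D) (U := S) hDS (by
    obtain ⟨k, hk'⟩ := IsPGroup.iff_card.1 hk
    have h1 := Subgroup.card_mul_index S
    rw [hScard, hGcard, mul_assoc] at h1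
    have h15 : S.index = 15 := by
      have := Nat.eq_of_mul_eq_mul_left Nat.card_pos h1
      omega
    rw [h15, hk']
    exact Nat.Coprime.pow_left k (by norm_num)) hAD hDA
  -- the section
  have hbij : Function.Bijective (π.comp H.subtype) := by
    refine ⟨(injective_iff_map_eq_one _).2 fun u hu => Subtype.ext (Subgroup.mem_bot.1
      (hH.disjoint.le_bot ⟨MonoidHom.mem_ker.2 hu, u.2⟩)), fun y => ?_⟩
    obtain ⟨g, rfl⟩ := hπ y
    obtain ⟨⟨⟨d, hd⟩, ⟨u, hu⟩⟩, hdu⟩ := (hH : Function.Bijective _).2 g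
    refine ⟨⟨u, hu⟩, ?_⟩
    show π u = π g
    rw [← show d * u = g from hdu, map_mul, MonoidHom.mem_ker.1 hd, one_mul]
  let σ : A5.Alt →* G := H.subtype.comp (MulEquiv.ofBijective _ hbij).symm.toMonoidHom
  have hσ : ∀ y, π (σ y) = y := fun y => (MulEquiv.ofBijective _ hbij).apply_symm_apply y
  obtain ⟨ht2', htx', htv', htv1'⟩ := tt_facts
  set x := σ x3 with hx
  set t := σ tt with ht
  set v := σ v0 with hv
  have ht2 : t * t = 1 := by rw [ht, ← map_mul, ht2', map_one]
  have hti : t⁻¹ = t := inv_eq_of_mul_eq_one_right ht2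
  have hvv : v * v = 1 := by rw [hv, ← map_mul, hv2, map_one]
  have hx3' : x ^ 3 = 1 := by rw [hx, ← map_pow, hx3, map_one]
  have hne1 : ∀ y, y ≠ 1 → σ y ≠ 1 := fun y hy e => hy (by rw [← hσ y, e, map_one])
  have htx : t * x * t⁻¹ = x⁻¹ := by rw [ht, hx, ← map_inv, ← map_inv, ← map_mul, ← map_mul, htx']
  set Z := D ⊓ Subgroup.centralizer (S : Set G) with hZ
  have hvS : v ∈ S := hVmem v (by rw [hσ]; exact v0_mem)
  have hvD : v ∉ D := fun e => hv1 (by rw [← hσ v0]; exact MonoidHom.mem_ker.1 e)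
  have hwS : x * v * x⁻¹ ∈ S := hVmem _ (by
    rw [map_mul, map_mul, map_inv, hσ, hσ]; exact Or.inr (Or.inr (Or.inl rfl)))
  have hwD : x * v * x⁻¹ ∉ D := fun e => hw1 (by
    have h1 := MonoidHom.mem_ker.1 e
    rw [map_mul, map_mul, map_inv, hσ, hσ] at h1
    exact h1)
  have hconjD : ∀ g, ∀ d ∈ D, g * d * g⁻¹ ∈ D := fun g d hd => (inferInstance : π.ker.Normal).conj_mem d hd g
  have hxZ : ∀ c ∈ Z, x * c * x⁻¹ ∈ Z := fun c hc =>
    ⟨hconjD x c hc.1, hcentr _ hwS hwD _ (hconjD x c hc.1)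
      (commute_conj (show Commute c v from (Subgroup.mem_centralizer_iff.1 hc.2 v hvS).symm))⟩
  obtain ⟨z, hzZ, hz1⟩ : ∃ z ∈ Z, z ≠ 1 := by
    have hb : Z ≠ ⊥ := fun e => hne (Subgroup.card_eq_one.1 (by
      rw [hDcard]
      show Nat.card Z ^ 2 = 1
      rw [e, Subgroup.card_bot, one_pow]))
    obtain ⟨⟨z, hz⟩, hz1⟩ := Subgroup.ne_bot_iff_exists_ne_one.1 hb
    exact ⟨z, hz, fun e => hz1 (Subtype.ext e)⟩
  have hfix3 : ∀ g, g ^ 3 = 1 → g ≠ 1 → ∀ d ∈ D, d * (g * d * g⁻¹) * (g * (g * d * g⁻¹) * g⁻¹) = 1 := by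
    intro g hg hg1 d hd
    set d1 := g * d * g⁻¹ with hd1
    set d2 := g * d1 * g⁻¹ with hd2
    have h1D := hconjD g d hd
    have h2D := hconjD g d1 h1D
    refine h.fpf Nat.prime_three (by norm_num) hg hg1
      (pow_four_of_sq (hsq _ (D.mul_mem (D.mul_mem hd h1D) h2D))) ?_
    refine (mul_inv_eq_iff_eq_mul.1 ?_).symm
    have e3 : g * d2 * g⁻¹ = d := by
      have hggg : g * g * g = 1 := by rw [← pow_three', hg]
      calc g * d2 * g⁻¹ = (g * g * g) * d * (g * g * g)⁻¹ := by rw [hd2, hd1]; group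
        _ = d := by rw [hggg]; group
    rw [← conj_mul, ← conj_mul, ← hd1, ← hd2, e3, mul_assoc d, (hDcomm d hd _ (D.mul_mem h1D h2D)).eq]
  -- the action on `Z` and `tZt`
  have hvt : ∀ c ∈ Z, v * (t * c * t) * v = (t * c * t) * c := by
    intro c hc
    have hcv : v * c = c * v := (Subgroup.mem_centralizer_iff.1 hc.2 v hvS)
    have hg : (t * v) ^ 3 = 1 := by
      rw [ht, hv, ← map_mul, ← map_pow, pow_three', htv', map_one]
    have h1 := hfix3 (t * v) hg (by rw [ht, hv, ← map_mul]; exact hne1 _ htv1') c hc.1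
    have hvi : v⁻¹ = v := inv_eq_of_mul_eq_one_right hvv
    have e1 : (t * v) * c * (t * v)⁻¹ = t * c * t := by
      rw [_root_.mul_inv_rev, hvi, hti, mul_assoc t v c, hcv, ← mul_assoc t, ← mul_assoc, mul_assoc (t * c) v v, hvv,
        mul_one]
    rw [e1] at h1
    have hTD : t * c * t ∈ D := by simpa [hti] using hconjD t c hc.1
    have hm : v * (t * c * t) * v ∈ D := by simpa [hvi] using hconjD v _ hTD
    have e2 : (t * v) * (t * c * t) * (t * v)⁻¹ = t * (v * (t * c * t) * v) * t := by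
      rw [_root_.mul_inv_rev, hvi, hti]; group
    rw [e2] at h1
    have h2 : t * (v * (t * c * t) * v) * t = c * (t * c * t) := by
      rw [eq_inv_of_mul_eq_one_right h1, hDinv _ (D.mul_mem hc.1 hTD)]
    calc v * (t * c * t) * v = (t * t) * (v * (t * c * t) * v) * (t * t) := by rw [ht2, one_mul, mul_one]
      _ = t * (t * (v * (t * c * t) * v) * t) * t := by group
      _ = t * (c * (t * c * t)) * t := by rw [h2]
      _ = (t * c * t) * c * (t * t) := by group
      _ = (t * c * t) * c := by rw [ht2, mul_one]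
  have hdisj : ∀ c ∈ Z, ∀ d ∈ Z, c = t * d * t → d = 1 := by
    intro c hc d hd e
    have h1 := hvt d hd
    rw [← e] at h1
    have hcv : v * c = c * v := (Subgroup.mem_centralizer_iff.1 hc.2 v hvS)
    rw [hcv, mul_assoc, hvv, mul_one] at h1
    exact mul_eq_left.1 h1.symm
  set q := x * z * x⁻¹ with hq
  have hqZ : q ∈ Z := hxZ z hzZ
  have hxq : x * q * x⁻¹ = z * q := by
    have h1 := hfix3 x hx3' (hne1 _ hx31) z hzZ.1
    rw [← hq] at h1
    rw [eq_inv_of_mul_eq_one_right h1, hDinv _ (D.mul_mem hzZ.1 hqZ.1)]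
  have hqz : q ≠ z := fun e => hz1 (h.fpf Nat.prime_three (by norm_num) hx3' (hne1 _ hx31)
    (pow_four_of_sq (hsq z hzZ.1)) (mul_inv_eq_iff_eq_mul.1 (hq ▸ e)).symm)
  have hq1 : q ≠ 1 := fun e => hz1 (conj_eq_one_iff.1 (hq ▸ e))
  have hzq1 : z * q ≠ 1 := fun e => hqz (by rw [eq_inv_of_mul_eq_one_right e, hDinv z hzZ.1])
  -- the field
  let F := GaloisField 2 2
  haveI : Fintype F := Fintype.ofFinite F
  have hF : Nat.card F = 4 := by rw [GaloisField.card 2 2 (by norm_num)]; norm_num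
  haveI := Spectrum.char_two hF
  have hpow : ∀ c : F, c = 0 ∨ c = 1 ∨ c * c + c + 1 = 0 := by
    intro c
    have h4 := FiniteField.pow_card c
    rw [← Nat.card_eq_fintype_card, hF] at h4
    have e : c * (c - 1) * (c * c + c + 1) = 0 := by linear_combination h4
    rcases mul_eq_zero.1 e with e | e
    · rcases mul_eq_zero.1 e with e | e
      · exact Or.inl e
      · exact Or.inr (Or.inl (sub_eq_zero.1 e))
    · exact Or.inr (Or.inr e)
  have htwo : (2 : F) = 0 := CharTwo.two_eq_zero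
  obtain ⟨ω, hω⟩ : ∃ ω : F, ω * ω + ω + 1 = 0 := by
    by_contra hno
    push Not at hno
    have hsub : (Finset.univ : Finset F) ⊆ {0, 1} := fun c _ => by
      rcases hpow c with e | e | e
      · simp [e]
      · simp [e]
      · exact absurd e (hno c)
    have h1 := (Finset.card_le_card hsub).trans Finset.card_le_two
    rw [Finset.card_univ, ← Nat.card_eq_fintype_card, hF] at h1
    omega
  have hω0 : ω ≠ 0 := fun e => by rw [e] at hω; simp at hω
  have hω1 : ω ≠ 1 := fun e => by rw [e, mul_one, CharTwo.add_self_eq_zero, zero_add] at hω; exact one_ne_zero hω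
  have hfour : ∀ c : F, c = 0 ∨ c = 1 ∨ c = ω ∨ c = ω + 1 := by
    intro c
    rcases hpow c with e | e | e
    · exact Or.inl e
    · exact Or.inr (Or.inl e)
    · have h1 : (c - ω) * (c - (ω + 1)) = 0 := by linear_combination e - hω + (ω * ω + ω - c - c * ω) * htwo
      rcases mul_eq_zero.1 h1 with h1 | h1
      · exact Or.inr (Or.inr (Or.inl (sub_eq_zero.1 h1)))
      · exact Or.inr (Or.inr (Or.inr (sub_eq_zero.1 h1)))
  have hw10 : ω + 1 ≠ 0 := fun e => hω1 (CharTwo.add_eq_zero.1 e)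
  have hw11 : ω + 1 ≠ 1 := fun e => hω0 (by simpa using e)
  have hw1w : ω + 1 ≠ ω := fun e => (one_ne_zero : (1 : F) ≠ 0) (by simpa using e)
  let f : F → G := fun c => if c = 0 then 1 else if c = 1 then z else if c = ω then q else z * q
  have f0 : f 0 = 1 := if_pos rfl
  have f1 : f 1 = z := by simp [f]
  have fω : f ω = q := by simp [f, hω0, hω1]
  have fω1 : f (ω + 1) = z * q := by simp [f, hw10, hw11, hw1w, hω0]
  have hfZ : ∀ c, f c ∈ Z := by
    intro c
    rcases hfour c with rfl | rfl | rfl | rfl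
    · rw [f0]; exact Z.one_mem
    · rw [f1]; exact hzZ
    · rw [fω]; exact hqZ
    · rw [fω1]; exact Z.mul_mem hzZ hqZ
  have hfinj : ∀ c, f c = 1 → c = 0 := by
    intro c hc
    rcases hfour c with rfl | rfl | rfl | rfl
    · rfl
    · rw [f1] at hc; exact absurd hc hz1
    · rw [fω] at hc; exact absurd hc hq1
    · rw [fω1] at hc; exact absurd hc hzq1
  have hfadd : ∀ c d, f (c + d) = f c * f d := by
    have hzz := hsq z hzZ.1
    have hqq := hsq q hqZ.1
    have hzq : q * z = z * q := (hDcomm q hqZ.1 z hzZ.1).eq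
    have hzqq : z * q * q = z := by rw [mul_assoc, hqq, mul_one]
    have hqzq : q * (z * q) = z := by rw [← mul_assoc, hzq, hzqq]
    have hzzq : z * (z * q) = q := by rw [← mul_assoc, hzz, one_mul]
    have hzqz : z * q * z = q := by rw [mul_assoc, hzq, hzzq]
    have hzqzq : z * q * (z * q) = 1 := hsq _ (D.mul_mem hzZ.1 hqZ.1)
    intro c d
    rcases hfour c with hc | hc | hc | hc <;> rcases hfour d with hd | hd | hd | hd <;> rw [hc, hd] <;>
      (try rw [zero_add, f0, one_mul]) <;> (try rw [add_zero, f0, mul_one])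
    · rw [CharTwo.add_self_eq_zero, f0, f1, hzz]
    · rw [add_comm, fω1, f1, fω]
    · rw [show (1 : F) + (ω + 1) = ω by linear_combination htwo, fω, f1, fω1, hzzq]
    · rw [fω1, fω, f1, hzq]
    · rw [CharTwo.add_self_eq_zero, f0, fω, hqq]
    · rw [show ω + (ω + 1) = 1 by linear_combination ω * htwo, f1, fω, fω1, hqzq]
    · rw [show ω + 1 + (1 : F) = ω by linear_combination htwo, fω, fω1, f1, hzqz]
    · rw [show ω + 1 + ω = 1 by linear_combination ω * htwo, f1, fω1, fω, hzqq]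
    · rw [CharTwo.add_self_eq_zero, f0, fω1, hzqzq]
  have hfx : ∀ c, x * f c * x⁻¹ = f (ω * c) := by
    intro c
    have hωω : ω * ω = ω + 1 := by linear_combination hω - (ω + 1) * htwo
    rcases hfour c with rfl | rfl | rfl | rfl
    · rw [mul_zero, f0, mul_one, mul_inv_cancel]
    · rw [mul_one, fω, f1]
    · rw [hωω, fω, fω1, hxq]
    · rw [show ω * (ω + 1) = 1 by linear_combination hω + (-1 : F) * htwo, f1, fω1, ← conj_mul, hxq, ← hq,
        ← mul_assoc, (hDcomm q hqZ.1 z hzZ.1).eq, mul_assoc, hsq q hqZ.1, mul_one]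
  -- the translations
  let ψ : (Fin 2 → F) → G := fun p => f (p 0) * (t * f (p 1) * t)
  have hTD : ∀ c, t * f c * t ∈ D := fun c => by simpa [hti] using hconjD t _ (hfZ c).1
  have hψD : ∀ p, ψ p ∈ D := fun p => D.mul_mem (hfZ _).1 (hTD _)
  have hψadd : ∀ p p', ψ (p + p') = ψ p * ψ p' := by
    intro p p'
    show f (p 0 + p' 0) * (t * f (p 1 + p' 1) * t) = f (p 0) * (t * f (p 1) * t) * (f (p' 0) * (t * f (p' 1) * t))
    rw [hfadd, hfadd, show t * (f (p 1) * f (p' 1)) * t = (t * f (p 1) * t) * (t * f (p' 1) * t) by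
      calc t * (f (p 1) * f (p' 1)) * t = t * f (p 1) * (t * t) * f (p' 1) * t := by rw [ht2]; group
        _ = _ := by group]
    exact ((hDcomm _ (hTD _) _ (hfZ _).1).mul_mul_mul_comm _ _).symm
  have hψ0 : ∀ p, ψ p = 1 → p = 0 := by
    intro p hp
    have e : f (p 0) = t * f (p 1) * t := by
      rw [eq_inv_of_mul_eq_one_left hp, hDinv _ (hTD _)]
    have h1 := hdisj _ (hfZ _) _ (hfZ _) e
    rw [h1, mul_one, ht2] at e
    funext i
    fin_cases i
    · exact hfinj _ e
    · exact hfinj _ h1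
  have hψinj : Function.Injective ψ := by
    intro p p' e
    have h1 : ψ (p + p') = 1 := by rw [hψadd, e]; exact hsq _ (hψD p')
    have h2 := hψ0 _ h1
    funext i
    exact CharTwo.add_eq_zero.1 (congrFun h2 i)
  have hxψ : ∀ p, x * ψ p * x⁻¹ = ψ (!![ω, 0; 0, ω + 1] *ᵥ p) := by
    intro p
    have e1 : x * (t * f (p 1) * t) * x⁻¹ = t * f ((ω + 1) * p 1) * t := by
      have hback : f (p 1) = x * f ((ω + 1) * p 1) * x⁻¹ := by
        rw [hfx, ← mul_assoc, show ω * (ω + 1) = 1 by linear_combination hω + (-1 : F) * htwo, one_mul]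
      have hxt : x * t = t * x⁻¹ := by rw [← htx, hti, ← mul_assoc, ← mul_assoc, ht2, one_mul]
      rw [hback]
      calc x * (t * (x * f ((ω + 1) * p 1) * x⁻¹) * t) * x⁻¹ = (x * t) * x * f ((ω + 1) * p 1) * (x⁻¹ * (t * x⁻¹)) := by group
        _ = (t * x⁻¹) * x * f ((ω + 1) * p 1) * (x⁻¹ * (x * t)) := by rw [hxt]
        _ = _ := by group
    show x * (f (p 0) * (t * f (p 1) * t)) * x⁻¹ = ψ _
    rw [← conj_mul, hfx, e1]
    simp [ψ, Matrix.mulVec, dotProduct, Fin.sum_univ_two]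
  have htψ : ∀ p, t * ψ p * t⁻¹ = ψ (!![0, 1; 1, 0] *ᵥ p) := by
    intro p
    rw [hti]
    calc t * (f (p 0) * (t * f (p 1) * t)) * t = (t * f (p 0) * t) * f (p 1) * (t * t) := by group
      _ = f (p 1) * (t * f (p 0) * t) := by rw [ht2, mul_one, (hDcomm _ (hTD _) _ (hfZ _).1).eq]
      _ = _ := by simp [ψ, Matrix.mulVec, dotProduct, Fin.sum_univ_two]
  have hvψ : ∀ p, v * ψ p * v⁻¹ = ψ (!![1, 1; 0, 1] *ᵥ p) := by
    intro p
    rw [inv_eq_of_mul_eq_one_right hvv]
    have hcv : v * f (p 0) = f (p 0) * v := Subgroup.mem_centralizer_iff.1 (hfZ _).2 v hvS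
    calc v * (f (p 0) * (t * f (p 1) * t)) * v = (v * f (p 0)) * (t * f (p 1) * t) * v := by group
      _ = f (p 0) * (v * (t * f (p 1) * t) * v) := by rw [hcv]; group
      _ = f (p 0) * (f (p 1) * (t * f (p 1) * t)) := by rw [hvt _ (hfZ _), (hDcomm _ (hTD _) _ (hfZ _).1).eq]
      _ = f (p 0 + p 1) * (t * f (p 1) * t) := by rw [hfadd]; group
      _ = _ := by simp [ψ, Matrix.mulVec, dotProduct, Fin.sum_univ_two]
  let Mx : SpecialLinearGroup (Fin 2) F := ⟨!![ω, 0; 0, ω + 1], by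
    rw [Matrix.det_fin_two_of]; linear_combination hω + (-1 : F) * htwo⟩
  let Mt : SpecialLinearGroup (Fin 2) F := ⟨!![0, 1; 1, 0], by
    rw [Matrix.det_fin_two_of]; linear_combination (-1 : F) * htwo⟩
  let Mv : SpecialLinearGroup (Fin 2) F := ⟨!![1, 1; 0, 1], by
    rw [Matrix.det_fin_two_of]; ring⟩
  have cmul : ∀ M M' : SpecialLinearGroup (Fin 2) F, ((M * M' : SpecialLinearGroup (Fin 2) F) : Matrix (Fin 2) (Fin 2) F) =
      (M : Matrix (Fin 2) (Fin 2) F) * (M' : Matrix (Fin 2) (Fin 2) F) := fun _ _ => rfl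
  have cone : ((1 : SpecialLinearGroup (Fin 2) F) : Matrix (Fin 2) (Fin 2) F) = 1 := rfl
  let K : Subgroup A5.Alt :=
    { carrier := {y | ∃ M : SpecialLinearGroup (Fin 2) F, ∀ p, σ y * ψ p * (σ y)⁻¹ = ψ ((M : Matrix (Fin 2) (Fin 2) F) *ᵥ p)}
      one_mem' := ⟨1, fun p => by simp⟩
      mul_mem' := by
        rintro y y' ⟨M, hM⟩ ⟨M', hM'⟩
        refine ⟨M * M', fun p => ?_⟩
        rw [cmul, ← Matrix.mulVec_mulVec, ← hM, ← hM', map_mul]
        group
      inv_mem' := by
        rintro y ⟨M, hM⟩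
        refine ⟨M⁻¹, fun p => ?_⟩
        have e := hM (((M⁻¹ : SpecialLinearGroup (Fin 2) F) : Matrix (Fin 2) (Fin 2) F) *ᵥ p)
        rw [Matrix.mulVec_mulVec, ← cmul, mul_inv_cancel, cone,
          Matrix.one_mulVec] at e
        rw [← e, map_inv]
        group }
  have hK : K = ⊤ := top_le_iff.1 (A5.generated ▸ (Subgroup.closure_le K).2 (by
    rintro y (rfl | rfl | rfl)
    · exact ⟨Mx, hxψ⟩
    · exact ⟨Mt, htψ⟩
    · exact ⟨Mv, hvψ⟩))
  choose θ hθ using fun y => (hK.ge (Subgroup.mem_top y) : y ∈ K)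
  have huniq : ∀ (M M' : SpecialLinearGroup (Fin 2) F),
      (∀ p, ψ ((M : Matrix (Fin 2) (Fin 2) F) *ᵥ p) = ψ ((M' : Matrix (Fin 2) (Fin 2) F) *ᵥ p)) → M = M' := by
    intro M M' e
    refine Subtype.ext (Matrix.ext fun i j => ?_)
    have h1 := congrFun (hψinj (e (Pi.single j 1))) i
    simpa [Matrix.mulVec_single_one] using h1
  let θ' : A5.Alt →* SpecialLinearGroup (Fin 2) F := MonoidHom.mk' θ fun y y' => huniq _ _ fun p => by
    rw [cmul, ← Matrix.mulVec_mulVec, ← hθ, ← hθ, ← hθ, map_mul]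
    group
  have hθinj : Function.Injective θ' := by
    haveI : IsSimpleGroup A5.Alt := alternatingGroup.isSimpleGroup (by simp)
    rcases (inferInstance : θ'.ker.Normal).eq_bot_or_eq_top with hb | hb
    · exact (MonoidHom.ker_eq_bot_iff _).1 hb
    · exfalso
      have h1 : θ' x3 = 1 := MonoidHom.mem_ker.1 (hb ▸ Subgroup.mem_top x3)
      have h2 := hθ x3 ![1, 0]
      rw [show θ x3 = 1 from h1, cone, Matrix.one_mulVec] at h2
      have h3 : ψ ![1, 0] = z := by simp [ψ, f0, f1, ht2]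
      rw [h3] at h2
      exact hqz (hq.trans h2)
  have hθbij : Function.Bijective θ' := (Nat.bijective_iff_injective_and_card θ').2 ⟨hθinj, by
    rw [A5.card_alt, GLOrder.card_SL_two, hF]; norm_num⟩
  let e := MulEquiv.ofBijective θ' hθbij
  let χ : SpecialLinearGroup (Fin 2) F →* G := σ.comp e.symm.toMonoidHom
  have hχ : ∀ M p, χ M * ψ p * (χ M)⁻¹ = ψ ((M : Matrix (Fin 2) (Fin 2) F) *ᵥ p) := fun M p => by
    show σ (e.symm M) * ψ p * (σ (e.symm M))⁻¹ = _
    rw [hθ, show θ (e.symm M) = M from e.apply_symm_apply M]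
  -- the embedding
  have hmem : ∀ M : Subgroup.closure (Spectrum.affSet F),
      (M.1 : Matrix (Fin 3) (Fin 3) F) 2 0 = 0 ∧ (M.1 : Matrix (Fin 3) (Fin 3) F) 2 1 = 0 ∧
        (M.1 : Matrix (Fin 3) (Fin 3) F) 2 2 = 1 := fun M => Spectrum.mem_affine_iff.1 M.2
  let lin : Subgroup.closure (Spectrum.affSet F) → SpecialLinearGroup (Fin 2) F := fun M =>
    ⟨!![(M.1 : Matrix (Fin 3) (Fin 3) F) 0 0, (M.1 : Matrix (Fin 3) (Fin 3) F) 0 1;
        (M.1 : Matrix (Fin 3) (Fin 3) F) 1 0, (M.1 : Matrix (Fin 3) (Fin 3) F) 1 1], by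
      have hd := M.1.2
      obtain ⟨e0, e1, e2⟩ := hmem M
      rw [Matrix.det_fin_three, e0, e1, e2] at hd
      rw [Matrix.det_fin_two_of]
      linear_combination hd⟩
  let tr : Subgroup.closure (Spectrum.affSet F) → (Fin 2 → F) := fun M =>
    ![(M.1 : Matrix (Fin 3) (Fin 3) F) 0 2, (M.1 : Matrix (Fin 3) (Fin 3) F) 1 2]
  have hlin : ∀ M N, lin (M * N) = lin M * lin N := by
    intro M N
    obtain ⟨e0, e1, -⟩ := hmem N
    refine Subtype.ext (Matrix.ext fun i j => ?_)
    show (lin (M * N)).1 i j = ((lin M).1 * (lin N).1) i j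
    fin_cases i <;> fin_cases j <;>
      simp [lin, cmul, Matrix.mul_apply, Fin.sum_univ_three, Fin.sum_univ_two, e0, e1]
  have htr : ∀ M N, tr (M * N) = tr M + (lin M : Matrix (Fin 2) (Fin 2) F) *ᵥ tr N := by
    intro M N
    obtain ⟨-, -, e2⟩ := hmem N
    funext i
    fin_cases i <;>
      simp [tr, lin, Matrix.mul_apply, Matrix.mulVec, dotProduct, Fin.sum_univ_three, Fin.sum_univ_two, e2] <;> ring
  let Φ : Subgroup.closure (Spectrum.affSet F) →* G := MonoidHom.mk' (fun M => ψ (tr M) * χ (lin M)) fun M N => by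
    rw [htr, hlin, hψadd, ← hχ, map_mul]
    group
  refine ⟨F, inferInstance, inferInstance, by rw [← Nat.card_eq_fintype_card]; exact hF, Φ,
    (injective_iff_map_eq_one Φ).2 fun M hM => ?_⟩
  have hM' : ψ (tr M) * χ (lin M) = 1 := hM
  have hl : lin M = 1 := by
    have h1 := congrArg π hM'
    rw [map_mul, MonoidHom.mem_ker.1 (hψD _), one_mul, map_one] at h1
    have h2 : e.symm (lin M) = 1 := by rw [← hσ (e.symm (lin M))]; exact h1
    simpa using congrArg e h2
  rw [hl, map_one, mul_one] at hM'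
  have ht0 := hψ0 _ hM'
  obtain ⟨e0, e1, e2⟩ := hmem M
  refine Subtype.ext (Subtype.ext (Matrix.ext fun i j => ?_))
  have l := fun i j => congrFun (congrFun (congrArg Subtype.val hl) i) j
  have l00 := l 0 0; have l01 := l 0 1; have l10 := l 1 0; have l11 := l 1 1
  have t0 := congrFun ht0 0; have t1 := congrFun ht0 1
  simp [lin] at l00 l01 l10 l11
  simp [tr] at t0 t1
  fin_cases i <;> fin_cases j <;> simp [e0, e1, e2, l00, l01, l10, l11, t0, t1]

end Cfsg.Agent.Orders5
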