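import Cfsg.Agent.Lib.Orders5.Acting
import Cfsg.Agent.Lib.Orders5.A5Frame

/-
No group with element orders at most five lies strictly above `A₅` or `A₆` in its automorphism group.

* `eq_top_of_almost`
-/

set_option autoImplicit false

namespace Cfsg.Agent.Orders5

namespace A6

/-- The alternating group of degree 6. -/
abbrev Alt := ↥(alternatingGroup (Fin 6))

/-- An element of order four. -/
def u : Alt := ⟨[0, 1, 2, 3].formPerm * Equiv.swap 4 5, Equiv.Perm.mem_alternatingGroup.2 (by decide)⟩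

/-- An involution inverting `u`. -/
def d : Alt := ⟨Equiv.swap 1 3 * Equiv.swap 4 5, Equiv.Perm.mem_alternatingGroup.2 (by decide)⟩

theorem facts : u ^ 4 = 1 ∧ u * u ≠ 1 ∧ d * d = 1 ∧ d ≠ 1 ∧ d * u * d⁻¹ = u⁻¹ ∧
    ∀ i j : Fin 4, ∀ a b : Fin 2, u ^ (i : ℕ) * d ^ (a : ℕ) = u ^ (j : ℕ) * d ^ (b : ℕ) → i = j ∧ a = b := by
  decide +kernel

theorem card_alt : Nat.card Alt = 360 := by
  rw [nat_card_alternatingGroup]
  simp [Nat.factorial]

theorem four_group : ∃ v w : Alt, v * v = 1 ∧ w * w = 1 ∧ v * w = w * v ∧ v ≠ 1 ∧ w ≠ 1 ∧ v * w ≠ 1 :=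
  ⟨u * u, d, by decide +kernel, by decide +kernel, by decide +kernel, by decide +kernel, by decide +kernel,
    by decide +kernel⟩

end A6

theorem A5.exists_inverter : ∃ m : A5.Alt, m * A5.x3 * m⁻¹ = A5.x3⁻¹ :=
  ⟨⟨Equiv.swap 0 1 * Equiv.swap 3 4, Equiv.Perm.mem_alternatingGroup.2 (by decide)⟩, by decide +kernel⟩

variable {G : Type*} [Group G] [Finite G]

omit [Group G] [Finite G] in
theorem factorization_eq_of {p k n N : ℕ} (hp : p.Prime) (hN : N = p ^ k * n) (hn : ¬ p ∣ n) :
    N.factorization p = k := by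
  have hn0 : n ≠ 0 := fun e => hn (e ▸ dvd_zero p)
  rw [hN, Nat.factorization_mul (pow_ne_zero _ hp.ne_zero) hn0, Finsupp.add_apply, hp.factorization_pow,
    Finsupp.single_eq_same, Nat.factorization_eq_zero_of_not_dvd hn, add_zero]

/-- Frattini: an element may be adjusted inside `M` to normalise a Sylow subgroup of `M`. -/
theorem exists_adjust_sylow {M : Subgroup G} [M.Normal] {p : ℕ} [Fact p.Prime] (P : Sylow p M) (x : G) :
    ∃ m ∈ M, m * x ∈ Subgroup.normalizer (((P : Subgroup M).map M.subtype : Subgroup G) : Set G) := by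
  have h := Sylow.normalizer_sup_eq_top P
  have hx : x ∈ Subgroup.normalizer (((P : Subgroup M).map M.subtype : Subgroup G) : Set G) ⊔ M :=
    h ▸ Subgroup.mem_top x
  obtain ⟨n, hn, m, hm, rfl⟩ := Subgroup.mem_sup_of_normal_right.1 hx
  refine ⟨(n * m * n⁻¹)⁻¹, M.inv_mem (‹M.Normal›.conj_mem m hm n), ?_⟩
  rwa [show (n * m * n⁻¹)⁻¹ * (n * m) = n by group]

theorem Ord5.pow_four_of_outer (h : Ord5 G) {M : Subgroup G} {g : G} (hg : g ∉ M) (hg2 : g * g ∈ M) :
    g ^ 4 = 1 := by
  rcases h g with e | e | e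
  · exact e
  · refine absurd ?_ hg
    have : g = (g * g)⁻¹ := eq_inv_of_mul_eq_one_left (by rw [← e, pow_succ, pow_succ, pow_one, mul_assoc])
    rw [this]; exact M.inv_mem hg2
  · refine absurd ?_ hg
    have : g = (g * g * (g * g))⁻¹ := eq_inv_of_mul_eq_one_left (by
      rw [← e]; simp only [pow_succ, pow_zero, one_mul, mul_assoc])
    rw [this]; exact M.inv_mem (M.mul_mem hg2 hg2)

/-- No outer element squares into `A₅`. -/
theorem no_outer_five (h : Ord5 G) {M : Subgroup G} [M.Normal] (e : M ≃* A5.Alt) {x : G} (hx : x ∉ M)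
    (hx2 : x * x ∈ M) : False := by
  haveI : Fact (Nat.Prime 3) := ⟨Nat.prime_three⟩
  set y : M := e.symm A5.x3 with hy
  have hy3 : y ^ 3 = 1 := by rw [hy, ← map_pow, A5.facts.2.2.2.2.2.2.2.2.1, map_one]
  have hy1 : y ≠ 1 := fun h' => A5.facts.2.2.2.2.2.2.2.2.2.1 (by simpa [hy] using congrArg e h')
  have hyo : orderOf y = 3 := orderOf_eq_prime hy3 hy1
  have hy1' : (y : G) ≠ 1 := fun h' => hy1 (Subtype.ext h')
  have hy3' : (y : G) ^ 3 = 1 := congrArg Subtype.val hy3
  have hcard : Nat.card (Subgroup.zpowers y) = 3 := by rw [Nat.card_zpowers, hyo]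
  let P : Sylow 3 M := Sylow.ofCard (Subgroup.zpowers y) (by
    rw [hcard, Nat.card_congr e.toEquiv, A5.card_alt]
    rw [show Nat.factorization 60 3 = 1 from factorization_eq_of (n := 20) (by norm_num) (by norm_num) (by norm_num)]
    norm_num)
  obtain ⟨m, hm, hg⟩ := exists_adjust_sylow P x
  set g := m * x
  have hgM : g ∉ M := fun h' => hx (by simpa [g] using M.mul_mem (M.inv_mem hm) h')
  have hg2 : g * g ∈ M := by
    have e' : g * g = m * (x * m * x⁻¹) * (x * x) := by simp only [g]; group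
    rw [e']; exact M.mul_mem (M.mul_mem hm (‹M.Normal›.conj_mem m hm x)) hx2
  have hmem : (g * (y : G) * g⁻¹) ∈ Subgroup.zpowers (y : G) := by
    have h1 := (Subgroup.mem_normalizer_iff.1 hg (y : G)).1 ⟨y, Subgroup.mem_zpowers y, rfl⟩
    obtain ⟨a, ⟨i, hi⟩, ha⟩ := h1
    exact ⟨i, by rw [← ha, ← hi]; rfl⟩
  -- adjust so that `g` centralises `y`
  obtain ⟨g', hg', hg'2, hc⟩ : ∃ g', g' ∉ M ∧ g' * g' ∈ M ∧ Commute g' (y : G) := by
    obtain ⟨k, hk⟩ := (isOfFinOrder_of_finite (y : G)).mem_powers_iff_mem_zpowers.2 hmem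
    have hk3 : k % 3 = 1 ∨ k % 3 = 2 := by
      by_contra hk0
      have h0 : k % 3 = 0 := by omega
      have hone : g * (y : G) * g⁻¹ = 1 := ?_
      · exact hy1' (conj_eq_one_iff.1 hone)
      rw [← show (y : G) ^ k = g * y * g⁻¹ from hk, ← Nat.div_add_mod k 3, h0, add_zero, pow_mul, hy3', one_pow]
    have hkk : g * (y : G) * g⁻¹ = (y : G) ^ (k % 3) := by
      rw [← show (y : G) ^ k = g * y * g⁻¹ from hk]
      conv_lhs => rw [← Nat.div_add_mod k 3, pow_add, pow_mul, hy3', one_pow, one_mul]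
    rcases hk3 with hk3 | hk3
    · rw [hk3, pow_one] at hkk
      exact ⟨g, hgM, hg2, mul_inv_eq_iff_eq_mul.1 hkk⟩
    · rw [hk3] at hkk
      obtain ⟨n, hn⟩ := A5.exists_inverter
      set n' : M := e.symm n
      have hn' : (n' : G) * y * (n' : G)⁻¹ = (y : G)⁻¹ := by
        have h1 : n' * y * n'⁻¹ = y⁻¹ := by rw [hy]; simp only [n', ← map_inv, ← map_mul, hn]
        exact congrArg Subtype.val h1
      refine ⟨(n' : G) * g, fun h' => hgM (by simpa using M.mul_mem (M.inv_mem n'.2) h'), ?_, ?_⟩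
      · have e' : (n' : G) * g * (n' * g) = n' * (g * n' * g⁻¹) * (g * g) := by group
        rw [e']; exact M.mul_mem (M.mul_mem n'.2 (‹M.Normal›.conj_mem _ n'.2 g)) hg2
      · refine mul_inv_eq_iff_eq_mul.1 ?_
        calc (n' : G) * g * y * ((n' : G) * g)⁻¹ = n' * (g * y * g⁻¹) * (n' : G)⁻¹ := by group
          _ = y := by
            rw [hkk, ← conj_pow, hn', inv_pow]
            exact inv_eq_of_mul_eq_one_left (by rw [← pow_succ']; exact hy3')
  have h4 := h.pow_four_of_outer hg' hg'2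
  rcases h.eq_one_of_coprime hc h4 hy3' (by norm_num) with h' | h'
  · exact hg' (h' ▸ M.one_mem)
  · exact hy1' h'

/-- No outer element squares into `A₆`. -/
theorem no_outer_six (h : Ord5 G) {M : Subgroup G} [M.Normal] (e : M ≃* A6.Alt) {x : G} (hx : x ∉ M)
    (hx2 : x * x ∈ M) : False := by
  classical
  haveI : Fact (Nat.Prime 2) := ⟨Nat.prime_two⟩
  obtain ⟨hu4, hu2, hd2, hd1, hdu, hinj⟩ := A6.facts
  set u : G := ((e.symm A6.u : M) : G) with hu
  set d : G := ((e.symm A6.d : M) : G) with hd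
  let ι : A6.Alt →* G := M.subtype.comp e.symm.toMonoidHom
  have hι : Function.Injective ι := M.subtype_injective.comp e.symm.injective
  have hιu : ι A6.u = u := rfl
  have hιd : ι A6.d = d := rfl
  have hu4' : u ^ 4 = 1 := by rw [← hιu, ← map_pow, hu4, map_one]
  have hu2' : u * u ≠ 1 := fun h' => hu2 (hι (by rw [map_mul, map_one]; exact h'))
  have hd2' : d * d = 1 := by rw [← hιd, ← map_mul, hd2, map_one]
  have hd1' : d ≠ 1 := fun h' => hd1 (hι (by rw [map_one]; exact h'))
  have hdu' : d * u * d⁻¹ = u⁻¹ := by rw [← hιu, ← hιd, ← map_inv, ← map_inv, ← map_mul, ← map_mul, hdu]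
  have huM : u ∈ M := (e.symm A6.u : M).2
  have hdM : d ∈ M := (e.symm A6.d : M).2
  have hdu'' : d * u = u⁻¹ * d := mul_inv_eq_iff_eq_mul.1 hdu'
  have hdupow : ∀ i : ℕ, d * u ^ i = (u⁻¹) ^ i * d := fun i => by
    refine mul_inv_eq_iff_eq_mul.1 ?_
    rw [← conj_pow, hdu']
  have hmod : ∀ i : ℕ, u ^ i = u ^ (i % 4) := fun i => by
    conv_lhs => rw [← Nat.div_add_mod i 4, pow_add, pow_mul, hu4', one_pow, one_mul]
  have hinvu : ∀ i : ℕ, (u⁻¹) ^ i = u ^ (3 * i) := fun i => by
    rw [pow_mul]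
    congr 1
    exact inv_eq_of_mul_eq_one_right (by rw [← pow_succ']; exact hu4')
  -- the Sylow 2-subgroup `⟨u, d⟩`
  let W : Subgroup G :=
    { carrier := {g | ∃ i : ℕ, g = u ^ i ∨ g = u ^ i * d}
      one_mem' := ⟨0, Or.inl (pow_zero u).symm⟩
      mul_mem' := by
        rintro a b ⟨i, rfl | rfl⟩ ⟨j, rfl | rfl⟩
        · exact ⟨i + j, Or.inl (pow_add u i j).symm⟩
        · exact ⟨i + j, Or.inr (by rw [pow_add]; group)⟩
        · exact ⟨i + 3 * j, Or.inr (by rw [mul_assoc, hdupow, hinvu, ← mul_assoc, ← pow_add])⟩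
        · exact ⟨i + 3 * j, Or.inl (by
            rw [mul_assoc, ← mul_assoc d, hdupow, hinvu, mul_assoc (u ^ (3 * j)), hd2', mul_one, pow_add])⟩
      inv_mem' := by
        rintro a ⟨i, rfl | rfl⟩
        · exact ⟨3 * i, Or.inl (by rw [← hinvu, inv_pow])⟩
        · refine ⟨i, Or.inr ?_⟩
          rw [mul_inv_rev, inv_eq_of_mul_eq_one_right hd2', ← inv_pow, hinvu, hdupow, hinvu,
            hmod (3 * (3 * i)), show 3 * (3 * i) % 4 = i % 4 by omega, ← hmod] }
  have hWM : W ≤ M := by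
    rintro g ⟨i, rfl | rfl⟩
    · exact pow_mem huM i
    · exact M.mul_mem (pow_mem huM i) hdM
  let F : Fin 4 × Fin 2 → W := fun p => ⟨u ^ (p.1 : ℕ) * d ^ (p.2 : ℕ), by
    rcases p with ⟨i, a⟩
    fin_cases a
    · exact ⟨i, Or.inl (by simp)⟩
    · exact ⟨i, Or.inr (by simp)⟩⟩
  have hFi : Function.Injective F := by
    rintro ⟨i, a⟩ ⟨j, b⟩ hh
    have h1 : u ^ (i : ℕ) * d ^ (a : ℕ) = u ^ (j : ℕ) * d ^ (b : ℕ) := congrArg Subtype.val hh
    rw [← hιu, ← hιd, ← map_pow, ← map_pow, ← map_pow, ← map_pow, ← map_mul, ← map_mul] at h1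
    obtain ⟨rfl, rfl⟩ := hinj i j a b (hι h1)
    rfl
  have hFs : Function.Surjective F := by
    rintro ⟨g, i, rfl | rfl⟩
    · exact ⟨(⟨i % 4, Nat.mod_lt _ (by norm_num)⟩, 0), Subtype.ext (by simp [F, ← hmod])⟩
    · exact ⟨(⟨i % 4, Nat.mod_lt _ (by norm_num)⟩, 1), Subtype.ext (by simp [F, ← hmod])⟩
  have hW8 : Nat.card W = 8 := by
    rw [← Nat.card_congr (Equiv.ofBijective F ⟨hFi, hFs⟩)]; simp
  -- its involutions
  have hinvW : ∀ g ∈ W, g * g = 1 → g ≠ 1 →
      g ∈ ({u ^ 2, d, u ^ 1 * d, u ^ 2 * d, u ^ 3 * d} : Finset G) := by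
    rintro g ⟨i, rfl | rfl⟩ hgg hg1
    · have hlt := Nat.mod_lt i (show 4 > 0 by norm_num)
      rw [hmod i] at hgg hg1 ⊢
      have hne : u ^ 2 ≠ 1 := by rw [pow_two]; exact hu2'
      interval_cases hi : i % 4
      · exact absurd (pow_zero u) hg1
      · exact absurd (by rw [pow_two]; simpa using hgg) hne
      · simp
      · refine absurd ?_ hne
        rw [← pow_add, show 3 + 3 = 2 + 4 by norm_num, pow_add, hu4', mul_one] at hgg
        exact hgg
    · have hlt := Nat.mod_lt i (show 4 > 0 by norm_num)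
      rw [hmod i]
      interval_cases hi : i % 4 <;> simp
  let P : Sylow 2 M := Sylow.ofCard (W.subgroupOf M) (by
    rw [Nat.card_congr (Subgroup.subgroupOfEquivOfLe hWM).toEquiv, hW8, Nat.card_congr e.toEquiv, A6.card_alt]
    rw [show Nat.factorization 360 2 = 3 from factorization_eq_of (n := 45) (by norm_num) (by norm_num) (by norm_num)]
    norm_num)
  have hPW : ((P : Subgroup M).map M.subtype) = W := by
    show (W.subgroupOf M).map M.subtype = W
    rw [Subgroup.subgroupOf_map_subtype, inf_eq_left.2 hWM]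
  obtain ⟨m, hm, hgN⟩ := exists_adjust_sylow P x
  rw [hPW] at hgN
  set g₀ := m * x with hg₀
  have hg₀M : g₀ ∉ M := fun h' => hx (by simpa [g₀] using M.mul_mem (M.inv_mem hm) h')
  have hg₀2 : g₀ * g₀ ∈ M := by
    have e' : g₀ * g₀ = m * (x * m * x⁻¹) * (x * x) := by simp only [g₀]; group
    rw [e']; exact M.mul_mem (M.mul_mem hm (‹M.Normal›.conj_mem m hm x)) hx2
  -- make it centralise `u`
  obtain ⟨g, hgM, hg2, hgN', hgu⟩ : ∃ g, g ∉ M ∧ g * g ∈ M ∧ g ∈ Subgroup.normalizer (W : Set G) ∧ Commute g u := by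
    have hmem := (Subgroup.mem_normalizer_iff.1 hgN u).1 ⟨1, Or.inl (pow_one u).symm⟩
    have hsq : (g₀ * u * g₀⁻¹) * (g₀ * u * g₀⁻¹) ≠ 1 := fun h' => hu2' (by
      rwa [conj_mul, conj_eq_one_iff] at h')
    obtain ⟨i, hi | hi⟩ := hmem
    swap
    · refine absurd ?_ hsq
      rw [hi]
      calc u ^ i * d * (u ^ i * d) = u ^ i * (d * u ^ i) * d := by group
        _ = u ^ i * (u⁻¹) ^ i := by rw [hdupow, mul_assoc, mul_assoc _ d, hd2', mul_one]
        _ = 1 := by rw [inv_pow, mul_inv_cancel]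
    have hlt := Nat.mod_lt i (show 4 > 0 by norm_num)
    rw [hmod] at hi
    have hodd : i % 4 = 1 ∨ i % 4 = 3 := by
      interval_cases hi4 : i % 4
      · exact absurd (by rw [hi, pow_zero, one_mul]) hsq
      · exact Or.inl rfl
      · exact absurd (by rw [hi, ← pow_add]; exact hu4') hsq
      · exact Or.inr rfl
    rcases hodd with hi4 | hi4 <;> rw [hi4] at hi
    · rw [pow_one] at hi
      exact ⟨g₀, hg₀M, hg₀2, hgN, mul_inv_eq_iff_eq_mul.1 hi⟩
    · refine ⟨d * g₀, fun h' => hg₀M (by simpa using M.mul_mem (M.inv_mem hdM) h'), ?_,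
        mul_mem (Subgroup.le_normalizer ⟨0, Or.inr (by rw [pow_zero, one_mul])⟩) hgN, ?_⟩
      · have e' : d * g₀ * (d * g₀) = d * (g₀ * d * g₀⁻¹) * (g₀ * g₀) := by group
        rw [e']; exact M.mul_mem (M.mul_mem hdM (‹M.Normal›.conj_mem _ hdM g₀)) hg₀2
      · refine mul_inv_eq_iff_eq_mul.1 ?_
        calc d * g₀ * u * (d * g₀)⁻¹ = d * (g₀ * u * g₀⁻¹) * d⁻¹ := by group
          _ = u := by
            rw [hi, ← conj_pow, hdu', hinvu, hmod]
            exact pow_one u
  -- an outer involution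
  obtain ⟨t, htM, ht2⟩ : ∃ t, t ∉ M ∧ t * t = 1 := by
    have hg4 := h.pow_four_of_outer hgM hg2
    by_cases hgg : g * g = 1
    · exact ⟨g, hgM, hgg⟩
    -- `g * g` is an involution of `M` centralising `u`, so it normalises `W`
    have hc : Commute (g * g) u := hgu.mul_left hgu
    have hggN : g * g ∈ Subgroup.normalizer (W : Set G) := mul_mem hgN' hgN'
    have hggW : g * g ∈ W := by
      have hp : IsPGroup 2 (Subgroup.zpowers (g * g)) := by
        rintro ⟨a, n, rfl⟩
        refine ⟨1, Subtype.ext ?_⟩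
        show ((g * g) ^ n) ^ (2 ^ 1) = 1
        rw [pow_one, ← zpow_natCast, ← zpow_mul, mul_comm, zpow_mul, zpow_natCast, ← pow_two g, ← pow_mul,
          hg4, one_zpow]
      have hW2 : IsPGroup 2 W := IsPGroup.of_card (n := 3) hW8
      have hsup := hp.to_sup_of_normal_right' hW2 (Subgroup.zpowers_le.2 hggN)
      have hle : Subgroup.zpowers (g * g) ⊔ W ≤ M := sup_le (Subgroup.zpowers_le.2 hg2) hWM
      have h1 := P.3 (hsup.comap_subtype (K := M)) (fun w hw => Subgroup.mem_subgroupOf.2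
        (Subgroup.mem_sup_right (Subgroup.mem_subgroupOf.1 hw)))
      have h2 : (⟨g * g, hg2⟩ : M) ∈ W.subgroupOf M := h1.le
        (Subgroup.mem_subgroupOf.2 (Subgroup.mem_sup_left (Subgroup.mem_zpowers _)))
      exact Subgroup.mem_subgroupOf.1 h2
    obtain ⟨i, hi | hi⟩ := hggW
    · refine ⟨g * u, fun h' => hgM (by simpa using M.mul_mem h' (M.inv_mem huM)), ?_⟩
      rw [hgu.symm.mul_mul_mul_comm, hi]
      rw [hmod] at hi ⊢
      have hlt := Nat.mod_lt i (show 4 > 0 by norm_num)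
      have hpow : g * g * (g * g) = 1 := by rw [← hg4]; simp only [pow_succ, pow_zero, one_mul, mul_assoc]
      interval_cases hi4 : i % 4
      · exact absurd (hi.trans (pow_zero u)) hgg
      · exact absurd (by rw [hi, pow_one] at hpow; exact hpow) hu2'
      · rw [← pow_two u, ← pow_add]; exact hu4'
      · refine absurd ?_ hu2'
        rw [hi, ← pow_add, show 3 + 3 = 2 + 4 by norm_num, pow_add, hu4', mul_one, pow_two] at hpow
        exact hpow
    · exfalso
      refine hu2' ?_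
      rw [hi] at hc
      have h1 : Commute d u := by
        have := ((Commute.refl u).pow_left i).inv_left.mul_left hc
        rwa [inv_mul_cancel_left] at this
      have h2 : u⁻¹ = u := by rw [← hdu', h1.eq, mul_inv_cancel_right]
      nth_rw 1 [← h2]; exact inv_mul_cancel u
  -- every 2-subgroup of `M` has at most five involutions
  have ht1 : t ≠ 1 := fun h' => htM (h' ▸ M.one_mem)
  let Iv : G → Set G := fun c => {y | y ∈ M ∧ Commute y c ∧ y * y = 1 ∧ y ≠ 1}
  have hfive : ∀ c : G, c ^ 4 = 1 → c ≠ 1 → (Iv c).ncard ≤ 5 := by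
    intro c hc4 hc1
    have hp : IsPGroup 2 ((Subgroup.centralizer ({c} : Set G)).subgroupOf M) :=
      (h.centralizer_isPGroup hc4 hc1).comap_subtype
    obtain ⟨Q, hQ⟩ := hp.exists_le_sylow
    obtain ⟨n, hn⟩ := MulAction.exists_smul_eq M Q P
    have hsub : (fun y => (n : G) * y * (n : G)⁻¹) '' Iv c ⊆
        (({u ^ 2, d, u ^ 1 * d, u ^ 2 * d, u ^ 3 * d} : Finset G) : Set G) := by
      rintro _ ⟨y, ⟨hyM, hyc, hy2, hy1⟩, rfl⟩
      refine hinvW _ ?_ (sq_conj hy2) (fun h' => hy1 (conj_eq_one_iff.1 h'))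
      have h1 : n * ⟨y, hyM⟩ * n⁻¹ ∈ (n • Q : Sylow 2 M) :=
        ⟨⟨y, hyM⟩, hQ (Subgroup.mem_subgroupOf.2 (Subgroup.mem_centralizer_singleton_iff.2 hyc.eq)), rfl⟩
      rw [hn] at h1
      exact Subgroup.mem_subgroupOf.1 (show n * ⟨y, hyM⟩ * n⁻¹ ∈ W.subgroupOf M from h1)
    have hle := Set.ncard_le_ncard hsub (Finset.finite_toSet _)
    rw [Set.ncard_image_of_injective _ (fun a b hab => mul_left_cancel (mul_right_cancel hab)),
      Set.ncard_coe_finset] at hle
    exact hle.trans (Finset.card_le_five)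
  -- they cover the class of `u * u`
  set z : M := ⟨u * u, M.mul_mem huM huM⟩ with hz
  have hz2 : z * z = 1 := Subtype.ext (by
    show u * u * (u * u) = 1
    rw [← hu4']; simp only [pow_succ, pow_zero, one_mul, mul_assoc])
  have hcover : (fun n : M => (n : G) * (u * u) * (n : G)⁻¹) '' Set.univ ⊆ ⋃ c ∈ (Iv t).toFinite.toFinset, Iv c := by
    rintro _ ⟨n, -, rfl⟩
    set y := (n : G) * (u * u) * (n : G)⁻¹
    have hyM : y ∈ M := M.mul_mem (M.mul_mem n.2 (M.mul_mem huM huM)) (M.inv_mem n.2)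
    have hy2 : y * y = 1 := sq_conj (congrArg Subtype.val hz2)
    have hy1 : y ≠ 1 := fun h' => hu2' (conj_eq_one_iff.1 h')
    have hk2 : y * t * (y * t) ∈ M := by
      have e' : y * t * (y * t) = y * (t * y * t⁻¹) * (t * t) := by group
      rw [e', ht2, mul_one]; exact M.mul_mem hyM (‹M.Normal›.conj_mem y hyM t)
    have hk4 := h.pow_four_of_outer (fun h' => htM (by simpa using M.mul_mem (M.inv_mem hyM) h')) hk2
    simp only [Set.mem_iUnion, Set.Finite.mem_toFinset, exists_prop]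
    have hti : t⁻¹ = t := inv_eq_of_mul_eq_one_right ht2
    have hyi : y⁻¹ = y := inv_eq_of_mul_eq_one_right hy2
    by_cases hkk : y * t * (y * t) = 1
    · have hc : Commute y t := by
        show y * t = t * y
        calc y * t = (y * t)⁻¹ := (inv_eq_of_mul_eq_one_right hkk).symm
          _ = t * y := by rw [mul_inv_rev, hti, hyi]
      exact ⟨y, ⟨hyM, hc, hy2, hy1⟩, hyM, Commute.refl y, hy2, hy1⟩
    · set c := y * t * (y * t) with hcdef
      have hc2 : c * c = 1 := by rw [hcdef, ← hk4]; simp only [pow_succ, pow_zero, one_mul, mul_assoc]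
      have hci : c⁻¹ = c := inv_eq_of_mul_eq_one_right hc2
      have hcinv : c⁻¹ = t * y * (t * y) := by
        rw [hcdef, mul_inv_rev (y * t) (y * t), mul_inv_rev y t, hti, hyi]
      have hyc : Commute y c := by
        refine mul_inv_eq_iff_eq_mul.1 ?_
        calc y * c * y⁻¹ = y * y * t * y * t * y⁻¹ := by rw [hcdef]; group
          _ = c⁻¹ := by rw [hcinv, hy2, one_mul, hyi]; group
          _ = c := hci
      have htc : Commute c t := by
        refine (mul_inv_eq_iff_eq_mul.1 ?_).symm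
        calc t * c * t⁻¹ = t * y * t * y * (t * t⁻¹) := by rw [hcdef]; group
          _ = c⁻¹ := by rw [hcinv, mul_inv_cancel, mul_one]; group
          _ = c := hci
      exact ⟨c, ⟨hk2, htc, hc2, hkk⟩, hyM, hyc, hy2, hy1⟩
  have hle : ((fun n : M => (n : G) * (u * u) * (n : G)⁻¹) '' Set.univ).ncard ≤ 25 := by
    refine (Set.ncard_le_ncard hcover (Set.toFinite _)).trans ?_
    refine (Finset.set_ncard_biUnion_le _ _).trans ?_
    refine (Finset.sum_le_card_nsmul _ _ 5 fun c hc => ?_).trans ?_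
    · rw [Set.Finite.mem_toFinset] at hc
      exact hfive c (pow_four_of_sq hc.2.2.1) hc.2.2.2
    · rw [← Set.ncard_eq_toFinset_card, smul_eq_mul]
      exact Nat.mul_le_mul_right 5 (hfive t (pow_four_of_sq ht2) ht1)
  have hclass : 45 ≤ ((fun n : M => (n : G) * (u * u) * (n : G)⁻¹) '' Set.univ).ncard := by
    set C := (Subgroup.centralizer ({u * u} : Set G)).subgroupOf M with hCdef
    have hC : IsPGroup 2 C :=
      (h.centralizer_isPGroup (pow_four_of_sq (congrArg Subtype.val hz2)) hu2').comap_subtype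
    obtain ⟨Q, hQ⟩ := hC.exists_le_sylow
    have hC8 : Nat.card C ≤ 8 := by
      refine (Subgroup.card_le_of_le hQ).trans (le_of_eq ?_)
      rw [Sylow.card_eq_multiplicity, Nat.card_congr e.toEquiv, A6.card_alt,
        show Nat.factorization 360 2 = 3 from factorization_eq_of (n := 45) (by norm_num) (by norm_num) (by norm_num)]
      norm_num
    have hCi : 45 ≤ C.index := by
      have h1 := Subgroup.card_mul_index C
      rw [Nat.card_congr e.toEquiv, A6.card_alt] at h1
      nlinarith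
    refine hCi.trans ?_
    rw [Subgroup.index_eq_card, ← Nat.card_coe_set_eq]
    refine Nat.card_le_card_of_injective
      (fun q => (⟨(q.out : G) * (u * u) * (q.out : G)⁻¹, q.out, trivial, rfl⟩ :
        ((fun n : M => (n : G) * (u * u) * (n : G)⁻¹) '' Set.univ : Set G))) ?_
    intro q r hqr
    have e' : (q.out : G) * (u * u) * (q.out : G)⁻¹ = (r.out : G) * (u * u) * (r.out : G)⁻¹ := congrArg Subtype.val hqr
    refine q.out_eq'.symm.trans ((QuotientGroup.eq.2 ?_).trans r.out_eq')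
    show (q.out)⁻¹ * r.out ∈ (Subgroup.centralizer ({u * u} : Set G)).subgroupOf M
    rw [Subgroup.mem_subgroupOf,
      Subgroup.mem_centralizer_singleton_iff, Subgroup.coe_mul, Subgroup.coe_inv]
    calc (q.out : G)⁻¹ * r.out * (u * u) = (q.out : G)⁻¹ * ((r.out : G) * (u * u) * (r.out : G)⁻¹) * r.out := by group
      _ = u * u * ((q.out : G)⁻¹ * r.out) := by rw [← e']; group
  omega

/-- `A₅` and `A₆` are the only almost simple groups over themselves. -/
theorem eq_top_of_almost (h : Ord5 G) {M : Subgroup G} [M.Normal]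
    (hM : Nonempty (M ≃* A5.Alt) ∨ Nonempty (M ≃* A6.Alt)) : M = ⊤ := by
  classical
  haveI : Fact (Nat.Prime 3) := ⟨Nat.prime_three⟩
  haveI : Fact (Nat.Prime 5) := ⟨Nat.prime_five⟩
  have hMcard : Nat.card M = 60 ∨ Nat.card M = 360 := by
    rcases hM with ⟨⟨e⟩⟩ | ⟨⟨e⟩⟩
    · exact Or.inl (by rw [Nat.card_congr e.toEquiv, A5.card_alt])
    · exact Or.inr (by rw [Nat.card_congr e.toEquiv, A6.card_alt])
  have hMfac : (Nat.card M).factorization 3 ∈ ({1, 2} : Finset ℕ) ∧ (Nat.card M).factorization 5 = 1 := by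
    rcases hMcard with e | e <;> rw [e]
    · rw [show Nat.factorization 60 3 = 1 from factorization_eq_of (n := 20) (by norm_num) (by norm_num) (by norm_num),
        show Nat.factorization 60 5 = 1 from factorization_eq_of (n := 12) (by norm_num) (by norm_num) (by norm_num)]
      simp
    · rw [show Nat.factorization 360 3 = 2 from factorization_eq_of (n := 40) (by norm_num) (by norm_num) (by norm_num),
        show Nat.factorization 360 5 = 1 from factorization_eq_of (n := 72) (by norm_num) (by norm_num) (by norm_num)]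
      simp
  have hfive : ∀ (N : Subgroup G), N ⊔ M = ⊤ → M.index * Nat.card (M ⊓ N : Subgroup G) = Nat.card N := by
    intro N hN
    have h1 := Subgroup.card_mul_index (M.subgroupOf N)
    rw [← h1, mul_comm, ← Nat.card_congr (Subgroup.subgroupOfEquivOfLe (inf_le_right : M ⊓ N ≤ N)).toEquiv,
      Subgroup.inf_subgroupOf_right]
    congr 1
    rw [← Subgroup.relIndex_top_right, ← hN, Subgroup.relIndex_sup_right]
    rfl
  -- five does not divide the index
  obtain ⟨R⟩ := (inferInstance : Nonempty (Sylow 3 M))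
  have h5 : ¬ 5 ∣ M.index := by
    intro hd
    set R' := ((R : Subgroup M).map M.subtype) with hR'
    have hN := hfive _ (Sylow.normalizer_sup_eq_top R)
    obtain ⟨w, hw⟩ := exists_prime_orderOf_dvd_card'
      (G := Subgroup.normalizer (R' : Set G)) 5 (hN ▸ hd.mul_right _)
    rw [← Subgroup.orderOf_coe] at hw
    have hw5 : (w : G) ^ 5 = 1 := hw ▸ pow_orderOf_eq_one (w : G)
    have hw1 : (w : G) ≠ 1 := fun e => by rw [e, orderOf_one] at hw; norm_num at hw
    haveI := Fintype.ofFinite R'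
    let f : Function.End R' := fun a => cj R' w w.2 a
    have hf : f ^ 5 ^ 1 = 1 := by
      funext a
      rw [pow_one]
      apply Subtype.ext
      have e : (f ^ 5) a = (cj R' (w : G) w.2)^[5] a := rfl
      rw [e, coe_cj_iterate, hw5]
      show (1 : G) * a * (1 : G)⁻¹ = a
      group
    have h1 := Equiv.Perm.card_fixedPoints_modEq (p := 5) (n := 1) hf
    have h2 : Fintype.card (Function.fixedPoints f) = 1 :=
      Fintype.card_eq_one_iff.2 ⟨⟨1, map_one (cj R' (w : G) w.2)⟩, fun a => Subtype.ext (by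
        by_contra hne
        have hc : Commute (a.1 : G) (w : G) :=
          (mul_inv_eq_iff_eq_mul.1 (congrArg Subtype.val a.2)).symm
        have ha3 : (a.1 : G) ^ 3 = 1 := h.pow_prime_of_isPGroup (by norm_num)
          (R.isPGroup'.map M.subtype) a.1.2
        rcases h.eq_one_of_coprime hc ha3 hw5 (by norm_num) with e | e
        · exact hne (Subtype.ext e)
        · exact hw1 e)⟩
    rw [h2, ← Nat.card_eq_fintype_card, hR', Subgroup.card_subtype, Sylow.card_eq_multiplicity] at h1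
    rcases (by simpa using hMfac.1 : (Nat.card M).factorization 3 = 1 ∨ (Nat.card M).factorization 3 = 2) with e | e <;>
      rw [e] at h1 <;> norm_num [Nat.ModEq] at h1
  -- the index divides four
  obtain ⟨P⟩ := (inferInstance : Nonempty (Sylow 5 M))
  set P' := ((P : Subgroup M).map M.subtype) with hP'
  have hP5 : Nat.card P' = 5 := by rw [hP', Subgroup.card_subtype, Sylow.card_eq_multiplicity, hMfac.2, pow_one]
  haveI : IsCyclic P' := isCyclic_of_prime_card hP5
  set N := Subgroup.normalizer (P' : Set G) with hN'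
  have hPM : P' ≤ M := Subgroup.map_subtype_le _
  have hNcard : Nat.card N ∣ 20 := by
    set φ : N →* MulAut P' := Subgroup.normalizerMonoidHom P' with hφ
    have hk : φ.ker = (Subgroup.centralizer (P' : Set G)).subgroupOf N := Subgroup.normalizerMonoidHom_ker P'
    obtain ⟨a, ha⟩ := exists_prime_orderOf_dvd_card' (G := P') 5 (hP5 ▸ dvd_rfl)
    have ha1 : (a : G) ≠ 1 := fun e => by
      rw [← Subgroup.orderOf_coe, e, orderOf_one] at ha; norm_num at ha
    have ha5 : (a : G) ^ 5 = 1 := by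
      rw [← ha, ← Subgroup.orderOf_coe]; exact pow_orderOf_eq_one _
    set C := Subgroup.centralizer (P' : Set G) with hC
    have hC5 : ∀ c ∈ C, c ^ 5 = 1 := fun c hc =>
      h.comm_five ha5 ha1 (Subgroup.mem_centralizer_iff.1 hc a a.2).symm
    have hCM : C ≤ M := by
      intro c hc
      rw [← QuotientGroup.eq_one_iff (N := M)]
      refine orderOf_eq_one_iff.1 (Nat.eq_one_of_dvd_coprimes ?_
        (orderOf_dvd_of_pow_eq_one (show ((c : G ⧸ M)) ^ 5 = 1 by rw [← QuotientGroup.mk_pow, hC5 c hc]; rfl))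
        (orderOf_dvd_natCard (c : G ⧸ M)))
      rw [← Subgroup.index_eq_card]
      exact (Nat.Prime.coprime_iff_not_dvd Nat.prime_five).2 h5
    have hC1 : Nat.card C ≤ 5 := by
      have hp : IsPGroup 5 (C.subgroupOf M) := fun c => ⟨1, Subtype.ext (Subtype.ext (by
        simpa using hC5 _ c.2))⟩
      obtain ⟨Q, hQ⟩ := hp.exists_le_sylow
      rw [← Nat.card_congr (Subgroup.subgroupOfEquivOfLe hCM).toEquiv]
      refine (Subgroup.card_le_of_le hQ).trans (le_of_eq ?_)
      rw [Sylow.card_eq_multiplicity, hMfac.2, pow_one]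
    have hCP : C = P' := by
      refine (Subgroup.eq_of_le_of_card_ge (fun x hx => Subgroup.mem_centralizer_iff.2 fun y hy => ?_) (hP5 ▸ hC1)).symm
      open scoped IsMulCommutative in exact congrArg Subtype.val (mul_comm' (⟨y, hy⟩ : P') ⟨x, hx⟩)
    rw [← Subgroup.card_mul_index φ.ker, Subgroup.index_ker, hk,
      Nat.card_congr (Subgroup.subgroupOfEquivOfLe (hCP ▸ Subgroup.le_normalizer : C ≤ N)).toEquiv, hCP, hP5]
    show 5 * _ ∣ 5 * 4
    refine Nat.mul_dvd_mul_left 5 ((Subgroup.card_subgroup_dvd_card _).trans ?_)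
    rw [IsCyclic.card_mulAut, hP5, Nat.totient_prime Nat.prime_five]
  have hidx : M.index ∣ 4 := by
    have hN := hfive _ (Sylow.normalizer_sup_eq_top P)
    have h5' : 5 ∣ Nat.card (M ⊓ N : Subgroup G) := by
      rw [← hP5]; exact Subgroup.card_dvd_of_le (le_inf hPM Subgroup.le_normalizer)
    obtain ⟨k, hk⟩ := h5'
    rw [← hN] at hNcard
    have h20 : M.index * (5 * k) ∣ 5 * 4 := by rw [← hk]; exact hNcard
    rw [mul_left_comm] at h20
    exact (dvd_mul_right _ k).trans (Nat.dvd_of_mul_dvd_mul_left (by norm_num) h20)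
  by_contra hne
  haveI : Fact (Nat.Prime 2) := ⟨Nat.prime_two⟩
  have hi2 : 2 ∣ Nat.card (G ⧸ M) := by
    rw [← Subgroup.index_eq_card]
    have h1 : M.index ≠ 1 := fun e => hne (Subgroup.index_eq_one.1 e)
    obtain ⟨k, hk4, hk⟩ := (Nat.dvd_prime_pow Nat.prime_two).1 (show M.index ∣ 2 ^ 2 from hidx)
    rw [hk] at h1 ⊢
    exact dvd_pow_self 2 (by rintro rfl; exact h1 (pow_zero 2))
  obtain ⟨q, hq⟩ := exists_prime_orderOf_dvd_card' (G := G ⧸ M) 2 hi2
  obtain ⟨x, rfl⟩ := QuotientGroup.mk_surjective q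
  have hxM : x ∉ M := fun hx => by
    rw [(QuotientGroup.eq_one_iff x).2 hx, orderOf_one] at hq; norm_num at hq
  have hx2 : x * x ∈ M := by
    rw [← QuotientGroup.eq_one_iff (N := M), QuotientGroup.mk_mul, ← pow_two, ← hq]
    exact pow_orderOf_eq_one _
  rcases hM with ⟨⟨e⟩⟩ | ⟨⟨e⟩⟩
  · exact no_outer_five h e hxM hx2
  · exact no_outer_six h e hxM hx2

end Cfsg.Agent.Orders5
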