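import Mathlib
import Cfsg.Agent.EqLemmas
import Cfsg.Agent.Lib.Solvable.ThreePrimes
import Cfsg.Agent.S0144

/-
Groups in which every element order is at most five.

* `Ord5`, `Ord5.subgroup`, `Ord5.quotient`
* `Ord5.comm_two`, `Ord5.comm_three`, `Ord5.comm_five` : elements commuting with a nontrivial
  element of one of the three kinds are of the same kind
* `Ord5.solvable_two_primes`, `Ord5.dvd_of_not_solvable`
* `Ord5.card_eq_prime` : a p-group acting on a nontrivial 2-subgroup (p odd) has order at most p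
-/

set_option autoImplicit false

namespace Cfsg.Agent.Orders5

variable {G : Type*} [Group G]

/-- Every element has order dividing 4, 3 or 5. -/
def Ord5 (G : Type*) [Group G] : Prop := ∀ g : G, g ^ 4 = 1 ∨ g ^ 3 = 1 ∨ g ^ 5 = 1

theorem Ord5.of_injective {H : Type*} [Group H] (h : Ord5 G) (f : H →* G)
    (hf : Function.Injective f) : Ord5 H := fun g => by
  rcases h (f g) with h1 | h1 | h1
  · exact Or.inl (hf (by rw [map_pow, h1, map_one]))
  · exact Or.inr (Or.inl (hf (by rw [map_pow, h1, map_one])))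
  · exact Or.inr (Or.inr (hf (by rw [map_pow, h1, map_one])))

theorem Ord5.subgroup (h : Ord5 G) (H : Subgroup G) : Ord5 H :=
  h.of_injective H.subtype H.subtype_injective

theorem Ord5.quotient (h : Ord5 G) (N : Subgroup G) [N.Normal] : Ord5 (G ⧸ N) := fun g => by
  obtain ⟨g, rfl⟩ := QuotientGroup.mk_surjective g
  simp only [← QuotientGroup.mk_pow]
  rcases h g with h1 | h1 | h1 <;> simp [h1]

theorem Ord5.orderOf_cases (h : Ord5 G) (g : G) :
    orderOf g ∣ 4 ∨ orderOf g ∣ 3 ∨ orderOf g ∣ 5 := by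
  simpa only [orderOf_dvd_iff_pow_eq_one] using h g

theorem Ord5.primePow (h : Ord5 G) {g : G} (hg : g ≠ 1) : IsPrimePow (orderOf g) := by
  rcases h.orderOf_cases g with h1 | h1 | h1
  · exact IsPrimePow.dvd ((isPrimePow_nat_iff 4).2 ⟨2, 2, Nat.prime_two, by norm_num, rfl⟩) h1 (fun e => hg (orderOf_eq_one_iff.1 e))
  · exact IsPrimePow.dvd Nat.prime_three.isPrimePow h1 (fun e => hg (orderOf_eq_one_iff.1 e))
  · exact IsPrimePow.dvd Nat.prime_five.isPrimePow h1 (fun e => hg (orderOf_eq_one_iff.1 e))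

theorem Ord5.eq_one_of_coprime (h : Ord5 G) {g t : G} (hc : Commute g t) {a b : ℕ} (hg : g ^ a = 1)
    (ht : t ^ b = 1) (hab : a.Coprime b) : g = 1 ∨ t = 1 := by
  have hco : (orderOf g).Coprime (orderOf t) :=
    (hab.coprime_dvd_left (orderOf_dvd_of_pow_eq_one hg)).coprime_dvd_right
      (orderOf_dvd_of_pow_eq_one ht)
  by_cases h1 : g * t = 1
  · have : orderOf g = orderOf t := by
      rw [eq_inv_of_mul_eq_one_left h1, orderOf_inv]
    rw [this, Nat.coprime_self, orderOf_eq_one_iff] at hco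
    exact Or.inr hco
  · have hp := h.primePow h1
    rw [hc.orderOf_mul_eq_mul_orderOf_of_coprime hco] at hp
    by_contra hne
    push Not at hne
    obtain ⟨q, hq, hu⟩ := isPrimePow_iff_unique_prime_dvd.1 hp
    obtain ⟨q₁, hq₁, hd₁⟩ := Nat.exists_prime_and_dvd (fun e => hne.1 (orderOf_eq_one_iff.1 e))
    obtain ⟨q₂, hq₂, hd₂⟩ := Nat.exists_prime_and_dvd (fun e => hne.2 (orderOf_eq_one_iff.1 e))
    have e1 := hu q₁ ⟨hq₁, hd₁.mul_right _⟩
    have e2 := hu q₂ ⟨hq₂, hd₂.mul_left _⟩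
    exact hq₁.ne_one (Nat.dvd_one.1 (hco.gcd_eq_one ▸ Nat.dvd_gcd hd₁ (by rwa [e1, ← e2])))

theorem Ord5.comm_two (h : Ord5 G) {g t : G} (ht : t ^ 4 = 1) (ht1 : t ≠ 1) (hc : Commute g t) :
    g ^ 4 = 1 := by
  rcases h g with h1 | h1 | h1
  · exact h1
  · simp [(h.eq_one_of_coprime hc h1 ht (by norm_num)).resolve_right ht1]
  · simp [(h.eq_one_of_coprime hc h1 ht (by norm_num)).resolve_right ht1]

theorem Ord5.comm_three (h : Ord5 G) {g t : G} (ht : t ^ 3 = 1) (ht1 : t ≠ 1) (hc : Commute g t) :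
    g ^ 3 = 1 := by
  rcases h g with h1 | h1 | h1
  · simp [(h.eq_one_of_coprime hc h1 ht (by norm_num)).resolve_right ht1]
  · exact h1
  · simp [(h.eq_one_of_coprime hc h1 ht (by norm_num)).resolve_right ht1]

theorem Ord5.comm_five (h : Ord5 G) {g t : G} (ht : t ^ 5 = 1) (ht1 : t ≠ 1) (hc : Commute g t) :
    g ^ 5 = 1 := by
  rcases h g with h1 | h1 | h1
  · simp [(h.eq_one_of_coprime hc h1 ht (by norm_num)).resolve_right ht1]
  · simp [(h.eq_one_of_coprime hc h1 ht (by norm_num)).resolve_right ht1]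
  · exact h1

theorem Ord5.pow_four (h : Ord5 G) {g : G} {k : ℕ} (hg : orderOf g = 2 ^ k) : g ^ 4 = 1 := by
  rcases h g with h1 | h1 | h1
  · exact h1
  all_goals
    have h2 := orderOf_dvd_of_pow_eq_one h1
    rw [hg] at h2
    rcases k with _ | k
    · rw [pow_zero, orderOf_eq_one_iff] at hg
      simp [hg]
    · exact absurd ((dvd_pow_self 2 (Nat.succ_ne_zero k)).trans h2) (by norm_num)

theorem Ord5.pow_four_of_isPGroup (h : Ord5 G) {H : Subgroup G} (hH : IsPGroup 2 H) {g : G}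
    (hg : g ∈ H) : g ^ 4 = 1 := by
  have := Fact.mk Nat.prime_two
  obtain ⟨k, hk⟩ := IsPGroup.iff_orderOf.1 hH ⟨g, hg⟩
  exact h.pow_four (by rw [← hk, Subgroup.orderOf_mk])

theorem Ord5.pow_prime_of_orderOf (h : Ord5 G) {g : G} {p k : ℕ} (hp : p.Prime) (hp2 : p ≠ 2)
    (hg : orderOf g = p ^ k) : g ^ p = 1 := by
  rcases k with _ | k
  · rw [pow_zero, orderOf_eq_one_iff] at hg
    simp [hg]
  have hd : p ∣ orderOf g := hg ▸ dvd_pow_self p (Nat.succ_ne_zero k)
  rcases h.orderOf_cases g with h1 | h1 | h1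
  · exact absurd ((Nat.prime_dvd_prime_iff_eq hp Nat.prime_two).1
      (hp.dvd_of_dvd_pow (show p ∣ 2 ^ 2 from hd.trans h1))) hp2
  · rw [(Nat.prime_dvd_prime_iff_eq hp Nat.prime_three).1 (hd.trans h1)]
    exact orderOf_dvd_iff_pow_eq_one.1 h1
  · rw [(Nat.prime_dvd_prime_iff_eq hp Nat.prime_five).1 (hd.trans h1)]
    exact orderOf_dvd_iff_pow_eq_one.1 h1

theorem Ord5.pow_prime_of_isPGroup (h : Ord5 G) {p : ℕ} [hp : Fact p.Prime] (hp2 : p ≠ 2)
    {H : Subgroup G} (hH : IsPGroup p H) {g : G} (hg : g ∈ H) : g ^ p = 1 := by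
  obtain ⟨k, hk⟩ := IsPGroup.iff_orderOf.1 hH ⟨g, hg⟩
  exact h.pow_prime_of_orderOf hp.out hp2 (by rw [← hk, Subgroup.orderOf_mk])

theorem isPGroup_two_of_pow_four {H : Subgroup G} (hH : ∀ g ∈ H, g ^ 4 = 1) : IsPGroup 2 H :=
  fun g => ⟨2, Subtype.ext (by simpa using hH g g.2)⟩

/-- The centraliser of a nontrivial 2-element is a 2-group. -/
theorem Ord5.centralizer_isPGroup (h : Ord5 G) {t : G} (ht : t ^ 4 = 1) (ht1 : t ≠ 1) :
    IsPGroup 2 (Subgroup.centralizer ({t} : Set G)) :=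
  isPGroup_two_of_pow_four fun _ hg => h.comm_two ht ht1 (Subgroup.mem_centralizer_singleton_iff.1 hg)

/-- An element of odd prime order fixes no nontrivial 2-element. -/
theorem Ord5.fpf (h : Ord5 G) {x d : G} {p : ℕ} (hp : p.Prime) (hp2 : p ≠ 2) (hx : x ^ p = 1)
    (hx1 : x ≠ 1) (hd : d ^ 4 = 1) (hc : Commute d x) : d = 1 :=
  (h.eq_one_of_coprime hc hd hx (show (4 : ℕ).Coprime p from
    ((Nat.coprime_primes Nat.prime_two hp).2 (Ne.symm hp2)).pow_left 2)).resolve_right hx1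

variable [Finite G]

theorem Ord5.prime_cases (h : Ord5 G) {p : ℕ} (hp : p.Prime) (hd : p ∣ Nat.card G) :
    p = 2 ∨ p = 3 ∨ p = 5 := by
  have := Fact.mk hp
  obtain ⟨x, hx⟩ := exists_prime_orderOf_dvd_card' p hd
  rcases h.orderOf_cases x with h1 | h1 | h1 <;> rw [hx] at h1
  · exact Or.inl ((Nat.prime_dvd_prime_iff_eq hp Nat.prime_two).1
      (hp.dvd_of_dvd_pow (show p ∣ 2 ^ 2 from h1)))
  · exact Or.inr (Or.inl ((Nat.prime_dvd_prime_iff_eq hp Nat.prime_three).1 h1))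
  · exact Or.inr (Or.inr ((Nat.prime_dvd_prime_iff_eq hp Nat.prime_five).1 h1))

omit [Group G] [Finite G] in
theorem exists_two_prime_pows {n p q : ℕ} (hn : n ≠ 0) (hpq : p ≠ q) (hp : p.Prime) (hq : q.Prime)
    (h : ∀ r, r.Prime → r ∣ n → r = p ∨ r = q) : ∃ a b, n = p ^ a * q ^ b := by
  refine ⟨n.factorization p, n.factorization q, Nat.eq_of_factorization_eq hn
    (Nat.mul_ne_zero (pow_ne_zero _ hp.ne_zero) (pow_ne_zero _ hq.ne_zero)) fun r => ?_⟩
  rw [Nat.factorization_mul (pow_ne_zero _ hp.ne_zero) (pow_ne_zero _ hq.ne_zero),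
    Nat.Prime.factorization_pow hp, Nat.Prime.factorization_pow hq, Finsupp.add_apply,
    Finsupp.single_apply, Finsupp.single_apply]
  by_cases hr : r ∈ n.factorization.support
  · rw [Nat.support_factorization, Nat.mem_primeFactors] at hr
    rcases h r hr.1 hr.2.1 with rfl | rfl
    · rw [if_pos rfl, if_neg (Ne.symm hpq), add_zero]
    · rw [if_neg hpq, if_pos rfl, zero_add]
  · rw [Finsupp.notMem_support_iff] at hr
    rw [hr]
    split_ifs with h1 h2 h2 <;> subst_vars <;> simp_all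

/-- A solvable group of this kind has at most two prime divisors. -/
theorem Ord5.solvable_two_primes (h : Ord5 G) [Group.IsSolvable G] :
    ¬ (2 ∣ Nat.card G ∧ 3 ∣ Nat.card G ∧ 5 ∣ Nat.card G) := by
  rintro ⟨h2, h3, h5⟩
  obtain ⟨g, hg⟩ := Solvable.exists_orderOf_eq_mul_of_three_primes Nat.prime_two Nat.prime_three
    Nat.prime_five (by norm_num) (by norm_num) (by norm_num) h2 h3 h5
  rcases h.orderOf_cases g with h1 | h1 | h1 <;> rcases hg with e | e | e <;> rw [e] at h1 <;>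
    norm_num at h1

theorem Ord5.dvd_of_not_solvable (h : Ord5 G) (hns : ¬ Group.IsSolvable G) :
    2 ∣ Nat.card G ∧ 3 ∣ Nat.card G ∧ 5 ∣ Nat.card G := by
  have key : ∀ p q : ℕ, p.Prime → q.Prime → p ≠ q →
      (∀ r, r.Prime → r ∣ Nat.card G → r = p ∨ r = q) → False := by
    intro p q hp hq hpq hr
    obtain ⟨a, b, hab⟩ := exists_two_prime_pows Nat.card_pos.ne' hpq hp hq hr
    exact hns (S0144.result p q a b hp hq hab)
  refine ⟨by_contra fun hn => key 3 5 Nat.prime_three Nat.prime_five (by norm_num) fun r hr hd => ?_,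
    by_contra fun hn => key 2 5 Nat.prime_two Nat.prime_five (by norm_num) fun r hr hd => ?_,
    by_contra fun hn => key 2 3 Nat.prime_two Nat.prime_three (by norm_num) fun r hr hd => ?_⟩ <;>
  rcases h.prime_cases hr hd with rfl | rfl | rfl <;> first | exact absurd hd hn | simp

end Cfsg.Agent.Orders5
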