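import Cfsg.Agent.Lib.Orders5.Local
import Cfsg.Agent.S0016

/-
The configuration of `PSL₃(4)` (`|Z| = 4`, a single class of involutions) contradicts the absence of
elements of order seven: counting pairs of involutions gives `K = 123 + 8 (e₃ (q₃ - 1) + e₅ (q₅ - 1))`
for the number `K = q₃ q₅` of involutions, with `e₃, e₅ ∈ {0, 1, 2, 4}`.

* `Count.false_of_fused`
-/

set_option autoImplicit false

namespace Cfsg.Agent.Orders5

namespace Count

/-- The Diophantine condition has no solution. -/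
theorem no_solution {b c k l : ℕ} (hb : 1 ≤ b) (hc : 1 ≤ c) (hk : k = 0 ∨ k = 8 ∨ k = 16 ∨ k = 32)
    (hl : l = 0 ∨ l = 8 ∨ l = 16 ∨ l = 32) :
    3 ^ b * 5 ^ c ≠ 123 + k * (3 ^ b - 1) + l * (5 ^ c - 1) := by
  intro h
  have hbc : b ≤ 6 ∧ c ≤ 4 := by
    by_contra hn
    push Not at hn
    have hx3 : 3 ≤ 3 ^ b := Nat.le_self_pow (by omega) 3
    have hy5 : 5 ≤ 5 ^ c := Nat.le_self_pow (by omega) 5
    rcases Nat.lt_or_ge b 4 with hb4 | hb4
    · -- then `c` is large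
      have hy : 5 ^ 5 ≤ 5 ^ c := Nat.pow_le_pow_right (by norm_num) (hn (by omega))
      interval_cases b <;> rcases hk with rfl | rfl | rfl | rfl <;> rcases hl with rfl | rfl | rfl | rfl <;>
        norm_num at h hy <;> omega
    rcases Nat.lt_or_ge c 3 with hc3 | hc3
    · have hb7 : 7 ≤ b := by
        by_contra hb7
        exact absurd (hn (by omega)) (by omega)
      have hx : 3 ^ 7 ≤ 3 ^ b := Nat.pow_le_pow_right (by norm_num) hb7
      interval_cases c <;> rcases hk with rfl | rfl | rfl | rfl <;> rcases hl with rfl | rfl | rfl | rfl <;>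
        norm_num at h hx <;> omega
    have hx : 81 ≤ 3 ^ b := le_trans (by norm_num) (Nat.pow_le_pow_right (by norm_num) hb4 : 3 ^ 4 ≤ 3 ^ b)
    have hy : 125 ≤ 5 ^ c := le_trans (by norm_num) (Nat.pow_le_pow_right (by norm_num) hc3 : 5 ^ 3 ≤ 5 ^ c)
    have h1 : k * (3 ^ b - 1) ≤ 32 * 3 ^ b := Nat.mul_le_mul (by omega) (Nat.sub_le _ _)
    have h2 : l * (5 ^ c - 1) ≤ 32 * 5 ^ c := Nat.mul_le_mul (by omega) (Nat.sub_le _ _)
    nlinarith
  obtain ⟨hb6, hc4⟩ := hbc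
  interval_cases b <;> interval_cases c <;> rcases hk with rfl | rfl | rfl | rfl <;>
    rcases hl with rfl | rfl | rfl | rfl <;> norm_num at h

/-- A nontrivial element of order two. -/
def IsInv {G : Type*} [Group G] (x : G) : Prop := x * x = 1 ∧ x ≠ 1

variable {G : Type*} [Group G] [Finite G]

omit [Finite G] in
theorem isInv_conj {x : G} (h : IsInv x) (g : G) : IsInv (g * x * g⁻¹) :=
  ⟨sq_conj h.1, fun e => h.2 (conj_eq_one_iff.1 e)⟩

omit [Finite G] in
theorem isInv_conj_iff {x : G} (g : G) : IsInv (g * x * g⁻¹) ↔ IsInv x :=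
  ⟨fun h => by simpa [mul_assoc] using isInv_conj h g⁻¹, fun h => isInv_conj h g⟩

omit [Finite G] in
theorem card_congr_conj {α : G → Prop} {β : G → Prop} (g : G) (h : ∀ x, α x ↔ β (g * x * g⁻¹)) :
    Nat.card {x // α x} = Nat.card {x // β x} :=
  Nat.card_congr ((MulAut.conj g).toEquiv.subtypeEquiv h)

/-- The number of ways to write `g` as a product of two involutions. -/
noncomputable def pairs (g : G) : ℕ := Nat.card {x : G // IsInv x ∧ IsInv (x * g)}

omit [Finite G] in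
theorem pairs_conj (g h : G) : pairs (h * g * h⁻¹) = pairs g := by
  refine (card_congr_conj h fun x => ?_).symm
  rw [isInv_conj_iff, show h * x * h⁻¹ * (h * g * h⁻¹) = h * (x * g) * h⁻¹ by group, isInv_conj_iff]

omit [Finite G] in
theorem inverts_of_inv {x g : G} (hx : IsInv x) (hxg : IsInv (x * g)) : x * g * x⁻¹ = g⁻¹ := by
  rw [inv_eq_of_mul_eq_one_right hx.1]
  refine (eq_inv_of_mul_eq_one_left ?_)
  rw [mul_assoc, hxg.1]

/-- The pairs with product of order `p`. -/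
noncomputable def oddPairs (G : Type*) [Group G] (p : ℕ) : ℕ :=
  Nat.card (Σ g : {g : G // g ^ p = 1 ∧ g ≠ 1}, {x : G // IsInv x ∧ IsInv (x * g.1)})

theorem card_two_group_unique_inv {H : Subgroup G} (h4 : ∀ g ∈ H, g ^ 4 = 1) {x : G} (hx : x ∈ H)
    (hxi : IsInv x) (huniq : ∀ w ∈ H, IsInv w → w = x) :
    Nat.card H = 2 ∨ Nat.card H = 4 ∨ Nat.card H = 8 := by
  haveI : Fact (Nat.Prime 2) := ⟨Nat.prime_two⟩
  have hH : IsPGroup 2 H := isPGroup_two_of_pow_four h4
  have ho : ∀ a : H, orderOf a ∣ 4 := fun a =>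
    orderOf_dvd_of_pow_eq_one (Subtype.ext (h4 a a.2))
  obtain ⟨k, hk⟩ := IsPGroup.iff_card.1 hH
  have hk1 : 1 ≤ k := by
    rcases k with _ | k
    · rw [pow_zero, Subgroup.card_eq_one] at hk
      exact absurd (Subgroup.mem_bot.1 (hk ▸ hx)) hxi.2
    · omega
  have hk3 : k ≤ 3 := by
    have huniq' : ∀ A B : Subgroup H, Nat.card A = 2 → Nat.card B = 2 → A = B := by
      have key : ∀ A : Subgroup H, Nat.card A = 2 → A = Subgroup.zpowers (⟨x, hx⟩ : H) := by
        intro A hA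
        haveI : Nontrivial A := Finite.one_lt_card_iff_nontrivial.1 (by omega)
        obtain ⟨a, ha⟩ := exists_ne (1 : A)
        have h2 := pow_card_eq_one' (x := a)
        rw [hA, pow_two] at h2
        have e : (a : H) = ⟨x, hx⟩ := Subtype.ext (huniq _ (a : H).2
          ⟨congrArg (fun t : A => ((t : H) : G)) h2, fun e => ha (Subtype.ext (Subtype.ext e))⟩)
        refine (Subgroup.eq_of_le_of_card_ge (Subgroup.zpowers_le.2 (e ▸ a.2)) ?_).symm
        rw [hA, Nat.card_zpowers, orderOf_eq_prime (by rw [pow_two]; exact Subtype.ext hxi.1)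
          (fun e => hxi.2 (congrArg Subtype.val e))]
      exact fun A B hA hB => (key A hA).trans (key B hB).symm
    by_contra hk3
    rcases S0016.result 2 hH huniq' with hc | ⟨-, n, ⟨e⟩⟩
    · obtain ⟨a, ha⟩ := IsCyclic.exists_ofOrder_eq_natCard (α := H)
      have h1 := Nat.le_of_dvd (by norm_num) (ho a)
      rw [ha, hk] at h1
      have : 2 ^ 4 ≤ 2 ^ k := Nat.pow_le_pow_right (by norm_num) (by omega)
      omega
    · have h1 := ho (e.symm (QuaternionGroup.a 1))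
      rw [MulEquiv.orderOf_eq, QuaternionGroup.orderOf_a_one] at h1
      have h2 := Nat.le_of_dvd (by norm_num) h1
      have h3 : Nat.card H = 4 * 2 ^ n := by
        rw [Nat.card_congr e.toEquiv, Nat.card_eq_fintype_card, QuaternionGroup.card]
      have : 2 ^ 4 ≤ 2 ^ k := Nat.pow_le_pow_right (by norm_num) (by omega)
      rw [hk] at h3
      omega
  interval_cases k <;> simp [hk]

/-- The pairs with product of odd prime order. -/
theorem oddPairs_eq (hG : Ord5 G) {p : ℕ} (hp : p = 3 ∨ p = 5) (P : Sylow p G) :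
    ∃ e, (e = 0 ∨ e = 1 ∨ e = 2 ∨ e = 4) ∧
      8 * oddPairs G p = e * (Nat.card G * (Nat.card (P : Subgroup G) - 1)) := by
  have hpp : p.Prime := by rcases hp with rfl | rfl <;> norm_num
  have hp2 : p ≠ 2 := by omega
  haveI : Fact p.Prime := ⟨hpp⟩
  have hcent : ∀ g : G, g ^ p = 1 → g ≠ 1 → ∀ c, Commute c g → c ^ p = 1 := fun g hg hg1 c hc => by
    rcases hp with rfl | rfl
    · exact hG.comm_three hg hg1 hc
    · exact hG.comm_five hg hg1 hc
  by_cases hreal : ∀ g : G, g ^ p = 1 → g ≠ 1 → ∀ x, IsInv x → ¬ IsInv (x * g)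
  · refine ⟨0, Or.inl rfl, ?_⟩
    have : IsEmpty (Σ g : {g : G // g ^ p = 1 ∧ g ≠ 1}, {x : G // IsInv x ∧ IsInv (x * g.1)}) :=
      ⟨fun q => hreal q.1.1 q.1.2.1 q.1.2.2 q.2.1 q.2.2.1 q.2.2.2⟩
    rw [oddPairs, Nat.card_of_isEmpty, Nat.mul_zero, Nat.zero_mul]
  push Not at hreal
  obtain ⟨g₀, hg₀, hg₀1, x₀, hx₀, hx₀g⟩ := hreal
  have hx₀i : x₀⁻¹ = x₀ := inv_eq_of_mul_eq_one_right hx₀.1
  -- a p-group normalised by `x₀` is inverted by it
  have hinvP : ∀ A : Subgroup G, (∀ c ∈ A, c ^ p = 1) → (∀ c ∈ A, x₀ * c * x₀⁻¹ ∈ A) →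
      ∀ c ∈ A, x₀ * c * x₀⁻¹ = c⁻¹ := by
    intro A hA hn c hc
    let φ : A →* A := MonoidHom.mk' (fun a => ⟨x₀ * a * x₀⁻¹, hn a a.2⟩) fun a b => Subtype.ext (by simp [mul_assoc])
    have hfpf : MonoidHom.FixedPointFree φ := fun a ha => Subtype.ext (by
      by_contra ha1
      have hc : Commute (a : G) x₀ := (mul_inv_eq_iff_eq_mul.1 (congrArg Subtype.val ha)).symm
      exact hx₀.2 ((hG.eq_one_of_coprime hc (hA a a.2) (show x₀ ^ 2 = 1 by rw [pow_two]; exact hx₀.1)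
        ((Nat.coprime_primes hpp Nat.prime_two).2 hp2)).resolve_left ha1))
    have h := MonoidHom.FixedPointFree.coe_eq_inv_of_involutive hfpf (fun a => Subtype.ext (by
      show x₀ * (x₀ * (a : G) * x₀⁻¹) * x₀⁻¹ = a
      rw [hx₀i, ← mul_assoc, ← mul_assoc, hx₀.1, one_mul, mul_assoc, hx₀.1, mul_one]))
    exact congrArg Subtype.val (congrFun h ⟨c, hc⟩)
  have hstable : ∀ z, x₀ * z * x₀⁻¹ = z⁻¹ → ∀ c ∈ Subgroup.centralizer ({z} : Set G),
      x₀ * c * x₀⁻¹ ∈ Subgroup.centralizer ({z} : Set G) := fun z hz c hc => by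
    refine Subgroup.mem_centralizer_singleton_iff.2 ?_
    have h1 := commute_conj (g := x₀) (show Commute c z from Subgroup.mem_centralizer_singleton_iff.1 hc)
    rw [hz] at h1
    exact (inv_inv z ▸ h1.inv_right : Commute (x₀ * c * x₀⁻¹) z)
  have hcomm : ∀ z, z ^ p = 1 → z ≠ 1 → x₀ * z * x₀⁻¹ = z⁻¹ →
      ∀ c ∈ Subgroup.centralizer ({z} : Set G), x₀ * c * x₀⁻¹ = c⁻¹ := fun z hz hz1 hxz =>
    hinvP _ (fun c hc => hcent z hz hz1 c (Subgroup.mem_centralizer_singleton_iff.1 hc)) (hstable z hxz)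
  have hpC : ∀ z, z ^ p = 1 → z ≠ 1 → IsPGroup p (Subgroup.centralizer ({z} : Set G)) :=
    fun z hz hz1 c => ⟨1, Subtype.ext (by
      simpa using hcent z hz hz1 c (Subgroup.mem_centralizer_singleton_iff.1 c.2))⟩
  have hx₀g₀ := inverts_of_inv hx₀ hx₀g
  -- a Sylow subgroup containing `C(g₀)`
  obtain ⟨Q, hQ⟩ := (hpC g₀ hg₀ hg₀1).exists_le_sylow
  have hg₀Q : g₀ ∈ (Q : Subgroup G) := hQ (Subgroup.mem_centralizer_singleton_iff.2 rfl)
  haveI : Nontrivial (Q : Subgroup G) := ⟨⟨g₀, hg₀Q⟩, 1, fun e => hg₀1 (congrArg Subtype.val e)⟩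
  haveI := Q.2.center_nontrivial
  obtain ⟨z, hz⟩ := exists_ne (1 : Subgroup.center (Q : Subgroup G))
  have hz1 : ((z : (Q : Subgroup G)) : G) ≠ 1 := fun e => hz (Subtype.ext (Subtype.ext e))
  have hzQ : ∀ c ∈ (Q : Subgroup G), Commute c ((z : (Q : Subgroup G)) : G) := fun c hc =>
    congrArg Subtype.val (Subgroup.mem_center_iff.1 z.2 ⟨c, hc⟩)
  have hzp : ((z : (Q : Subgroup G)) : G) ^ p = 1 :=
    hG.pow_prime_of_isPGroup hp2 Q.isPGroup' (z : (Q : Subgroup G)).2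
  have hzi : x₀ * ((z : (Q : Subgroup G)) : G) * x₀⁻¹ = ((z : (Q : Subgroup G)) : G)⁻¹ :=
    hcomm g₀ hg₀ hg₀1 hx₀g₀ _ (Subgroup.mem_centralizer_singleton_iff.2 (hzQ g₀ hg₀Q).symm.eq)
  have hQC : ∀ c ∈ (Q : Subgroup G), x₀ * c * x₀⁻¹ = c⁻¹ := fun c hc =>
    hcomm _ hzp hz1 hzi c (Subgroup.mem_centralizer_singleton_iff.2 (hzQ c hc).eq)
  have hQcomm : ∀ c ∈ (Q : Subgroup G), ∀ d ∈ (Q : Subgroup G), Commute c d := by
    intro c hc d hd
    have h := hQC (c * d) ((Q : Subgroup G).mul_mem hc hd)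
    rw [← conj_mul, hQC c hc, hQC d hd, ← mul_inv_rev, inv_inj] at h
    exact h.symm
  -- centralisers in `Q`
  have hTI : ∀ g ∈ (Q : Subgroup G), g ≠ 1 → Subgroup.centralizer ({g} : Set G) = (Q : Subgroup G) :=
    fun g hg hg1 => Q.3 (hpC g (hG.pow_prime_of_isPGroup hp2 Q.isPGroup' hg) hg1) fun c hc =>
      Subgroup.mem_centralizer_singleton_iff.2 (hQcomm c hc g hg).eq
  have hconj : ∀ g : G, g ^ p = 1 → ∃ h : G, h⁻¹ * g * h ∈ (Q : Subgroup G) := by
    intro g hg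
    have hpg : IsPGroup p (Subgroup.zpowers g) := by
      rintro ⟨a, n, rfl⟩
      refine ⟨1, Subtype.ext ?_⟩
      show (g ^ n) ^ (p ^ 1) = 1
      rw [pow_one, ← zpow_natCast, ← zpow_mul, mul_comm, zpow_mul, zpow_natCast, hg, one_zpow]
    obtain ⟨R, hR⟩ := hpg.exists_le_sylow
    obtain ⟨h, hh⟩ := MulAction.exists_smul_eq G R Q
    refine ⟨h⁻¹, ?_⟩
    rw [inv_inv, ← hh]
    exact ⟨g, hR (Subgroup.mem_zpowers g), rfl⟩
  have hx₀Q : x₀ ∉ (Q : Subgroup G) := fun h => hg₀1 (by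
    have h1 := hQC g₀ hg₀Q
    rw [(hQcomm x₀ h g₀ hg₀Q).eq, mul_inv_cancel_right, eq_inv_iff_mul_eq_one, ← pow_two] at h1
    exact orderOf_eq_one_iff.1 (Nat.eq_one_of_dvd_coprimes
      (((Nat.coprime_primes hpp Nat.prime_two).2 hp2)) (orderOf_dvd_of_pow_eq_one hg₀)
      (orderOf_dvd_of_pow_eq_one h1)))
  set q := Nat.card (Q : Subgroup G) with hq
  -- the pairs at `g ∈ Q`
  have hpairs : ∀ g ∈ (Q : Subgroup G), g ≠ 1 → pairs g = q := by
    intro g hg hg1
    refine Nat.card_congr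
      { toFun := fun x => ⟨x₀ * x.1, ?_⟩
        invFun := fun c => ⟨x₀ * c.1, ?_, ?_⟩
        left_inv := fun x => Subtype.ext (show x₀ * (x₀ * x.1) = x.1 by rw [← mul_assoc, hx₀.1, one_mul])
        right_inv := fun c => Subtype.ext (show x₀ * (x₀ * c.1) = c.1 by rw [← mul_assoc, hx₀.1, one_mul]) }
    · have h1 := inverts_of_inv x.2.1 x.2.2
      rw [← hTI g hg hg1, Subgroup.mem_centralizer_singleton_iff]
      have h2 := hQC g hg
      rw [← h2, hx₀i] at h1
      calc x₀ * x.1 * g = x₀ * (x.1 * g * x.1⁻¹) * x.1 := by group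
        _ = x₀ * (x₀ * g * x₀) * x.1 := by rw [h1]
        _ = g * (x₀ * x.1) := by rw [← mul_assoc x₀ (x₀ * g), ← mul_assoc x₀ x₀, hx₀.1, one_mul, mul_assoc g]
    all_goals
      have hmem : ∀ d ∈ (Q : Subgroup G), IsInv (x₀ * d) := fun d hd => ⟨by
        have := hQC d hd
        rw [hx₀i] at this
        rw [← mul_assoc, this, inv_mul_cancel], fun e => hx₀Q (by
        rw [eq_inv_of_mul_eq_one_left e]
        exact (Q : Subgroup G).inv_mem hd)⟩
    · exact hmem _ c.2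
    · rw [mul_assoc]
      exact hmem _ ((Q : Subgroup G).mul_mem c.2 hg)
  have hall : ∀ g : {g : G // g ^ p = 1 ∧ g ≠ 1}, pairs g.1 = q := fun g => by
    obtain ⟨h, hh⟩ := hconj g.1 g.2.1
    rw [← pairs_conj g.1 h⁻¹, inv_inv]
    exact hpairs _ hh (fun e => g.2.2 (by
      have := congrArg (fun t => h * t * h⁻¹) e
      simpa [mul_assoc] using this))
  set N := Subgroup.normalizer ((Q : Subgroup G) : Set G) with hN
  -- the elements of order `p`
  have hcount : Nat.card {g : G // g ^ p = 1 ∧ g ≠ 1} * Nat.card N = Nat.card G * (q - 1) := by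
    classical
    have := Fintype.ofFinite G
    have hf : ∀ g : {g : G // g ^ p = 1 ∧ g ≠ 1},
        Nat.card {h : G // h⁻¹ * g.1 * h ∈ (Q : Subgroup G)} = Nat.card N := by
      intro g
      obtain ⟨h₁, hh₁⟩ := hconj g.1 g.2.1
      refine Nat.card_congr ((Equiv.mulLeft h₁⁻¹).subtypeEquiv fun k => ?_)
      show k⁻¹ * g.1 * k ∈ (Q : Subgroup G) ↔ h₁⁻¹ * k ∈ N
      have e : k⁻¹ * g.1 * k = (h₁⁻¹ * k)⁻¹ * (h₁⁻¹ * g.1 * h₁) * (h₁⁻¹ * k) := by group
      rw [e]
      set m := h₁⁻¹ * k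
      set a := h₁⁻¹ * g.1 * h₁
      constructor
      · intro hm
        have ha1 : a ≠ 1 := fun e => g.2.2 (by
          have := congrArg (fun t => h₁ * t * h₁⁻¹) e
          simpa [a, mul_assoc] using this)
        have h1 := hTI a hh₁ ha1
        have h2 := hTI _ hm (fun e => ha1 (by
          have := congrArg (fun t => m * t * m⁻¹) e
          simpa [mul_assoc] using this))
        refine Subgroup.mem_normalizer_iff.2 fun d => ?_
        conv_lhs => rw [← h2]
        conv_rhs => rw [← h1]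
        rw [Subgroup.mem_centralizer_singleton_iff, Subgroup.mem_centralizer_singleton_iff]
        constructor
        · intro hd
          simpa [mul_assoc] using (commute_conj (g := m) (show Commute d _ from hd)).eq
        · intro hd
          simpa [mul_assoc] using (commute_conj (g := m⁻¹) (show Commute _ a from hd)).eq
      · intro hm
        simpa [mul_assoc] using (Subgroup.mem_normalizer_iff.1 (N.inv_mem hm) a).1 hh₁
    have e : (Σ g : {g : G // g ^ p = 1 ∧ g ≠ 1}, {h : G // h⁻¹ * g.1 * h ∈ (Q : Subgroup G)}) ≃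
        G × {c : (Q : Subgroup G) // c ≠ 1} :=
      { toFun := fun x => (x.2.1, ⟨⟨x.2.1⁻¹ * x.1.1 * x.2.1, x.2.2⟩, fun e => x.1.2.2 (by
          have := congrArg (fun t : (Q : Subgroup G) => x.2.1 * (t : G) * x.2.1⁻¹) e
          simpa [mul_assoc] using this)⟩)
        invFun := fun y => ⟨⟨y.1 * (y.2.1 : G) * y.1⁻¹, by
          rw [conj_pow, hG.pow_prime_of_isPGroup hp2 Q.isPGroup' y.2.1.2, mul_one, mul_inv_cancel],
          fun e => y.2.2 (Subtype.ext (conj_eq_one_iff.1 e))⟩,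
          ⟨y.1, by simp [mul_assoc]⟩⟩
        left_inv := fun x => by
          refine Sigma.subtype_ext (Subtype.ext ?_) rfl
          show x.2.1 * (x.2.1⁻¹ * x.1.1 * x.2.1) * x.2.1⁻¹ = x.1.1
          group
        right_inv := fun y => by
          refine Prod.ext rfl (Subtype.ext (Subtype.ext ?_))
          show y.1⁻¹ * (y.1 * (y.2.1 : G) * y.1⁻¹) * y.1 = y.2.1
          group }
    have h1 := Nat.card_congr e
    rw [Nat.card_prod, Nat.card_sigma, Finset.sum_congr rfl (fun g _ => hf g), Finset.sum_const,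
      smul_eq_mul, Finset.card_univ, ← Nat.card_eq_fintype_card] at h1
    rw [h1]
    congr 1
    have := Fintype.ofFinite (Q : Subgroup G)
    rw [hq, Nat.card_eq_fintype_card, Nat.card_eq_fintype_card, Fintype.card_subtype_compl,
      Fintype.card_subtype_eq]
  -- the order of `N`
  set H := N ⊓ Subgroup.centralizer ({x₀} : Set G) with hH
  have hH4 : ∀ g ∈ H, g ^ 4 = 1 := fun g hg =>
    hG.comm_two (pow_four_of_sq hx₀.1) hx₀.2 (Subgroup.mem_centralizer_singleton_iff.1 hg.2)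
  have hx₀N : x₀ ∈ N := Subgroup.mem_normalizer_iff.2 fun c => ⟨fun hc => by
    rw [hQC c hc]; exact (Q : Subgroup G).inv_mem hc, fun hc => by
    have h1 := hQC _ hc
    have h2 : x₀ * (x₀ * c * x₀⁻¹) * x₀⁻¹ = c := by
      rw [hx₀i, ← mul_assoc, ← mul_assoc, hx₀.1, one_mul, mul_assoc, hx₀.1, mul_one]
    rw [h2] at h1
    rw [h1]; exact (Q : Subgroup G).inv_mem hc⟩
  have hQH : ∀ c ∈ (Q : Subgroup G), c ∈ H → c = 1 := fun c hc hcH => by
    by_contra hc1
    exact hx₀Q ((hTI c hc hc1) ▸ Subgroup.mem_centralizer_singleton_iff.2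
      (Subgroup.mem_centralizer_singleton_iff.1 hcH.2).symm)
  have huniq : ∀ w ∈ H, IsInv w → w = x₀ := by
    intro w hw hwi
    have hwQ : ∀ c ∈ (Q : Subgroup G), w * c * w⁻¹ = c⁻¹ := by
      let ψ : (Q : Subgroup G) →* (Q : Subgroup G) := MonoidHom.mk'
        (fun a => ⟨w * a * w⁻¹, (Subgroup.mem_normalizer_iff.1 hw.1 a).1 a.2⟩) fun a b => Subtype.ext (by simp [mul_assoc])
      have hfpf : MonoidHom.FixedPointFree ψ := fun a ha => Subtype.ext (by
        by_contra ha1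
        have hc : Commute (a : G) w := (mul_inv_eq_iff_eq_mul.1 (congrArg Subtype.val ha)).symm
        exact hwi.2 ((hG.eq_one_of_coprime hc (hG.pow_prime_of_isPGroup hp2 Q.isPGroup' a.2)
          (show w ^ 2 = 1 by rw [pow_two]; exact hwi.1)
          ((Nat.coprime_primes hpp Nat.prime_two).2 hp2)).resolve_left ha1))
      have h := MonoidHom.FixedPointFree.coe_eq_inv_of_involutive hfpf (fun a => Subtype.ext (by
        show w * (w * (a : G) * w⁻¹) * w⁻¹ = a
        rw [inv_eq_of_mul_eq_one_right hwi.1, ← mul_assoc, ← mul_assoc, hwi.1, one_mul, mul_assoc, hwi.1, mul_one]))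
      exact fun c hc => congrArg Subtype.val (congrFun h ⟨c, hc⟩)
    have hm : x₀ * w ∈ (Q : Subgroup G) := by
      rw [← hTI g₀ hg₀Q hg₀1, Subgroup.mem_centralizer_singleton_iff]
      have h2 := hwQ g₀ hg₀Q
      rw [← hQC g₀ hg₀Q, hx₀i] at h2
      calc x₀ * w * g₀ = x₀ * (w * g₀ * w⁻¹) * w := by group
        _ = x₀ * (x₀ * g₀ * x₀) * w := by rw [h2]
        _ = g₀ * (x₀ * w) := by rw [← mul_assoc x₀ (x₀ * g₀), ← mul_assoc x₀ x₀, hx₀.1, one_mul, mul_assoc g₀]
    have h3 := hQH _ hm (H.mul_mem ⟨hx₀N, Subgroup.mem_centralizer_singleton_iff.2 rfl⟩ hw)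
    rw [← hx₀i]
    exact eq_inv_of_mul_eq_one_right h3
  have hNcard : Nat.card N = q * Nat.card H := by
    rw [hq, ← Nat.card_prod]
    refine (Nat.card_congr (Equiv.ofBijective
      (fun y : ↥(Q : Subgroup G) × ↥H => (⟨y.1 * y.2, N.mul_mem (Subgroup.le_normalizer y.1.2) y.2.2.1⟩ : N))
      ⟨?_, ?_⟩)).symm
    · rintro ⟨a, b⟩ ⟨a', b'⟩ e
      have e' : (a : G) * b = a' * b' := congrArg Subtype.val e
      have h1 : ((a' : G))⁻¹ * a = 1 := hQH _ ((Q : Subgroup G).mul_mem ((Q : Subgroup G).inv_mem a'.2) a.2) (by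
        have : ((a' : G))⁻¹ * a = b' * ((b : G))⁻¹ := by
          calc ((a' : G))⁻¹ * a = (a' : G)⁻¹ * ((a : G) * b) * (b : G)⁻¹ := by group
            _ = b' * ((b : G))⁻¹ := by rw [e']; group
        rw [this]
        exact H.mul_mem b'.2 (H.inv_mem b.2))
      rw [inv_mul_eq_one] at h1
      rw [← h1] at e'
      exact Prod.ext (Subtype.ext h1.symm) (Subtype.ext (mul_left_cancel e'))
    · rintro ⟨n, hn⟩
      -- `n` moves `x₀` to `x₀ c`, and `c` is a square
      set c := x₀ * (n * x₀ * n⁻¹) with hc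
      have hcQ : c ∈ (Q : Subgroup G) := by
        rw [← hTI g₀ hg₀Q hg₀1, Subgroup.mem_centralizer_singleton_iff, hc]
        have h1 := hQC _ ((Subgroup.mem_normalizer_iff.1 (N.inv_mem hn) g₀).1 hg₀Q)
        have h2 : n * x₀ * n⁻¹ * g₀ * (n * x₀ * n⁻¹)⁻¹ = g₀⁻¹ := by
          calc n * x₀ * n⁻¹ * g₀ * (n * x₀ * n⁻¹)⁻¹ = n * (x₀ * (n⁻¹ * g₀ * n⁻¹⁻¹) * x₀⁻¹) * n⁻¹ := by group
            _ = g₀⁻¹ := by rw [h1]; group
        rw [← hQC g₀ hg₀Q] at h2
        set y := n * x₀ * n⁻¹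
        calc x₀ * y * g₀ = x₀ * (y * g₀ * y⁻¹) * y := by group
          _ = x₀ * (x₀ * g₀ * x₀⁻¹) * y := by rw [h2]
          _ = g₀ * (x₀ * y) := by rw [hx₀i, ← mul_assoc x₀ (x₀ * g₀), ← mul_assoc x₀ x₀, hx₀.1, one_mul, mul_assoc g₀]
      set r := c ^ ((p + 1) / 2) with hr
      have hrQ : r ∈ (Q : Subgroup G) := (Q : Subgroup G).pow_mem hcQ _
      have hrr : r * r = c := by
        rw [hr, ← pow_add, show (p + 1) / 2 + (p + 1) / 2 = p + 1 by omega, pow_succ,
          hG.pow_prime_of_isPGroup hp2 Q.isPGroup' hcQ, one_mul]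
      have hrn : r * n ∈ H := by
        refine ⟨N.mul_mem (Subgroup.le_normalizer hrQ) hn, Subgroup.mem_centralizer_singleton_iff.2 ?_⟩
        have h1 : r * x₀ = x₀ * r⁻¹ := by
          rw [← hQC r hrQ, hx₀i, ← mul_assoc, ← mul_assoc, hx₀.1, one_mul]
        calc r * n * x₀ = r * (n * x₀ * n⁻¹) * n := by group
          _ = r * (x₀ * c) * n := by rw [hc, ← mul_assoc x₀ x₀, hx₀.1, one_mul]
          _ = x₀ * (r⁻¹ * (r * r)) * n := by rw [← mul_assoc r, h1, hrr, mul_assoc x₀]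
          _ = x₀ * (r * n) := by group
      exact ⟨(⟨r⁻¹, (Q : Subgroup G).inv_mem hrQ⟩, ⟨r * n, hrn⟩), Subtype.ext (inv_mul_cancel_left r n)⟩
  have hsum : oddPairs G p = Nat.card {g : G // g ^ p = 1 ∧ g ≠ 1} * q := by
    classical
    have := Fintype.ofFinite G
    have hall' : ∀ g : {g : G // g ^ p = 1 ∧ g ≠ 1}, Nat.card {x : G // IsInv x ∧ IsInv (x * g.1)} = q :=
      hall
    rw [oddPairs, Nat.card_sigma]
    simp only [hall']
    rw [Finset.sum_const, smul_eq_mul,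
      Finset.card_univ, ← Nat.card_eq_fintype_card]
  have hPQ : Nat.card (P : Subgroup G) = q :=
    (Sylow.card_eq_multiplicity P).trans (Sylow.card_eq_multiplicity Q).symm
  have hHc := card_two_group_unique_inv hH4 (x := x₀)
    ⟨hx₀N, Subgroup.mem_centralizer_singleton_iff.2 rfl⟩ hx₀ huniq
  refine ⟨8 / Nat.card H, by rcases hHc with h | h | h <;> simp [h], ?_⟩
  rw [hPQ, ← hcount, hNcard, hsum]
  rcases hHc with h | h | h <;> rw [h] <;> ring

omit [Finite G] in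
theorem inv_mul_comm {A : Subgroup G} (h : ∀ a ∈ A, a * a = 1) {a b : G} (ha : a ∈ A) (hb : b ∈ A) :
    Commute a b := by
  have hi : ∀ u ∈ A, u⁻¹ = u := fun u hu => inv_eq_of_mul_eq_one_right (h u hu)
  calc a * b = (a * b)⁻¹ := (hi _ (A.mul_mem ha hb)).symm
    _ = b * a := by rw [mul_inv_rev, hi a ha, hi b hb]

omit [Finite G] in
theorem sq_conj_eq {g x y : G} : (g * x * g⁻¹ * (g * y * g⁻¹)) ^ 2 = g * (x * y) ^ 2 * g⁻¹ := by
  rw [conj_mul, conj_pow]

/-- A single class of involutions in the configuration with `|Z| = 4` is impossible. -/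
theorem false_of_fused (E : Local G) (hZ : Nat.card E.Z = 4) (hns : ¬ Group.IsSolvable G)
    (htrans : ∀ d ∈ E.D, d ≠ 1 → ∀ e ∈ E.D, e ≠ 1 → ∃ g : G, g * d * g⁻¹ = e)
    {v : G} (hv : v ∈ E.S) (hvD : v ∉ E.D) (hv2 : v * v = 1) : False := by
  classical
  have := Fintype.ofFinite G
  obtain ⟨hs, A, hA, hAsq, hAcard, hAne, hAfus⟩ := E.square hv hvD hv2
  obtain ⟨-, hAD, -⟩ := E.elem_cases hA hAsq hAcard hAne
  obtain ⟨z₀, hz₀, hz₀1⟩ : ∃ z ∈ E.Z, z ≠ 1 := by
    obtain ⟨z, hz⟩ := @exists_ne _ (Finite.one_lt_card_iff_nontrivial.1 (by omega : 1 < Nat.card E.Z)) (1 : E.Z)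
    exact ⟨z, z.2, fun e => hz (Subtype.ext e)⟩
  have hz₀2 : z₀ * z₀ = 1 := E.D_sq z₀ hz₀.1
  have hDcard : Nat.card E.D = 16 := by
    have h := E.D_card
    rw [show Nat.card (E.D ⊓ Subgroup.centralizer (E.S : Set G) : Subgroup G) = 4 from hZ] at h
    omega
  have hScard : Nat.card E.S = 64 := by
    have h := Subgroup.card_mul_index (E.D.subgroupOf E.S)
    rw [Nat.card_congr (Subgroup.subgroupOfEquivOfLe E.D_le).toEquiv,
      show (E.D.subgroupOf E.S).index = E.D.relIndex E.S from rfl, hs, hZ, hDcard] at h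
    omega
  -- elements of `S` squaring to one
  have hinvS : ∀ y ∈ E.S, y * y = 1 → y ∈ E.D ∨ y ∈ A := by
    intro y hy hy2
    obtain ⟨d, hd, a, ha, rfl⟩ := E.exists_mul hA hAsq hAcard hAne hy
    by_cases haD : a ∈ E.D
    · exact Or.inl (E.D.mul_mem hd haD)
    refine Or.inr (A.mul_mem (hAD.ge (E.mem_Z_of_commute (hA ha) haD hd ?_)).1 ha)
    calc d * a = (d * a)⁻¹ := (inv_eq_of_mul_eq_one_right hy2).symm
      _ = a * d := by rw [mul_inv_rev, E.D_inv hd, inv_eq_of_mul_eq_one_right (hAsq a ha)]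
  -- all involutions are conjugate
  have hclass : ∀ t : G, IsInv t → ∃ g : G, g * t * g⁻¹ = z₀ := by
    intro t ht
    have hT : IsPGroup 2 (Subgroup.zpowers t) := isPGroup_two_of_pow_four fun x hx => by
      obtain ⟨n, rfl⟩ := hx
      rw [← zpow_natCast, ← zpow_mul, mul_comm, zpow_mul, zpow_natCast, pow_four_of_sq ht.1, one_zpow]
    obtain ⟨g, hg⟩ := E.exists_conj_le hT
    have htS := hg t (Subgroup.mem_zpowers t)
    obtain ⟨h, hh⟩ : ∃ h : G, h * (g * t * g⁻¹) * h⁻¹ ∈ E.D := by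
      rcases hinvS _ htS (sq_conj ht.1) with h1 | h1
      · exact ⟨1, by simpa using h1⟩
      · exact hAfus _ h1
    obtain ⟨k, hk⟩ := htrans _ hh (isInv_conj (isInv_conj ht g) h).2 z₀ hz₀.1 hz₀1
    exact ⟨k * h * g, by rw [← hk]; group⟩
  have hcomm : ∀ x, Commute x z₀ ↔ x ∈ E.S := fun x =>
    ⟨E.mem_S_of_commute hz₀ hz₀1, fun hx => E.Z_central hz₀ hx⟩
  set K := Nat.card {x : G // IsInv x} with hK
  -- `|G| = 64 K`
  have hGcard : Nat.card G = K * 64 := by
    have hf : ∀ t : {x : G // IsInv x}, Nat.card {h : G // h * t.1 * h⁻¹ = z₀} = 64 := by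
      intro t
      obtain ⟨g, hg⟩ := hclass t.1 t.2
      rw [← hScard]
      refine Nat.card_congr ((Equiv.mulRight g⁻¹).subtypeEquiv fun h => ?_)
      show h * t.1 * h⁻¹ = z₀ ↔ h * g⁻¹ ∈ E.S
      rw [← hcomm]
      have e : h * t.1 * h⁻¹ = (h * g⁻¹) * z₀ * (h * g⁻¹)⁻¹ := by rw [← hg]; group
      rw [e]
      exact mul_inv_eq_iff_eq_mul
    have e : (Σ t : {x : G // IsInv x}, {h : G // h * t.1 * h⁻¹ = z₀}) ≃ G :=
      { toFun := fun x => x.2.1
        invFun := fun h => ⟨⟨h⁻¹ * z₀ * h, by simpa using isInv_conj ⟨hz₀2, hz₀1⟩ h⁻¹⟩, ⟨h, by group⟩⟩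
        left_inv := fun x => by
          refine Sigma.subtype_ext (Subtype.ext ?_) rfl
          show x.2.1⁻¹ * z₀ * x.2.1 = x.1.1
          calc x.2.1⁻¹ * z₀ * x.2.1 = x.2.1⁻¹ * (x.2.1 * x.1.1 * x.2.1⁻¹) * x.2.1 := by rw [x.2.2]
            _ = x.1.1 := by group
        right_inv := fun h => rfl }
    rw [← Nat.card_congr e, Nat.card_sigma]
    simp only [hf]
    rw [Finset.sum_const, smul_eq_mul, Finset.card_univ, ← Nat.card_eq_fintype_card]
  -- the involutions of `S`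
  have h28 : Nat.card {y : G // y ∈ E.S ∧ IsInv y} = 27 := by
    have hset : {y : G | y ∈ E.S ∧ IsInv y} = ((E.D : Set G) ∪ A) \ {1} := by
      ext y
      constructor
      · rintro ⟨hy, hy2, hy1⟩
        exact ⟨(hinvS y hy hy2).imp id id, hy1⟩
      · rintro ⟨hy | hy, hy1⟩
        · exact ⟨E.D_le hy, E.D_sq y hy, hy1⟩
        · exact ⟨hA hy, hAsq y hy, hy1⟩
    have hinter : ((E.D : Set G) ∩ A) = (E.Z : Set G) := by
      rw [← Subgroup.coe_inf, inf_comm, hAD]
    have h := Set.ncard_union_add_ncard_inter (E.D : Set G) (A : Set G)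
    rw [hinter, ← Nat.card_coe_set_eq (E.Z : Set G), ← Nat.card_coe_set_eq (E.D : Set G),
      ← Nat.card_coe_set_eq (A : Set G)] at h
    simp only [SetLike.coe_sort_coe] at h
    rw [hAcard, hDcard, hZ] at h
    show Nat.card ({y : G | y ∈ E.S ∧ IsInv y} : Set G) = 27
    rw [Nat.card_coe_set_eq, hset, Set.ncard_sdiff_singleton_of_mem
      (show (1 : G) ∈ (E.D : Set G) ∪ A from Or.inl E.D.one_mem)]
    omega
  -- pairs in `S` with square of the product `z₀`
  let Q : G × G → Prop := fun p => IsInv p.1 ∧ IsInv p.2 ∧ (p.1 * p.2) ^ 2 = z₀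
  have hmemS : ∀ x y : G, Q (x, y) → x ∈ E.S := fun x y h => by
    refine (hcomm x).1 ?_
    have h1 : x * (x * y) ^ 2 * x⁻¹ = ((x * y) ^ 2)⁻¹ := by
      rw [← conj_pow, ← inv_pow, mul_inv_rev, inv_eq_of_mul_eq_one_right h.1.1,
        inv_eq_of_mul_eq_one_right h.2.1.1, ← mul_assoc, h.1.1, one_mul]
    rw [h.2.2, inv_eq_of_mul_eq_one_right hz₀2] at h1
    exact mul_inv_eq_iff_eq_mul.1 h1
  have hswap : ∀ x y : G, Q (x, y) → Q (y, x) := fun x y h => by
    refine ⟨h.2.1, h.1, ?_⟩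
    have e : (y * x) = (x * y)⁻¹ := by
      rw [mul_inv_rev, inv_eq_of_mul_eq_one_right h.1.1, inv_eq_of_mul_eq_one_right h.2.1.1]
    show (y * x) ^ 2 = z₀
    rw [e, inv_pow, h.2.2, inv_eq_of_mul_eq_one_right hz₀2]
  have hnc : ∀ x y : G, Q (x, y) → ¬ Commute x y := fun x y h hc => hz₀1 (by
    rw [← h.2.2, hc.mul_pow, pow_two, pow_two, h.1.1, h.2.1.1, one_mul])
  have hT : Nat.card {p : G × G // p.1 ∈ E.D ∧ p.2 ∈ A ∧ Q p} = 48 := by
    have hfib : ∀ x : {x : G // x ∈ E.D ∧ x ∉ E.Z}, Nat.card {y : G // y ∈ A ∧ (x.1 * y) ^ 2 = z₀} = 4 := by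
      rintro ⟨x, hx, hxZ⟩
      have hcZ : ∀ y ∈ A, (x * y) ^ 2 ∈ E.Z := by
        intro y hy
        by_cases hyD : y ∈ E.D
        · rw [(E.D_comm hx hyD).mul_pow, pow_two, pow_two, E.D_sq x hx, E.D_sq y hyD, one_mul]
          exact E.Z.one_mem
        have h1 := E.commutator_mem_Z (hA hy) hyD (hAsq y hy) hx
        rwa [show (x * y) ^ 2 = x * (y * x * y) by rw [pow_two]; group]
      let χ : A →* G := MonoidHom.mk' (fun y => (x * y) ^ 2) fun a b => by
        have hc : (x * (b : G)) ^ 2 * a = a * (x * (b : G)) ^ 2 := (E.Z_central (hcZ b b.2) (hA a.2)).eq.symm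
        have hba : (b : G) * a = a * b := (inv_mul_comm hAsq b.2 a.2).eq
        have hbxb : (b : G) * x * b = x * (x * (b : G)) ^ 2 := by
          simp only [pow_two, mul_assoc]
          rw [← mul_assoc x x, E.D_sq x hx, one_mul]
        show (x * ((a : G) * b)) ^ 2 = (x * (a : G)) ^ 2 * (x * (b : G)) ^ 2
        calc (x * ((a : G) * b)) ^ 2 = x * a * b * x * ((a : G) * b) := by rw [pow_two]; group
          _ = x * a * b * x * ((b : G) * a) := by rw [hba]
          _ = x * a * ((b : G) * x * b) * a := by group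
          _ = x * a * x * ((x * (b : G)) ^ 2 * a) := by rw [hbxb]; group
          _ = x * a * x * a * (x * (b : G)) ^ 2 := by rw [hc]; group
          _ = _ := by rw [pow_two (x * (a : G))]; group
      have hker : Nat.card χ.ker = 4 := by
        rw [← hZ]
        refine Nat.card_congr
          { toFun := fun y => ⟨((y : A) : G), ?_⟩
            invFun := fun z => ⟨⟨z.1, (hAD.ge z.2).1⟩, ?_⟩
            left_inv := fun y => rfl
            right_inv := fun z => rfl }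
        · refine hAD.le ⟨(y : A).2, ?_⟩
          by_contra hyD
          refine hxZ (E.mem_Z_of_commute (hA (y : A).2) hyD hx ?_)
          have h := y.2
          rw [MonoidHom.mem_ker] at h
          have h' : (x * ((y : A) : G)) ^ 2 = 1 := h
          by_contra hc
          exact Local.ne_of_not_commute (E.D_sq x hx) (hAsq _ (y : A).2) hc h'
        · show (x * z.1) ^ 2 = 1
          rw [(E.D_comm hx z.2.1).mul_pow, pow_two, pow_two, E.D_sq x hx, E.D_sq _ z.2.1, one_mul]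
      have hran : χ.range = E.Z := by
        refine Subgroup.eq_of_le_of_card_ge ?_ ?_
        · rintro _ ⟨y, rfl⟩
          exact hcZ y y.2
        · have h2 := Subgroup.card_mul_index χ.ker
          rw [Subgroup.index_ker, hker, hAcard, hDcard] at h2
          rw [hZ]; omega
      obtain ⟨y₁, hy₁⟩ := hran.ge hz₀
      rw [← hker]
      refine Nat.card_congr
        { toFun := fun y => ⟨y₁⁻¹ * ⟨y.1, y.2.1⟩, ?_⟩
          invFun := fun k => ⟨((y₁ * (k : A) : A) : G), (y₁ * (k : A)).2, ?_⟩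
          left_inv := fun y => Subtype.ext (by simp)
          right_inv := fun k => Subtype.ext (show y₁⁻¹ * (y₁ * (k : A)) = k from inv_mul_cancel_left _ _) }
      · rw [MonoidHom.mem_ker, map_mul, map_inv, hy₁, show χ ⟨y.1, y.2.1⟩ = z₀ from y.2.2, inv_mul_cancel]
      · show χ (y₁ * (k : A)) = z₀
        rw [map_mul, hy₁, k.2, mul_one]
    have h12 : Nat.card {x : G // x ∈ E.D ∧ x ∉ E.Z} = 12 := by
      show Nat.card ((E.D : Set G) \ E.Z : Set G) = 12
      rw [Nat.card_coe_set_eq, Set.ncard_sdiff (show (E.Z : Set G) ⊆ E.D from fun z hz => hz.1),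
        ← Nat.card_coe_set_eq, ← Nat.card_coe_set_eq]
      simp only [SetLike.coe_sort_coe, hDcard, hZ]
    have e : {p : G × G // p.1 ∈ E.D ∧ p.2 ∈ A ∧ Q p} ≃
        (Σ x : {x : G // x ∈ E.D ∧ x ∉ E.Z}, {y : G // y ∈ A ∧ (x.1 * y) ^ 2 = z₀}) :=
      { toFun := fun p => ⟨⟨p.1.1, p.2.1, fun h => hnc _ _ p.2.2.2 (E.Z_central h (hA p.2.2.1)).symm⟩,
          ⟨p.1.2, p.2.2.1, p.2.2.2.2.2⟩⟩
        invFun := fun q => ⟨(q.1.1, q.2.1), q.1.2.1, q.2.2.1,
          ⟨E.D_sq _ q.1.2.1, fun e => q.1.2.2 (by rw [show q.1.1 = 1 from e]; exact E.Z.one_mem)⟩,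
          ⟨hAsq _ q.2.2.1, fun e => hz₀1 (by
            have h := q.2.2.2
            rw [show q.2.1 = 1 from e, mul_one, pow_two, E.D_sq _ q.1.2.1] at h
            exact h.symm)⟩, q.2.2.2⟩
        left_inv := fun p => rfl
        right_inv := fun q => rfl }
    rw [Nat.card_congr e, Nat.card_sigma]
    simp only [hfib]
    rw [Finset.sum_const, smul_eq_mul, Finset.card_univ, ← Nat.card_eq_fintype_card, h12]
  have h96 : Nat.card {p : G × G // Q p} = 96 := by
    set T := {p : G × G | p.1 ∈ E.D ∧ p.2 ∈ A ∧ Q p} with hTdef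
    have hset : {p : G × G | Q p} = T ∪ Prod.swap '' T := by
      ext ⟨x, y⟩
      constructor
      · intro h
        have hx := hmemS x y h
        have hy := hmemS y x (hswap x y h)
        rcases hinvS x hx h.1.1 with hxD | hxA
        · rcases hinvS y hy h.2.1.1 with hyD | hyA
          · exact absurd (E.D_comm hxD hyD) (hnc x y h)
          · exact Or.inl ⟨hxD, hyA, h⟩
        · rcases hinvS y hy h.2.1.1 with hyD | hyA
          · exact Or.inr ⟨(y, x), ⟨hyD, hxA, hswap x y h⟩, rfl⟩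
          · exact absurd (inv_mul_comm hAsq hxA hyA) (hnc x y h)
      · rintro (h | ⟨⟨a, b⟩, h, e⟩)
        · exact h.2.2
        · cases e
          exact hswap _ _ h.2.2
    have hdisj : Disjoint T (Prod.swap '' T) := by
      rw [Set.disjoint_left]
      rintro ⟨x, y⟩ h ⟨⟨a, b⟩, h', e⟩
      cases e
      have hxZ : b ∈ E.Z := hAD.le ⟨h'.2.1, h.1⟩
      exact hnc _ _ h.2.2 (E.Z_central hxZ (hA h.2.1)).symm
    show Nat.card ({p : G × G | Q p} : Set (G × G)) = 96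
    rw [Nat.card_coe_set_eq, hset, Set.ncard_union_eq hdisj,
      Set.ncard_image_of_injective _ Prod.swap_injective, ← Nat.card_coe_set_eq,
      show Nat.card T = 48 from hT]
  -- the two even parts
  have hP2 : Nat.card {p : G × G // IsInv p.1 ∧ IsInv p.2 ∧ (p.1 * p.2) ^ 2 = 1} = K * 27 := by
    have hf : ∀ x : {x : G // IsInv x}, Nat.card {y : G // IsInv y ∧ (x.1 * y) ^ 2 = 1} = 27 := by
      intro x
      obtain ⟨g, hg⟩ := hclass x.1 x.2
      rw [← h28]
      refine card_congr_conj g fun y => ?_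
      rw [isInv_conj_iff, and_comm (a := g * y * g⁻¹ ∈ E.S)]
      refine and_congr_right fun hy => ?_
      rw [← hcomm, ← hg]
      constructor
      · intro h
        refine commute_conj ?_
        by_contra hc
        exact Local.ne_of_not_commute x.2.1 hy.1 (fun h' => hc h'.symm) h
      · intro h
        rw [(commute_of_conj h).symm.mul_pow, pow_two, pow_two, x.2.1, hy.1, one_mul]
    have e : {p : G × G // IsInv p.1 ∧ IsInv p.2 ∧ (p.1 * p.2) ^ 2 = 1} ≃
        (Σ x : {x : G // IsInv x}, {y : G // IsInv y ∧ (x.1 * y) ^ 2 = 1}) :=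
      { toFun := fun p => ⟨⟨p.1.1, p.2.1⟩, ⟨p.1.2, p.2.2⟩⟩
        invFun := fun q => ⟨(q.1.1, q.2.1), q.1.2, q.2.2⟩
        left_inv := fun p => rfl
        right_inv := fun q => rfl }
    rw [Nat.card_congr e, Nat.card_sigma]
    simp only [hf]
    rw [Finset.sum_const, smul_eq_mul, Finset.card_univ, ← Nat.card_eq_fintype_card]
  have hP4 : Nat.card {p : G × G // IsInv p.1 ∧ IsInv p.2 ∧ IsInv ((p.1 * p.2) ^ 2)} = K * 96 := by
    have hf : ∀ u : {x : G // IsInv x},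
        Nat.card {p : G × G // IsInv p.1 ∧ IsInv p.2 ∧ (p.1 * p.2) ^ 2 = u.1} = 96 := by
      intro u
      obtain ⟨g, hg⟩ := hclass u.1 u.2
      rw [← h96]
      refine Nat.card_congr (((MulAut.conj g).toEquiv.prodCongr (MulAut.conj g).toEquiv).subtypeEquiv fun p => ?_)
      show IsInv p.1 ∧ IsInv p.2 ∧ (p.1 * p.2) ^ 2 = u.1 ↔
        IsInv (g * p.1 * g⁻¹) ∧ IsInv (g * p.2 * g⁻¹) ∧ (g * p.1 * g⁻¹ * (g * p.2 * g⁻¹)) ^ 2 = z₀
      rw [isInv_conj_iff, isInv_conj_iff, sq_conj_eq, ← hg, mul_left_inj, mul_right_inj]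
    have e : {p : G × G // IsInv p.1 ∧ IsInv p.2 ∧ IsInv ((p.1 * p.2) ^ 2)} ≃
        (Σ u : {x : G // IsInv x}, {p : G × G // IsInv p.1 ∧ IsInv p.2 ∧ (p.1 * p.2) ^ 2 = u.1}) :=
      { toFun := fun p => ⟨⟨(p.1.1 * p.1.2) ^ 2, p.2.2.2⟩, ⟨p.1, p.2.1, p.2.2.1, rfl⟩⟩
        invFun := fun q => ⟨q.2.1, q.2.2.1, q.2.2.2.1, by rw [q.2.2.2.2]; exact q.1.2⟩
        left_inv := fun p => rfl
        right_inv := fun q => Sigma.subtype_ext (Subtype.ext q.2.2.2.2) rfl }
    rw [Nat.card_congr e, Nat.card_sigma]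
    simp only [hf]
    rw [Finset.sum_const, smul_eq_mul, Finset.card_univ, ← Nat.card_eq_fintype_card]
  -- the whole count
  let P := {p : G × G // IsInv p.1 ∧ IsInv p.2}
  have hP : Nat.card P = K * K := by
    rw [hK, ← Nat.card_prod]
    exact Nat.card_congr (Equiv.subtypeProdEquivProd (p := IsInv) (q := IsInv))
  have hcases : ∀ p : P, ((p.1.1 * p.1.2) ^ 2 = 1 ∨ IsInv ((p.1.1 * p.1.2) ^ 2)) ∨
      ((p.1.1 * p.1.2) ^ 3 = 1 ∧ p.1.1 * p.1.2 ≠ 1) ∨ ((p.1.1 * p.1.2) ^ 5 = 1 ∧ p.1.1 * p.1.2 ≠ 1) := by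
    intro p
    set k := p.1.1 * p.1.2
    by_cases h2 : k ^ 2 = 1
    · exact Or.inl (Or.inl h2)
    have hk1 : k ≠ 1 := fun e => h2 (by rw [e, one_pow])
    rcases E.ord k with h | h | h
    · exact Or.inl (Or.inr ⟨by rw [← pow_add]; exact h, h2⟩)
    · exact Or.inr (Or.inl ⟨h, hk1⟩)
    · exact Or.inr (Or.inr ⟨h, hk1⟩)
  have hodd : ∀ q : ℕ, Nat.card {p : P // (p.1.1 * p.1.2) ^ q = 1 ∧ p.1.1 * p.1.2 ≠ 1} = oddPairs G q := by
    intro q
    refine Nat.card_congr
      { toFun := fun p => ⟨⟨p.1.1.1 * p.1.1.2, p.2⟩, ⟨p.1.1.1, p.1.2.1, by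
          rw [← mul_assoc, p.1.2.1.1, one_mul]; exact p.1.2.2⟩⟩
        invFun := fun g => ⟨⟨(g.2.1, g.2.1 * g.1.1), g.2.2.1, g.2.2.2⟩, by
          show (g.2.1 * (g.2.1 * g.1.1)) ^ q = 1 ∧ g.2.1 * (g.2.1 * g.1.1) ≠ 1
          rw [← mul_assoc, g.2.2.1.1, one_mul]; exact g.1.2⟩
        left_inv := fun p => by
          refine Subtype.ext (Subtype.ext (Prod.ext rfl ?_))
          show p.1.1.1 * (p.1.1.1 * p.1.1.2) = p.1.1.2
          rw [← mul_assoc, p.1.2.1.1, one_mul]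
        right_inv := fun g => by
          refine Sigma.subtype_ext (Subtype.ext ?_) rfl
          show g.2.1 * (g.2.1 * g.1.1) = g.1.1
          rw [← mul_assoc, g.2.2.1.1, one_mul] }
  have hexcl : ∀ p : P, ∀ q : ℕ, q = 3 ∨ q = 5 →
      (p.1.1 * p.1.2) ^ q = 1 → p.1.1 * p.1.2 ≠ 1 → (p.1.1 * p.1.2) ^ 4 ≠ 1 := by
    intro p q hq h h1 h4
    refine h1 (orderOf_eq_one_iff.1 (Nat.eq_one_of_dvd_coprimes ?_ (orderOf_dvd_of_pow_eq_one h)
      (orderOf_dvd_of_pow_eq_one h4)))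
    rcases hq with rfl | rfl <;> norm_num
  have hsplit : K * K = K * 27 + K * 96 + oddPairs G 3 + oddPairs G 5 := by
    have hind : ∀ p : P, 1 =
        (if (p.1.1 * p.1.2) ^ 2 = 1 then 1 else 0) + (if IsInv ((p.1.1 * p.1.2) ^ 2) then 1 else 0) +
        (if (p.1.1 * p.1.2) ^ 3 = 1 ∧ p.1.1 * p.1.2 ≠ 1 then 1 else 0) +
        (if (p.1.1 * p.1.2) ^ 5 = 1 ∧ p.1.1 * p.1.2 ≠ 1 then 1 else 0) := by
      intro p
      set k := p.1.1 * p.1.2 with hk
      have h24 : k ^ 2 = 1 → k ^ 4 = 1 := fun h => by rw [show 4 = 2 * 2 from rfl, pow_mul, h, one_pow]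
      have hI4 : IsInv (k ^ 2) → k ^ 4 = 1 := fun h => by rw [← h.1, ← pow_add]
      have h35 : ¬ ((k ^ 3 = 1 ∧ k ≠ 1) ∧ (k ^ 5 = 1 ∧ k ≠ 1)) := fun h => h.1.2
        (orderOf_eq_one_iff.1 (Nat.eq_one_of_dvd_coprimes (by norm_num : Nat.Coprime 3 5)
          (orderOf_dvd_of_pow_eq_one h.1.1) (orderOf_dvd_of_pow_eq_one h.2.1)))
      have h3 := hexcl p 3 (Or.inl rfl)
      have h5 := hexcl p 5 (Or.inr rfl)
      rw [← hk] at h3 h5
      rcases hcases p with (h | h) | h | h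
      · rw [if_pos h, if_neg (fun h' => h'.2 h), if_neg (fun h' => h3 h'.1 h'.2 (h24 h)),
          if_neg (fun h' => h5 h'.1 h'.2 (h24 h))]
      · rw [if_neg h.2, if_pos h, if_neg (fun h' => h3 h'.1 h'.2 (hI4 h)),
          if_neg (fun h' => h5 h'.1 h'.2 (hI4 h))]
      · rw [if_neg (fun h' => h3 h.1 h.2 (h24 h')), if_neg (fun h' => h3 h.1 h.2 (hI4 h')), if_pos h,
          if_neg (fun h' => h35 ⟨h, h'⟩)]
      · rw [if_neg (fun h' => h5 h.1 h.2 (h24 h')), if_neg (fun h' => h5 h.1 h.2 (hI4 h')),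
          if_neg (fun h' => h35 ⟨h', h⟩), if_pos h]
    have h1 : Nat.card P = ∑ p : P, 1 := by simp
    rw [← hP, h1, Finset.sum_congr rfl (fun p _ => hind p), Finset.sum_add_distrib, Finset.sum_add_distrib,
      Finset.sum_add_distrib, Finset.sum_boole, Finset.sum_boole, Finset.sum_boole, Finset.sum_boole,
      ← Fintype.card_subtype, ← Fintype.card_subtype, ← Fintype.card_subtype, ← Fintype.card_subtype,
      ← Nat.card_eq_fintype_card, ← Nat.card_eq_fintype_card, ← Nat.card_eq_fintype_card,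
      ← Nat.card_eq_fintype_card, hodd, hodd]
    simp only [Nat.cast_id]
    rw [← hP2, ← hP4, Nat.card_congr (Equiv.subtypeSubtypeEquivSubtypeInter
        (fun p : G × G => IsInv p.1 ∧ IsInv p.2) (fun p => (p.1 * p.2) ^ 2 = 1)),
      Nat.card_congr (Equiv.subtypeSubtypeEquivSubtypeInter
        (fun p : G × G => IsInv p.1 ∧ IsInv p.2) (fun p => IsInv ((p.1 * p.2) ^ 2)))]
    simp only [and_assoc]
  -- arithmetic
  haveI : Fact (Nat.Prime 3) := ⟨by norm_num⟩
  haveI : Fact (Nat.Prime 5) := ⟨by norm_num⟩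
  haveI : Fact (Nat.Prime 2) := ⟨Nat.prime_two⟩
  obtain ⟨P3⟩ := (inferInstance : Nonempty (Sylow 3 G))
  obtain ⟨P5⟩ := (inferInstance : Nonempty (Sylow 5 G))
  obtain ⟨e3, he3, h3⟩ := oddPairs_eq E.ord (Or.inl rfl) P3
  obtain ⟨e5, he5, h5⟩ := oddPairs_eq E.ord (Or.inr rfl) P5
  rw [Sylow.card_eq_multiplicity P3, hGcard] at h3
  rw [Sylow.card_eq_multiplicity P5, hGcard] at h5
  have hKodd : ¬ 2 ∣ K := by
    intro h2
    refine E.sylowS.not_dvd_index ?_
    have h := Subgroup.card_mul_index E.S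
    rw [hScard, hGcard] at h
    show 2 ∣ E.S.index
    omega
  have hGne : Nat.card G ≠ 0 := Nat.card_pos.ne'
  have hKne : K ≠ 0 := fun e => hGne (by rw [hGcard, e, Nat.zero_mul])
  have hprimes : ∀ r, r.Prime → r ∣ K → r = 3 ∨ r = 5 := fun r hr hd => by
    rcases E.ord.prime_cases hr (hGcard ▸ hd.mul_right 64) with rfl | h
    · exact absurd hd hKodd
    · exact h
  obtain ⟨a, b, hab⟩ := exists_two_prime_pows hKne (by norm_num) (by norm_num) (by norm_num) hprimes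
  have hfac : ∀ r, r = 3 ∨ r = 5 → (K * 64).factorization r = if r = 3 then a else b := by
    intro r hr
    have h64 : (64 : ℕ).factorization r = 0 := Nat.factorization_eq_zero_of_not_dvd (by
      rcases hr with rfl | rfl <;> norm_num)
    rw [Nat.factorization_mul hKne (by norm_num), Finsupp.add_apply, h64, add_zero, hab,
      Nat.factorization_mul (pow_ne_zero _ (by norm_num)) (pow_ne_zero _ (by norm_num)),
      Nat.Prime.factorization_pow (by norm_num), Nat.Prime.factorization_pow (by norm_num)]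
    rcases hr with rfl | rfl <;> simp [Finsupp.single_apply]
  rw [hfac 3 (Or.inl rfl), if_pos rfl] at h3
  rw [hfac 5 (Or.inr rfl), if_neg (by norm_num)] at h5
  obtain ⟨-, hd3, hd5⟩ := E.ord.dvd_of_not_solvable hns
  have hpos : ∀ r e : ℕ, r = 3 ∨ r = 5 → r ∣ Nat.card G →
      (K * 64).factorization r = e → 1 ≤ e := fun r e hr hd he => by
    rw [← he]
    exact (by rcases hr with rfl | rfl <;> norm_num : r.Prime).factorization_pos_of_dvd
      (hGcard ▸ hGne) (hGcard ▸ hd)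
  have ha := hpos 3 a (Or.inl rfl) hd3 (by rw [hfac 3 (Or.inl rfl), if_pos rfl])
  have hb := hpos 5 b (Or.inr rfl) hd5 (by rw [hfac 5 (Or.inr rfl), if_neg (by norm_num)])
  have hkey : K = 123 + 8 * e3 * (3 ^ a - 1) + 8 * e5 * (5 ^ b - 1) := by
    refine Nat.eq_of_mul_eq_mul_left (show 0 < 8 * K by omega) ?_
    calc 8 * K * K = 8 * (K * 27 + K * 96) + (8 * oddPairs G 3 + 8 * oddPairs G 5) := by
          rw [mul_assoc, hsplit]; ring
      _ = 8 * K * (123 + 8 * e3 * (3 ^ a - 1) + 8 * e5 * (5 ^ b - 1)) := by rw [h3, h5]; ring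
  rw [hab] at hkey
  refine no_solution ha hb ?_ ?_ hkey
  · rcases he3 with rfl | rfl | rfl | rfl <;> simp
  · rcases he5 with rfl | rfl | rfl | rfl <;> simp

end Count

end Cfsg.Agent.Orders5
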