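import Cfsg.Agent.Lib.Orders5.Basic

/-
A simple group with element orders at most five containing a 2-local configuration `(D, S)`: `D` is
elementary abelian of order `|Z|^2` with `Z = C_D(S)`, and every element of `S \ D` centralises only `Z`
in `D`.

* `Local.sylow` : `S` is a Sylow 2-subgroup
* `Local.centralizer_eq` : `C(z) = S` for `z` in `Z`
* `Local.fused` : some involution of `S \ D` is fused into `D`
* `Local.square` : then `|S : D| = |Z|`, and every element of `S` squaring to one is fused into `D`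
-/

set_option autoImplicit false

namespace Cfsg.Agent.Orders5

variable {G : Type*} [Group G] [Finite G]

omit [Finite G] in
theorem mem_normalizer_map {D : Subgroup G} {g x : G} :
    x ∈ D.map (MulAut.conj g).toMonoidHom ↔ g⁻¹ * x * g ∈ D := by
  constructor
  · rintro ⟨d, hd, rfl⟩
    simpa [mul_assoc] using hd
  · intro h
    exact ⟨_, h, by simp [mul_assoc]⟩

omit [Finite G] in
theorem card_map_conj (D : Subgroup G) (g : G) :
    Nat.card (D.map (MulAut.conj g).toMonoidHom) = Nat.card D :=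
  Nat.card_congr (D.equivMapOfInjective _ (MulAut.conj g).injective).toEquiv.symm

omit [Finite G] in
theorem commute_conj {g a b : G} (h : Commute a b) : Commute (g * a * g⁻¹) (g * b * g⁻¹) :=
  h.map (MulAut.conj g)

omit [Finite G] in
theorem commute_of_conj {g a b : G} (h : Commute (g * a * g⁻¹) (g * b * g⁻¹)) : Commute a b := by
  have h1 := commute_conj (g := g⁻¹) h
  simpa [mul_assoc] using h1

omit [Finite G] in
theorem pow_four_of_sq {a : G} (h : a * a = 1) : a ^ 4 = 1 := by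
  rw [show 4 = 2 * 2 from rfl, pow_mul, pow_two a, h, one_pow]

omit [Finite G] in
theorem sq_conj {g a : G} (h : a * a = 1) : g * a * g⁻¹ * (g * a * g⁻¹) = 1 := by
  rw [conj_mul, h, mul_one, mul_inv_cancel]

/-- Normalisers grow in a finite p-group. -/
theorem exists_normalizing {p : ℕ} [Fact p.Prime] {S T : Subgroup G} (hST : S ≤ T) (hT : IsPGroup p T)
    (hne : S ≠ T) : ∃ w ∈ T, w ∉ S ∧ w ∈ Subgroup.normalizer (S : Set G) := by
  have : Group.IsNilpotent T := hT.isNilpotent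
  by_contra hcon
  push Not at hcon
  refine hne (le_antisymm hST (Subgroup.subgroupOf_eq_top.1 ?_))
  refine normalizerCondition_iff_only_full_group_self_normalizing.1
    (Group.normalizerCondition_of_isNilpotent : NormalizerCondition T) _ (le_antisymm ?_ Subgroup.le_normalizer)
  intro u hu
  by_contra huS
  refine hcon u u.2 (fun h => huS (Subgroup.mem_subgroupOf.2 h)) (Subgroup.mem_normalizer_iff.2 fun a => ?_)
  constructor
  · intro ha
    exact Subgroup.mem_subgroupOf.1 ((Subgroup.mem_normalizer_iff.1 hu ⟨a, hST ha⟩).1 (Subgroup.mem_subgroupOf.2 ha))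
  · intro ha
    have h1 := (Subgroup.mem_normalizer_iff.1 (inv_mem hu) ⟨_, hST ha⟩).1 (Subgroup.mem_subgroupOf.2 ha)
    rw [Subgroup.mem_subgroupOf] at h1
    simpa [mul_assoc] using h1

variable (G) in
/-- The configuration. -/
structure Local where
  ord : Ord5 G
  simple : IsSimpleGroup G
  D : Subgroup G
  S : Subgroup G
  D_le : D ≤ S
  S_le : S ≤ Subgroup.normalizer (D : Set G)
  L_ne_top : Subgroup.normalizer (D : Set G) ≠ ⊤
  S_two : IsPGroup 2 S
  D_sq : ∀ d ∈ D, d * d = 1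
  S_max : ∀ T : Subgroup G, S ≤ T → T ≤ Subgroup.normalizer (D : Set G) → IsPGroup 2 T → T = S
  centr : ∀ x ∈ S, x ∉ D → ∀ d ∈ D, Commute d x → d ∈ Subgroup.centralizer (S : Set G)
  D_card : Nat.card D = Nat.card (D ⊓ Subgroup.centralizer (S : Set G) : Subgroup G) ^ 2
  two_le : 2 ≤ Nat.card (D ⊓ Subgroup.centralizer (S : Set G) : Subgroup G)
  s_le : D.relIndex S ≤ Nat.card (D ⊓ Subgroup.centralizer (S : Set G) : Subgroup G)
  ne_DS : D ≠ S

namespace Local

variable (E : Local G)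

/-- `C_D(S)`. -/
abbrev Z : Subgroup G := E.D ⊓ Subgroup.centralizer (E.S : Set G)

/-- The normaliser of `D`. -/
abbrev L : Subgroup G := Subgroup.normalizer (E.D : Set G)

theorem Z_central {z x : G} (hz : z ∈ E.Z) (hx : x ∈ E.S) : Commute x z :=
  Subgroup.mem_centralizer_iff.1 hz.2 x hx

theorem D_inv {d : G} (hd : d ∈ E.D) : d⁻¹ = d := inv_eq_of_mul_eq_one_right (E.D_sq d hd)

theorem D_comm {d e : G} (hd : d ∈ E.D) (he : e ∈ E.D) : Commute d e := by
  show d * e = e * d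
  calc d * e = (d * e)⁻¹ := (E.D_inv (E.D.mul_mem hd he)).symm
    _ = e * d := by rw [mul_inv_rev, E.D_inv hd, E.D_inv he]

theorem mem_Z_of_commute {x d : G} (hx : x ∈ E.S) (hxD : x ∉ E.D) (hd : d ∈ E.D) (hc : Commute d x) :
    d ∈ E.Z := ⟨hd, E.centr x hx hxD d hd hc⟩

theorem conj_D {x d : G} (hx : x ∈ E.L) (hd : d ∈ E.D) : x * d * x⁻¹ ∈ E.D :=
  (Subgroup.mem_normalizer_iff.1 hx d).1 hd

theorem Z_lt_D : Nat.card E.Z < Nat.card E.D := by
  rw [E.D_card]
  have := E.two_le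
  nlinarith

theorem not_mem_of_lt {A B : Subgroup G} (h : Nat.card A < Nat.card B) : ∃ b ∈ B, b ∉ A := by
  by_contra hcon
  push Not at hcon
  exact absurd (Subgroup.card_le_of_le hcon) (not_le.2 h)

/-- An elementary subgroup of `S` of the order of `D` other than `D`. -/
theorem elem_cases {A : Subgroup G} (hA : A ≤ E.S) (hsq : ∀ a ∈ A, a * a = 1)
    (hcard : Nat.card A = Nat.card E.D) (hne : A ≠ E.D) :
    E.D.relIndex E.S = Nat.card E.Z ∧ A ⊓ E.D = E.Z ∧ E.D.relIndex A = Nat.card E.Z := by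
  obtain ⟨a, ha, haD⟩ : ∃ a ∈ A, a ∉ E.D := by
    by_contra hcon
    push Not at hcon
    exact hne (Subgroup.eq_of_le_of_card_ge hcon hcard.ge)
  have hcomm : ∀ x ∈ A, ∀ y ∈ A, Commute x y := fun x hx y hy => by
    show x * y = y * x
    have hi : ∀ u ∈ A, u⁻¹ = u := fun u hu => inv_eq_of_mul_eq_one_right (hsq u hu)
    calc x * y = (x * y)⁻¹ := (hi _ (A.mul_mem hx hy)).symm
      _ = y * x := by rw [mul_inv_rev, hi x hx, hi y hy]
  have hle : A ⊓ E.D ≤ E.Z := fun d hd =>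
    E.mem_Z_of_commute (hA ha) haD hd.2 (hcomm d hd.1 a ha)
  have h1 : Nat.card (A ⊓ E.D : Subgroup G) * E.D.relIndex A = Nat.card A := by
    have := Subgroup.card_mul_index (E.D.subgroupOf A)
    rw [← Subgroup.inf_subgroupOf_right E.D A,
      Nat.card_congr (Subgroup.subgroupOfEquivOfLe (inf_le_right : E.D ⊓ A ≤ A)).toEquiv,
      inf_comm, Subgroup.inf_subgroupOf_left] at this
    exact this
  have h2 := Subgroup.card_le_of_le hle
  have h3 : E.D.relIndex A ≤ E.D.relIndex E.S :=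
    Subgroup.relIndex_le_of_le_right hA (Subgroup.index_ne_zero_of_finite)
  rw [hcard, E.D_card, pow_two] at h1
  have h4 := E.s_le
  have hz : 0 < Nat.card E.Z := Nat.card_pos
  have e1 : Nat.card (A ⊓ E.D : Subgroup G) = Nat.card E.Z := le_antisymm h2 (by
    by_contra hlt
    push Not at hlt
    nlinarith)
  rw [e1] at h1
  have e2 : E.D.relIndex A = Nat.card E.Z := Nat.eq_of_mul_eq_mul_left hz h1
  exact ⟨le_antisymm h4 (e2 ▸ h3), Subgroup.eq_of_le_of_card_ge hle e1.ge, e2⟩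

/-- `S = D A`. -/
theorem exists_mul {A : Subgroup G} (hA : A ≤ E.S) (hsq : ∀ a ∈ A, a * a = 1)
    (hcard : Nat.card A = Nat.card E.D) (hne : A ≠ E.D) {y : G} (hy : y ∈ E.S) :
    ∃ d ∈ E.D, ∃ a ∈ A, y = d * a := by
  obtain ⟨h1, -, h3⟩ := E.elem_cases hA hsq hcard hne
  let f := Subgroup.quotientSubgroupOfEmbeddingOfLE E.D hA
  have hbij : Function.Bijective f := (Nat.bijective_iff_injective_and_card f).2
    ⟨f.injective, h3.trans h1.symm⟩
  obtain ⟨q, hq⟩ := hbij.2 (QuotientGroup.mk ⟨y⁻¹, E.S.inv_mem hy⟩)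
  obtain ⟨⟨a, ha⟩, rfl⟩ := QuotientGroup.mk_surjective q
  have he := hq
  rw [Subgroup.quotientSubgroupOfEmbeddingOfLE_apply_mk, QuotientGroup.eq,
    Subgroup.mem_subgroupOf] at he
  have he' : a⁻¹ * y⁻¹ ∈ E.D := he
  refine ⟨(a⁻¹ * y⁻¹)⁻¹ * 1, by rw [mul_one]; exact E.D.inv_mem he', a⁻¹, A.inv_mem ha, by group⟩

theorem commutator_mem_Z {a d : G} (ha : a ∈ E.S) (haD : a ∉ E.D) (ha2 : a * a = 1) (hd : d ∈ E.D) :
    d * (a * d * a) ∈ E.Z := by
  have hai : a⁻¹ = a := inv_eq_of_mul_eq_one_right ha2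
  have h1 : a * d * a ∈ E.D := by
    have := E.conj_D (E.S_le ha) hd
    rwa [hai] at this
  refine E.mem_Z_of_commute ha haD (E.D.mul_mem hd h1) ?_
  calc d * (a * d * a) * a = d * a * d * (a * a) := by group
    _ = a * a * d * a * d := by rw [ha2, mul_one, one_mul]
    _ = a * (a * d * a * d) := by group
    _ = a * (d * (a * d * a)) := by rw [(E.D_comm hd h1).eq]

theorem ne_of_not_commute {a b : G} (ha : a * a = 1) (hb : b * b = 1) (h : ¬ Commute a b) :
    (a * b) ^ 2 ≠ 1 := fun e => h (by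
  rw [pow_two] at e
  calc a * b = (a * b)⁻¹ := (inv_eq_of_mul_eq_one_right e).symm
    _ = b * a := by rw [mul_inv_rev, inv_eq_of_mul_eq_one_right ha, inv_eq_of_mul_eq_one_right hb])

theorem exists_L_conj {T : Subgroup G} (hT : IsPGroup 2 T) (hTL : T ≤ E.L) :
    ∃ l ∈ E.L, ∀ x ∈ T, l * x * l⁻¹ ∈ E.S := by
  haveI : Fact (Nat.Prime 2) := ⟨Nat.prime_two⟩
  let Q : Sylow 2 E.L := ⟨E.S.subgroupOf E.L, E.S_two.comap_subtype, fun {R} hR hle => by
    have h := E.S_max (R.map E.L.subtype) (fun x hx => ⟨⟨x, E.S_le hx⟩, hle (Subgroup.mem_subgroupOf.2 hx), rfl⟩)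
      (Subgroup.map_subtype_le R) (hR.map _)
    exact le_antisymm (fun r hr => Subgroup.mem_subgroupOf.2 (h.le ⟨r, hr, rfl⟩)) hle⟩
  obtain ⟨P, hP⟩ := (hT.comap_subtype (K := E.L)).exists_le_sylow
  obtain ⟨l, hl⟩ := MulAction.exists_smul_eq E.L P Q
  refine ⟨l, l.2, fun x hx => ?_⟩
  have : l * (⟨x, hTL hx⟩ : E.L) * l⁻¹ ∈ (l • P : Sylow 2 E.L) :=
    ⟨⟨x, hTL hx⟩, hP (Subgroup.mem_subgroupOf.2 hx), rfl⟩
  rw [hl] at this
  exact Subgroup.mem_subgroupOf.1 this

/-- `S` is a Sylow 2-subgroup of `G`. -/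
theorem sylow {T : Subgroup G} (hST : E.S ≤ T) (hT : IsPGroup 2 T) : T = E.S := by
  haveI : Fact (Nat.Prime 2) := ⟨Nat.prime_two⟩
  by_contra hne
  obtain ⟨w, hwT, hwS, hwN, hw2⟩ : ∃ w ∈ T, w ∉ E.S ∧ w ∈ Subgroup.normalizer (E.S : Set G) ∧
      w * w ∈ E.S := by
    obtain ⟨w, hwT, hwS, hwN⟩ := exists_normalizing hST hT (Ne.symm hne)
    by_cases h2 : w * w ∈ E.S
    · exact ⟨w, hwT, hwS, hwN, h2⟩
    · refine ⟨w * w, T.mul_mem hwT hwT, h2, mul_mem hwN hwN, ?_⟩
      have h4 := E.ord.pow_four_of_isPGroup hT hwT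
      rw [show w * w * (w * w) = w ^ 4 by rw [← pow_two, ← pow_two, ← pow_mul], h4]
      exact E.S.one_mem
  -- `w` does not normalise `D`
  have hwD : w ∉ E.L := by
    intro hwL
    have h1 : E.S ⊔ Subgroup.zpowers w ≤ T := sup_le hST (Subgroup.zpowers_le.2 hwT)
    have h2 := E.S_max _ le_sup_left (sup_le E.S_le (Subgroup.zpowers_le.2 hwL)) (hT.to_le h1)
    exact hwS (h2 ▸ Subgroup.mem_sup_right (Subgroup.mem_zpowers w))
  set A := E.D.map (MulAut.conj w).toMonoidHom with hA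
  have hconjS : ∀ x ∈ E.S, w * x * w⁻¹ ∈ E.S := fun x hx => (Subgroup.mem_normalizer_iff.1 hwN x).1 hx
  have hAS : A ≤ E.S := by
    rintro _ ⟨d, hd, rfl⟩
    exact hconjS d (E.D_le hd)
  have hAsq : ∀ a ∈ A, a * a = 1 := by
    rintro _ ⟨d, hd, rfl⟩
    rw [← map_mul, E.D_sq d hd, map_one]
  have hAc : Nat.card A = Nat.card E.D := card_map_conj _ _
  have hAne : A ≠ E.D := fun e => hwD (Subgroup.mem_normalizer_iff_map_conj_eq.2 e)
  obtain ⟨-, hAD, -⟩ := E.elem_cases hAS hAsq hAc hAne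
  have hmapA : ∀ a ∈ A, w * a * w⁻¹ ∈ E.D := by
    rintro _ ⟨d, hd, rfl⟩
    have := E.conj_D (E.S_le hw2) hd
    simpa [mul_assoc] using this
  have hmapD : ∀ d ∈ E.D, w * d * w⁻¹ ∈ A := fun d hd => ⟨d, hd, rfl⟩
  have hwZ : ∀ z ∈ E.Z, w * z * w⁻¹ ∈ E.Z := fun z hz => by
    rw [← hAD] at hz ⊢
    exact ⟨hmapD z hz.2, hmapA z hz.1⟩
  have hnc : ∀ d ∈ E.D, d ∉ E.Z → ∀ a ∈ A, a ∉ E.Z → ¬ Commute d a := fun d hd hdZ a ha haZ hc =>
    hdZ (E.mem_Z_of_commute (hAS ha) (fun haD => haZ (hAD ▸ ⟨ha, haD⟩)) hd hc)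
  have hw2Z : w * w ∈ E.Z := by
    obtain ⟨d, hd, a, ha, e⟩ := E.exists_mul hAS hAsq hAc hAne hw2
    have hconj : w * (w * w) * w⁻¹ = w * w := by group
    have hA2 : w * w ∈ A → w * w ∈ E.Z := fun h => hAD.le ⟨h, hconj ▸ hmapA _ h⟩
    have hD2 : w * w ∈ E.D → w * w ∈ E.Z := fun h => hAD.le ⟨hconj ▸ hmapD _ h, h⟩
    by_cases hdZ : d ∈ E.Z
    · exact hA2 (e ▸ A.mul_mem (hAD.ge hdZ).1 ha)
    by_cases haZ : a ∈ E.Z
    · exact hD2 (e ▸ E.D.mul_mem hd haZ.1)
    refine absurd ?_ (ne_of_not_commute (E.D_sq d hd) (hAsq a ha) (hnc d hd hdZ a ha haZ))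
    rw [← e, show (w * w) ^ 2 = w ^ 4 by rw [← pow_two, ← pow_mul], E.ord.pow_four_of_isPGroup hT hwT]
  obtain ⟨x, hx, hxZ⟩ := not_mem_of_lt E.Z_lt_D
  set a := w * x * w⁻¹ with ha
  have haA : a ∈ A := hmapD x hx
  have haZ : a ∉ E.Z := fun h => hxZ (by
    have h1 := hwZ _ h
    have h2 : (w * w) * x * (w * w)⁻¹ = w * a * w⁻¹ := by rw [ha]; group
    rw [← h2, ← (E.Z_central hw2Z (E.D_le hx)).eq, mul_inv_cancel_right] at h1
    exact h1)
  have hxT : x ∈ T := hST (E.D_le hx)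
  refine ne_of_not_commute (E.D_sq x hx) (hAsq a haA) (hnc x hx hxZ a haA haZ) ?_
  have hz2 : w * w * (w * w) = 1 := E.D_sq _ hw2Z.1
  have hc : Commute (x * a) (w * w) :=
    (E.Z_central hw2Z (E.D_le hx)).mul_left (E.Z_central hw2Z (hAS haA))
  have e : (x * w) * (x * w) = x * a * (w * w) := by rw [ha]; group
  calc (x * a) ^ 2 = (x * a) * (x * a) * (w * w * (w * w)) := by rw [hz2, mul_one, pow_two]
    _ = (x * a * (w * w)) * (x * a * (w * w)) := (hc.symm.mul_mul_mul_comm _ _).symm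
    _ = (x * w) ^ 4 := by rw [← e, ← pow_two, ← pow_two, ← pow_mul]
    _ = 1 := E.ord.pow_four_of_isPGroup hT (T.mul_mem hxT hwT)

/-- `S` as a Sylow subgroup. -/
noncomputable def sylowS : Sylow 2 G := ⟨E.S, E.S_two, fun hQ hle => E.sylow hle hQ⟩

theorem exists_conj_le {T : Subgroup G} (hT : IsPGroup 2 T) :
    ∃ g : G, ∀ x ∈ T, g * x * g⁻¹ ∈ E.S := by
  haveI : Fact (Nat.Prime 2) := ⟨Nat.prime_two⟩
  obtain ⟨Q, hQ⟩ := hT.exists_le_sylow
  obtain ⟨g, hg⟩ := MulAction.exists_smul_eq G Q E.sylowS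
  refine ⟨g, fun x hx => ?_⟩
  have : g * x * g⁻¹ ∈ (g • Q : Sylow 2 G) := ⟨x, hQ hx, rfl⟩
  rwa [hg] at this

theorem S_le_normalizer {A : Subgroup G} (hA : A ≤ E.S) (hsq : ∀ a ∈ A, a * a = 1)
    (hcard : Nat.card A = Nat.card E.D) : E.S ≤ Subgroup.normalizer (A : Set G) := by
  by_cases hne : A = E.D
  · rw [hne]; exact E.S_le
  obtain ⟨-, hAD, -⟩ := E.elem_cases hA hsq hcard hne
  have key : ∀ d ∈ E.D, ∀ a ∈ A, d * a * d⁻¹ ∈ A := by
    intro d hd a ha
    by_cases haD : a ∈ E.D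
    · rwa [(E.D_comm hd haD).eq, mul_inv_cancel_right]
    have h1 := E.commutator_mem_Z (hA ha) haD (hsq a ha) hd
    have e : d * a * d⁻¹ = (d * (a * d * a)) * a := by
      rw [E.D_inv hd]
      calc d * a * d = d * a * d * (a * a) := by rw [hsq a ha, mul_one]
        _ = _ := by group
    rw [e]
    exact A.mul_mem (hAD.ge h1).1 ha
  intro y hy
  obtain ⟨d, hd, a, ha, rfl⟩ := E.exists_mul hA hsq hcard hne hy
  refine mul_mem ?_ (Subgroup.le_normalizer ha)
  refine Subgroup.mem_normalizer_iff.2 fun u => ⟨fun hu => key d hd u hu, fun hu => ?_⟩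
  have h1 := key d⁻¹ (E.D.inv_mem hd) _ hu
  simpa [mul_assoc] using h1

/-- Every 2-subgroup containing `D` normalises it. -/
theorem weakly_closed {T : Subgroup G} (hDT : E.D ≤ T) (hT : IsPGroup 2 T) : T ≤ E.L := by
  obtain ⟨g, hg⟩ := E.exists_conj_le hT
  set A := E.D.map (MulAut.conj g).toMonoidHom with hA
  have hAS : A ≤ E.S := by
    rintro _ ⟨d, hd, rfl⟩
    exact hg d (hDT hd)
  have hAsq : ∀ a ∈ A, a * a = 1 := by
    rintro _ ⟨d, hd, rfl⟩
    rw [← map_mul, E.D_sq d hd, map_one]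
  have hN := E.S_le_normalizer hAS hAsq (card_map_conj _ _)
  intro x hx
  have h1 := hN (hg x hx)
  refine Subgroup.mem_normalizer_iff.2 fun d => ?_
  have h2 := Subgroup.mem_normalizer_iff.1 h1 (g * d * g⁻¹)
  rw [mem_normalizer_map, mem_normalizer_map] at h2
  simpa [mul_assoc] using h2

theorem centralizer_eq {z : G} (hz : z ∈ E.Z) (hz1 : z ≠ 1) :
    Subgroup.centralizer ({z} : Set G) = E.S :=
  E.sylow (fun _ hx => Subgroup.mem_centralizer_singleton_iff.2 (E.Z_central hz hx).eq)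
    (E.ord.centralizer_isPGroup (pow_four_of_sq (E.D_sq z hz.1)) hz1)

theorem mem_S_of_commute {z g : G} (hz : z ∈ E.Z) (hz1 : z ≠ 1) (hc : Commute g z) : g ∈ E.S := by
  rw [← E.centralizer_eq hz hz1]
  exact Subgroup.mem_centralizer_singleton_iff.2 hc.eq

/-- Some involution of `S \ D` is fused into `D`. -/
theorem fused {v : G} (hv : v ∈ E.S) (hvD : v ∉ E.D) (hv2 : v * v = 1) :
    ∃ u ∈ E.S, u ∉ E.D ∧ u * u = 1 ∧ ∃ g : G, g * u * g⁻¹ ∈ E.D := by
  by_contra hcon
  push Not at hcon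
  have hv1 : v ≠ 1 := fun e => hvD (e ▸ E.D.one_mem)
  -- every conjugate of `v` lies in `L`
  have hall : ∀ h : G, h * v * h⁻¹ ∈ E.L := by
    intro h
    set y := h * v * h⁻¹ with hy
    have hy2 : y * y = 1 := sq_conj hv2
    obtain ⟨z, hz, hz1⟩ : ∃ z ∈ E.Z, z ≠ 1 := by
      obtain ⟨z, hz⟩ := @exists_ne _ (Finite.one_lt_card_iff_nontrivial.1 E.two_le) (1 : E.Z)
      exact ⟨z, z.2, fun e => hz (Subtype.ext e)⟩
    have hzz : z * z = 1 := E.D_sq z hz.1
    set k := z * y with hk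
    have hkinv : k⁻¹ = y * z := by
      rw [hk, mul_inv_rev, inv_eq_of_mul_eq_one_right hy2, inv_eq_of_mul_eq_one_right hzz]
    rcases E.ord k with h4 | h4
    swap
    · -- odd order: `z` and `y` would be conjugate
      exfalso
      have hzk : ∀ n : ℕ, z * k ^ n * z⁻¹ = (k⁻¹) ^ n := fun n => by
        rw [← conj_pow, hkinv, hk, inv_eq_of_mul_eq_one_right hzz, ← mul_assoc, hzz, one_mul]
      obtain ⟨m, hm⟩ : ∃ m, k ^ (2 * m + 1) = 1 := h4.elim (fun e => ⟨1, e⟩) (fun e => ⟨2, e⟩)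
      -- `k ^ m` carries `z` to `y`
      have he : k ^ m * z * (k ^ m)⁻¹ = y := by
        have h1 : z * (k ^ m)⁻¹ = k ^ m * z := by
          rw [← inv_pow, ← hzk m, ← mul_assoc, ← mul_assoc, hzz, one_mul, inv_eq_of_mul_eq_one_right hzz]
        rw [mul_assoc, h1, ← mul_assoc, ← pow_add]
        have h2 : k ^ (m + m) = k⁻¹ := eq_inv_of_mul_eq_one_left (by rw [← pow_succ, ← two_mul, hm])
        rw [h2, hkinv, mul_assoc, hzz, mul_one]
      refine hcon v hv hvD hv2 ((k ^ m)⁻¹ * h) ?_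
      have e : (k ^ m)⁻¹ * h * v * ((k ^ m)⁻¹ * h)⁻¹ = z := by
        calc (k ^ m)⁻¹ * h * v * ((k ^ m)⁻¹ * h)⁻¹ = (k ^ m)⁻¹ * y * k ^ m := by rw [hy]; group
          _ = (k ^ m)⁻¹ * (k ^ m * z * (k ^ m)⁻¹) * k ^ m := by rw [he]
          _ = z := by group
      rw [e]
      exact hz.1
    set u := k ^ 2 with hu
    have hu2 : u * u = 1 := by rw [hu, ← pow_add]; exact h4
    have hzu : Commute z u := by
      have h1 : z * u * z⁻¹ = u := by
        rw [hu, ← conj_pow, show z * k * z⁻¹ = k⁻¹ by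
          rw [hkinv, hk, inv_eq_of_mul_eq_one_right hzz, ← mul_assoc, hzz, one_mul], inv_pow]
        exact inv_eq_of_mul_eq_one_right hu2
      exact mul_inv_eq_iff_eq_mul.1 h1
    by_cases hu1 : u = 1
    · refine E.S_le (E.mem_S_of_commute hz hz1 ?_)
      rw [hu, pow_two] at hu1
      show y * z = z * y
      rw [← hkinv]
      exact inv_eq_of_mul_eq_one_right hu1
    have hku : Commute k u := (Commute.refl k).pow_right 2
    have hyu : Commute y u := by
      rw [show y = z * k by rw [hk, ← mul_assoc, hzz, one_mul]]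
      exact hzu.mul_left hku
    have hu4 : u ^ 4 = 1 := pow_four_of_sq hu2
    obtain ⟨f, hf⟩ := E.exists_conj_le (E.ord.centralizer_isPGroup hu4 hu1)
    have hfz := hf z (Subgroup.mem_centralizer_singleton_iff.2 hzu.eq)
    have hfy := hf y (Subgroup.mem_centralizer_singleton_iff.2 hyu.eq)
    have hfzD : f * z * f⁻¹ ∈ E.D := by
      by_contra hn
      refine hcon _ hfz hn (sq_conj hzz) f⁻¹ ?_
      simpa [mul_assoc] using hz.1
    have hfu : f * u * f⁻¹ ∈ E.D := by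
      have e : f * u * f⁻¹ = (f * z * f⁻¹) * ((f * y * f⁻¹) * (f * z * f⁻¹) * (f * y * f⁻¹)⁻¹) := by
        rw [hu, hk, pow_two]
        nth_rw 2 [← inv_eq_of_mul_eq_one_right hy2]
        group
      rw [e]
      exact E.D.mul_mem hfzD (E.conj_D (E.S_le hfy) hfzD)
    have huS : u ∈ E.S := E.mem_S_of_commute hz hz1 hzu.symm
    have huD : u ∈ E.D := by
      by_contra hn
      exact hcon u huS hn hu2 f hfu
    exact E.weakly_closed (fun d hd => Subgroup.mem_centralizer_singleton_iff.2 (E.D_comm hd huD).eq)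
      (E.ord.centralizer_isPGroup hu4 hu1) (Subgroup.mem_centralizer_singleton_iff.2 hyu.eq)
  haveI := E.simple
  have hle : Subgroup.normalClosure {v} ≤ E.L := by
    refine (Subgroup.closure_le _).2 ?_
    intro x hx
    obtain ⟨a, ha, hax⟩ := Group.mem_conjugatesOfSet_iff.1 hx
    rw [Set.mem_singleton_iff] at ha
    subst ha
    obtain ⟨c, rfl⟩ := isConj_iff.1 hax
    exact hall c
  rcases (Subgroup.normalClosure_normal (s := {v})).eq_bot_or_eq_top with h | h
  · exact hv1 (Subgroup.mem_bot.1 (h ▸ Subgroup.subset_normalClosure rfl))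
  · exact E.L_ne_top (eq_top_iff.2 (h ▸ hle))

/-- In that case `|S : D| = |Z|` and every involution of `S` is fused into `D`. -/
theorem square {v : G} (hv : v ∈ E.S) (hvD : v ∉ E.D) (hv2 : v * v = 1) :
    E.D.relIndex E.S = Nat.card E.Z ∧ ∃ A : Subgroup G, A ≤ E.S ∧ (∀ a ∈ A, a * a = 1) ∧
      Nat.card A = Nat.card E.D ∧ A ≠ E.D ∧ ∀ a ∈ A, ∃ g : G, g * a * g⁻¹ ∈ E.D := by
  obtain ⟨u, hu, huD, hu2, g, hg⟩ := E.fused hv hvD hv2
  have hu1 : u ≠ 1 := fun e => huD (e ▸ E.D.one_mem)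
  have hu4 : u ^ 4 = 1 := pow_four_of_sq hu2
  set D' := E.D.map (MulAut.conj g⁻¹).toMonoidHom with hD'
  have hmem : ∀ x, x ∈ D' ↔ g * x * g⁻¹ ∈ E.D := fun x => by rw [hD', mem_normalizer_map, inv_inv]
  set C := Subgroup.centralizer ({u} : Set G) with hC
  have hD'C : D' ≤ C := fun x hx => Subgroup.mem_centralizer_singleton_iff.2
    (commute_of_conj (E.D_comm ((hmem x).1 hx) hg)).eq
  have hCp : IsPGroup 2 C := E.ord.centralizer_isPGroup hu4 hu1
  by_cases hcen : ∃ h : G, h * u * h⁻¹ ∈ E.Z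
  · -- `u` is conjugate into `Z`
    obtain ⟨h, hh⟩ := hcen
    have hh1 : h * u * h⁻¹ ≠ 1 := fun e => hu1 (conj_eq_one_iff.1 e)
    set Z' := E.Z.map (MulAut.conj h⁻¹).toMonoidHom with hZ'
    have hmem' : ∀ x, x ∈ Z' ↔ h * x * h⁻¹ ∈ E.Z := fun x => by rw [hZ', mem_normalizer_map, inv_inv]
    have hsq' : ∀ x ∈ Z', x * x = 1 := fun x hx => by
      have := E.D_sq _ ((hmem' x).1 hx).1
      rwa [conj_mul, conj_eq_one_iff] at this
    have hZS' : ∀ z ∈ E.Z, h * z * h⁻¹ ∈ E.S := fun z hz => E.mem_S_of_commute hh hh1 (by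
      have := (E.Z_central hz hu).eq
      show h * z * h⁻¹ * (h * u * h⁻¹) = h * u * h⁻¹ * (h * z * h⁻¹)
      rw [conj_mul, conj_mul, this])
    have hZ'S : Z' ≤ E.S := fun x hx => by
      obtain ⟨z, hz⟩ := @exists_ne _ (Finite.one_lt_card_iff_nontrivial.1 E.two_le) (1 : E.Z)
      exact E.mem_S_of_commute z.2 (fun e => hz (Subtype.ext e))
        (commute_of_conj (E.Z_central ((hmem' x).1 hx) (hZS' z z.2))).symm
    have hdisj : ∀ x ∈ Z', x ∈ E.Z → x = 1 := by
      intro x hx hxZ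
      by_contra hx1
      -- then `h` normalises `S`, so `u` is central in `S`
      have e2 : ∀ s ∈ E.S, h * s * h⁻¹ ∈ E.S := fun s hs =>
        E.mem_S_of_commute ((hmem' x).1 hx) (fun e => hx1 (conj_eq_one_iff.1 e)) (by
          show h * s * h⁻¹ * (h * x * h⁻¹) = h * x * h⁻¹ * (h * s * h⁻¹)
          rw [conj_mul, conj_mul, (E.Z_central hxZ hs).eq])
      have hle : E.D ≤ E.Z := fun d hd => E.mem_Z_of_commute hu huD hd
        (commute_of_conj (E.Z_central hh (e2 d (E.D_le hd))))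
      exact absurd (Subgroup.card_le_of_le hle) (not_le.2 E.Z_lt_D)
    have huZ' : u ∈ Z' := (hmem' u).2 hh
    have hdisjD : ∀ x ∈ Z', x ∈ E.D → x = 1 := fun x hx hxD => hdisj x hx
      (E.mem_Z_of_commute hu huD hxD
        (commute_of_conj (E.Z_central ((hmem' x).1 hx) (E.D_le hh.1))).symm)
    have hcommZ : ∀ z : E.Z, ∀ x : Z', Commute (E.Z.subtype z) (Z'.subtype x) := fun z x =>
      (E.Z_central z.2 (hZ'S x.2)).symm
    let φ : E.Z × Z' →* G := MonoidHom.noncommCoprod E.Z.subtype Z'.subtype hcommZ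
    have hφinj : Function.Injective φ := by
      refine (injective_iff_map_eq_one φ).2 ?_
      rintro ⟨z, x⟩ e
      have e' : (z : G) * x = 1 := e
      have hx : (x : G) = 1 := hdisj x x.2 (by
        rw [eq_inv_of_mul_eq_one_right e']
        exact E.Z.inv_mem z.2)
      rw [hx, mul_one] at e'
      exact Prod.ext (Subtype.ext e') (Subtype.ext hx)
    set A := φ.range with hA
    have hAS : A ≤ E.S := by
      rintro _ ⟨⟨z, x⟩, rfl⟩
      exact E.S.mul_mem (E.D_le z.2.1) (hZ'S x.2)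
    have hAsq : ∀ a ∈ A, a * a = 1 := by
      rintro _ ⟨⟨z, x⟩, rfl⟩
      show (z : G) * x * (z * x) = 1
      rw [(show Commute (x : G) z from (hcommZ z x).symm).mul_mul_mul_comm, E.D_sq _ z.2.1, hsq' _ x.2,
        one_mul]
    have hZcard : Nat.card Z' = Nat.card E.Z := card_map_conj _ _
    have hAcard : Nat.card A = Nat.card E.D := by
      rw [hA, ← Nat.card_congr (MonoidHom.ofInjective hφinj).toEquiv, Nat.card_prod, hZcard, E.D_card,
        pow_two]
    have huA : u ∈ A := ⟨(1, ⟨u, huZ'⟩), one_mul u⟩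
    have hAne : A ≠ E.D := fun e => huD (e ▸ huA)
    refine ⟨(E.elem_cases hAS hAsq hAcard hAne).1, A, hAS, hAsq, hAcard, hAne, ?_⟩
    rintro _ ⟨⟨z, x⟩, rfl⟩
    show ∃ g : G, g * ((z : G) * x) * g⁻¹ ∈ E.D
    by_cases hx1 : (x : G) = 1
    · exact ⟨1, by simpa [hx1] using z.2.1⟩
    have hxD : (x : G) ∉ E.D := fun hh' => hx1 (hdisjD x x.2 hh')
    have hx2 := hsq' _ x.2
    -- the commutators of `x` with `D` cover `Z`
    let χ : E.D →* G := MonoidHom.mk' (fun d => (d : G) * (x * d * x)) fun d e => by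
      show (d : G) * e * (x * ((d : G) * e) * x) = d * (x * d * x) * (e * (x * e * x))
      have h1 : (x : G) * d * x ∈ E.D := by
        have := E.conj_D (E.S_le (hZ'S x.2)) d.2
        rwa [inv_eq_of_mul_eq_one_right hx2] at this
      have h3 : (x : G) * ((d : G) * e) * x = (x * d * x) * (x * e * x) := by
        calc (x : G) * ((d : G) * e) * x = x * d * (x * x) * e * x := by rw [hx2]; group
          _ = _ := by group
      rw [h3, (E.D_comm e.2 h1).mul_mul_mul_comm]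
    have hker : Nat.card χ.ker ≤ Nat.card E.Z := by
      refine Nat.card_le_card_of_injective (fun d => (⟨((d : E.D) : G), ?_⟩ : E.Z)) ?_
      · refine E.mem_Z_of_commute (hZ'S x.2) hxD (d : E.D).2 ?_
        have e : ((d : E.D) : G) * (x * (d : E.D) * x) = 1 := d.2
        have e1 : (x : G) * (d : E.D) * x = (d : E.D) := by
          rw [eq_inv_of_mul_eq_one_right e, E.D_inv (d : E.D).2]
        show _ = _
        calc ((d : E.D) : G) * x = x * (d : E.D) * x * x := by rw [e1]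
          _ = x * (d : E.D) := by rw [mul_assoc, hx2, mul_one]
      · intro d e h
        exact Subtype.ext (Subtype.ext (congrArg (fun t : E.Z => (t : G)) h))
    have hran : χ.range = E.Z := by
      refine Subgroup.eq_of_le_of_card_ge ?_ ?_
      · rintro _ ⟨d, rfl⟩
        exact E.commutator_mem_Z (hZ'S x.2) hxD hx2 d.2
      · have h2 := Subgroup.card_mul_index χ.ker
        rw [Subgroup.index_ker] at h2
        have h3 : Nat.card E.D = Nat.card E.Z ^ 2 := E.D_card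
        nlinarith [Nat.card_pos (α := E.Z), Nat.card_pos (α := χ.range)]
    obtain ⟨d, hd⟩ := hran.ge z.2
    -- `d` conjugates `z * x` to `x`
    have e : (d : G) * ((z : G) * x) * (d : G)⁻¹ = x := by
      rw [E.D_inv d.2]
      have hd' : (d : G) * (x * d * x) = z := hd
      rw [← hd']
      calc (d : G) * (d * (x * d * x) * x) * d = d * d * x * d * (x * x) * d := by group
        _ = x := by rw [E.D_sq _ d.2, hx2, mul_one, one_mul, mul_assoc, E.D_sq _ d.2, mul_one]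
    refine ⟨h * d, ?_⟩
    have e3 : h * d * ((z : G) * x) * (h * d)⁻¹ = h * (x : G) * h⁻¹ := by
      calc h * d * ((z : G) * x) * (h * d)⁻¹ = h * ((d : G) * ((z : G) * x) * (d : G)⁻¹) * h⁻¹ := by group
        _ = _ := by rw [e]
    rw [e3]
    exact ((hmem' x).1 x.2).1
  · -- otherwise `D'` is the centralizer of `u`
    push Not at hcen
    have hCD : C = D' := by
      refine le_antisymm (fun c hc => ?_) hD'C
      by_contra hcD
      -- `g c g⁻¹ ∈ C(d)` for `d = g u g⁻¹`, a 2-group normalising `D`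
      have hd1 : g * u * g⁻¹ ≠ 1 := fun e => hu1 (conj_eq_one_iff.1 e)
      set C' := Subgroup.centralizer ({g * u * g⁻¹} : Set G)
      have hC'p : IsPGroup 2 C' := E.ord.centralizer_isPGroup (pow_four_of_sq (sq_conj hu2)) hd1
      have hDC' : E.D ≤ C' := fun d hd => Subgroup.mem_centralizer_singleton_iff.2 (E.D_comm hd hg).eq
      have hC'L := E.weakly_closed hDC' hC'p
      obtain ⟨l, hl, hlS⟩ := E.exists_L_conj hC'p hC'L
      have hc' : g * c * g⁻¹ ∈ C' := Subgroup.mem_centralizer_singleton_iff.2 (by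
        rw [conj_mul, conj_mul, Subgroup.mem_centralizer_singleton_iff.1 hc])
      refine hcen (l * g) ?_
      have e4 : l * g * u * (l * g)⁻¹ = l * (g * u * g⁻¹) * l⁻¹ := by group
      rw [e4]
      refine E.mem_Z_of_commute (hlS _ hc') ?_ (E.conj_D hl hg) ?_
      · intro hin
        exact hcD ((hmem c).2 ((Subgroup.mem_normalizer_iff.1 hl _).2 hin))
      · exact commute_conj (show Commute (g * u * g⁻¹) (g * c * g⁻¹) from
          (Subgroup.mem_centralizer_singleton_iff.1 hc').symm)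
    have hD'S : D' ≤ E.S := fun x hx => by
      obtain ⟨z, hz⟩ := @exists_ne _ (Finite.one_lt_card_iff_nontrivial.1 E.two_le) (1 : E.Z)
      have hzD : (z : G) ∈ D' := hCD ▸ Subgroup.mem_centralizer_singleton_iff.2 (E.Z_central z.2 hu).symm.eq
      exact E.mem_S_of_commute z.2 (fun e => hz (Subtype.ext e))
        (commute_of_conj (E.D_comm ((hmem x).1 hx) ((hmem z).1 hzD)))
    have huD' : u ∈ D' := (hmem u).2 hg
    have hsq : ∀ x ∈ D', x * x = 1 := fun x hx => by
      have := E.D_sq _ ((hmem x).1 hx)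
      rwa [conj_mul, conj_eq_one_iff] at this
    have hne : D' ≠ E.D := fun e => huD (e ▸ huD')
    exact ⟨(E.elem_cases hD'S hsq (card_map_conj _ _) hne).1, D', hD'S, hsq, card_map_conj _ _, hne,
      fun a ha => ⟨g, (hmem a).1 ha⟩⟩

end Local

end Cfsg.Agent.Orders5
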