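import Cfsg.Agent.Lib.Orders5.Simple
import Cfsg.Agent.Lib.Orders5.AlmostSimple
import Cfsg.Agent.S3992

/-
Non-solvable groups with element orders at most five are `A₆` or an extension of a 2-group by `A₅`.

* `shape`
-/

set_option autoImplicit false

namespace Cfsg.Agent.Orders5

open Cfsg.Agent.Solvable

theorem A5.four_group : ∃ v w : A5.Alt, v * v = 1 ∧ w * w = 1 ∧ v * w = w * v ∧ v ≠ 1 ∧ w ≠ 1 ∧ v * w ≠ 1 :=
  ⟨A5.v0, A5.w, A5.facts.1, A5.facts.2.2.1, A5.facts.2.2.2.2.2.1, A5.facts.2.1, A5.facts.2.2.2.1,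
    A5.facts.2.2.2.2.2.2.2.2.2.2.2.2.2⟩

/-- A normal p-subgroup with quotient containing a four-group is a 2-group. -/
theorem eq_two_of_four_group {G : Type*} [Group G] [Finite G] (h : Ord5 G) {N : Subgroup G} [N.Normal]
    (hV : ∃ v w : G ⧸ N, v * v = 1 ∧ w * w = 1 ∧ v * w = w * v ∧ v ≠ 1 ∧ w ≠ 1 ∧ v * w ≠ 1)
    (hN1 : N ≠ ⊥) {p : ℕ} (hp : p.Prime) (hNp : IsPGroup p N) : p = 2 := by
  by_contra hp2
  haveI := Fact.mk hp
  obtain ⟨v, w, hv, hw, hvw, hv1, hw1, hvw1⟩ := hV
  -- a 2-element acts fixed-point-freely on `N`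
  have hfpf : ∀ g : G, g ^ 4 = 1 → g ≠ 1 → ∀ n ∈ N, Commute n g → n = 1 := fun g hg hg1 n hn hc =>
    (h.eq_one_of_coprime hc (h.pow_prime_of_isPGroup hp2 hNp hn) hg
      ((((Nat.coprime_primes hp Nat.prime_two).2 hp2)).pow_right 2)).resolve_right hg1
  have hlift : ∀ g : G, (g : G ⧸ N) * (g : G ⧸ N) = 1 → (g : G ⧸ N) ≠ 1 → g * g = 1 := by
    intro g hg hg1
    have h4 : g ^ 4 = 1 := h.pow_four_of_outer (M := N) (fun e => hg1 ((QuotientGroup.eq_one_iff g).2 e))
      ((QuotientGroup.eq_one_iff _).1 hg)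
    by_contra hgg
    exact hgg (hfpf g h4 (fun e => hgg (by rw [e, mul_one])) _ ((QuotientGroup.eq_one_iff _).1 hg)
      ((Commute.refl g).mul_left (Commute.refl g)))
  have hinv : ∀ g : G, g * g = 1 → g ≠ 1 → ∀ n ∈ N, g * n * g⁻¹ = n⁻¹ := by
    intro g hg hg1 n hn
    let φ : N →* N := MonoidHom.mk' (fun a => ⟨g * a * g⁻¹, ‹N.Normal›.conj_mem a a.2 g⟩)
      fun a b => Subtype.ext (by simp [mul_assoc])
    have hφ : MonoidHom.FixedPointFree φ := fun a ha => Subtype.ext
      (hfpf g (pow_four_of_sq hg) hg1 a a.2 (mul_inv_eq_iff_eq_mul.1 (congrArg Subtype.val ha)).symm)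
    have := MonoidHom.FixedPointFree.coe_eq_inv_of_involutive hφ (fun a => Subtype.ext (by
      show g * (g * (a : G) * g⁻¹) * g⁻¹ = a
      rw [inv_eq_of_mul_eq_one_right hg, ← mul_assoc, ← mul_assoc, hg, one_mul, mul_assoc, hg, mul_one]))
    exact congrArg Subtype.val (congrFun this ⟨n, hn⟩)
  obtain ⟨g₁, rfl⟩ := QuotientGroup.mk_surjective v
  obtain ⟨g₂, rfl⟩ := QuotientGroup.mk_surjective w
  have h1 := hlift g₁ hv hv1
  have h2 := hlift g₂ hw hw1
  have h12 := hlift (g₁ * g₂) (by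
    rw [QuotientGroup.mk_mul, (show Commute (g₂ : G ⧸ N) g₁ from hvw.symm).mul_mul_mul_comm, hv, hw,
      one_mul]) hvw1
  obtain ⟨⟨n, hn⟩, hn1⟩ := Subgroup.ne_bot_iff_exists_ne_one.1 hN1
  refine hn1 (Subtype.ext (hfpf (g₁ * g₂) (pow_four_of_sq h12)
    (fun e => hvw1 (by rw [← QuotientGroup.mk_mul, e]; rfl)) n hn ?_))
  have ne1 : g₁ ≠ 1 := fun e => hv1 (by rw [e]; rfl)
  have ne2 : g₂ ≠ 1 := fun e => hw1 (by rw [e]; rfl)
  have e3 : (g₁ * g₂) * n * (g₁ * g₂)⁻¹ = n := by
    calc (g₁ * g₂) * n * (g₁ * g₂)⁻¹ = g₁ * (g₂ * n * g₂⁻¹) * g₁⁻¹ := by group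
      _ = n := by rw [hinv g₂ h2 ne2 n hn, hinv g₁ h1 ne1 _ (N.inv_mem hn), inv_inv]
  exact (mul_inv_eq_iff_eq_mul.1 e3).symm

theorem isPrimePow_of_ord5 {G : Type*} [Group G] (h : Ord5 G) : S3992.Eppo G := fun _ hg => h.primePow hg

theorem shape_of_mulEquiv {G H : Type*} [Group G] [Group H] (e : G ≃* H) (hs : Shape H) : Shape G := by
  rcases hs with ⟨⟨f⟩⟩ | ⟨π, hπ, hk⟩
  · exact Or.inl ⟨e.trans f⟩
  · refine Or.inr ⟨π.comp e.toMonoidHom, hπ.comp e.surjective, ?_⟩
    have he : (π.comp e.toMonoidHom).ker = π.ker.comap e.toMonoidHom := rfl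
    rw [he]
    exact hk.comap_of_injective e.toMonoidHom e.injective

theorem mem_iff_of_isSimple {M : Type*} [Group M] [Finite M] [IsSimpleGroup M] (hns : ¬ Group.IsSolvable M)
    (hs : Shape M) : Nonempty (M ≃* A5.Alt) ∨ Nonempty (M ≃* A6.Alt) := by
  rcases hs with he | ⟨π, hπ, hk⟩
  · exact Or.inr he
  · rcases (inferInstance : π.ker.Normal).eq_bot_or_eq_top with hb | hb
    · exact Or.inl ⟨MulEquiv.ofBijective π ⟨(MonoidHom.ker_eq_bot_iff π).1 hb, hπ⟩⟩
    · refine absurd ?_ hns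
      have hp : IsPGroup 2 M := (hb ▸ hk : IsPGroup 2 (⊤ : Subgroup M)).of_equiv Subgroup.topEquiv
      haveI := Fact.mk Nat.prime_two
      haveI := hp.isNilpotent
      infer_instance

universe u in
theorem shape_aux : ∀ (n : ℕ) (G : Type u) [Group G] [Finite G], Nat.card G = n → Ord5 G →
    ¬ Group.IsSolvable G → Shape G := by
  intro n
  induction n using Nat.strong_induction_on with
  | _ n ih =>
  intro G _ _ hn h hns
  haveI : Fact (Nat.Prime 2) := ⟨Nat.prime_two⟩
  have IH : ∀ H : Subgroup G, H ≠ ⊤ → ¬ Group.IsSolvable H → Shape H := by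
    intro H hH hHns
    refine ih _ ?_ H rfl (h.subgroup H) hHns
    rw [← hn]
    refine lt_of_le_of_ne (Subgroup.card_le_card_group H) fun e => hH (Subgroup.eq_top_of_card_eq H e)
  by_cases hrad : ∀ N : Subgroup G, N.Normal → Group.IsSolvable N → N = ⊥
  · haveI : Nontrivial G := by
      by_contra hne
      rw [not_nontrivial_iff_subsingleton] at hne
      exact hns (Group.isSolvable_of_comm fun a b => Subsingleton.elim _ _)
    obtain ⟨M, hMn, hMs, hMc, hmin⟩ := S3992.exists_simple_socle hrad (isPrimePow_of_ord5 h)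
    haveI := hMn
    haveI := hMs
    by_cases hMtop : M = ⊤
    · haveI : IsSimpleGroup G := by
        subst hMtop
        exact (Subgroup.topEquiv (G := G)).symm.isSimpleGroup_congr.2 hMs
      rcases simple_cases h hns IH with hc | hc
      · obtain ⟨e⟩ := S0494.result hc
        exact Or.inr ⟨e.toMonoidHom, e.surjective, by
          rw [(MonoidHom.ker_eq_bot_iff _).2 e.injective]; exact IsPGroup.of_bot⟩
      · exact Or.inl (S0497.result hc)
    · have hMns : ¬ Group.IsSolvable M := fun hs => by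
        have h0 := hrad M hMn hs
        subst h0
        exact hMc ⟨⟨fun a b => Subsingleton.elim _ _⟩⟩
      exact absurd (eq_top_of_almost h (mem_iff_of_isSimple hMns (IH M hMtop hMns))) hMtop
  push Not at hrad
  obtain ⟨N₀, hN₀, hN₀s, hN₀1⟩ := hrad
  haveI := hN₀
  haveI := hN₀s
  obtain ⟨p, hp, N, hNn, hN1, -, -, hNp, -, -⟩ := exists_minimal_normal_pGroup (N := N₀) hN₀1
  haveI := hNn
  haveI := Fact.mk hp
  have hNs : Group.IsSolvable N := by
    haveI := hNp.isNilpotent
    infer_instance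
  have hQns : ¬ Group.IsSolvable (G ⧸ N) := fun hs => hns
    (Group.isSolvable_of_ker_le_range N.subtype (QuotientGroup.mk' N)
      (by rw [QuotientGroup.ker_mk', Subgroup.range_subtype]))
  have hQcard : Nat.card (G ⧸ N) < n := by
    rw [← hn, ← Subgroup.card_mul_index N, ← Subgroup.index_eq_card]
    refine lt_mul_of_one_lt_left (Nat.pos_of_ne_zero Subgroup.index_ne_zero_of_finite) ?_
    haveI : Nontrivial N := (Subgroup.nontrivial_iff_ne_bot N).2 hN1
    exact Finite.one_lt_card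
  rcases ih _ hQcard (G ⧸ N) rfl (h.quotient N) hQns with ⟨⟨e⟩⟩ | ⟨π, hπ, hk⟩
  · -- over `A₆` there is no 2-group
    exfalso
    have hp2 : p = 2 := by
      obtain ⟨v, w, hv, hw, hvw, hv1, hw1, hvw1⟩ := A6.four_group
      refine eq_two_of_four_group h ⟨e.symm v, e.symm w, by rw [← map_mul, hv, map_one],
        by rw [← map_mul, hw, map_one], by rw [← map_mul, hvw, map_mul],
        fun h' => hv1 (by simpa using congrArg e h'), fun h' => hw1 (by simpa using congrArg e h'),
        fun h' => hvw1 (by simpa using congrArg e h')⟩ hN1 hp hNp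
    subst hp2
    haveI : Fact (Nat.Prime 3) := ⟨Nat.prime_three⟩
    obtain ⟨P⟩ := (inferInstance : Nonempty (Sylow 3 G))
    have hP9 : Nat.card (P : Subgroup G) = 9 := by
      rw [Sylow.card_eq_multiplicity]
      obtain ⟨k, hk⟩ := IsPGroup.iff_card.1 hNp
      rw [← Subgroup.card_mul_index N, Subgroup.index_eq_card, Nat.card_congr e.toEquiv, A6.card_alt, hk,
        factorization_eq_of (k := 2) (n := 2 ^ k * 40) Nat.prime_three (by ring) (by
          intro hd
          rcases Nat.prime_three.dvd_mul.1 hd with h' | h'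
          · exact absurd (Nat.prime_three.dvd_of_dvd_pow h') (by norm_num)
          · norm_num at h')]
      norm_num
    obtain ⟨y, hyP, hy1, hPy⟩ := eq_zpowers_of_act h hNp hN1 Nat.prime_three (by norm_num) P.isPGroup'
      (by rw [Subgroup.normalizer_eq_top (H := N)]; exact le_top)
      (fun e' => by rw [e', Subgroup.card_bot] at hP9; norm_num at hP9)
    have h3 : orderOf y ∣ 3 := orderOf_dvd_of_pow_eq_one
      (h.pow_prime_of_isPGroup (by norm_num) P.isPGroup' hyP)
    rw [hPy, Nat.card_zpowers] at hP9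
    rw [hP9] at h3
    norm_num at h3
  · refine Or.inr ⟨π.comp (QuotientGroup.mk' N), hπ.comp (QuotientGroup.mk'_surjective N), ?_⟩
    have hp2 : p = 2 := by
      refine eq_two_of_four_group h ?_ hN1 hp hNp
      by_cases hb : π.ker = ⊥
      · let e := MulEquiv.ofBijective π ⟨(MonoidHom.ker_eq_bot_iff π).1 hb, hπ⟩
        obtain ⟨v, w, hv, hw, hvw, hv1, hw1, hvw1⟩ := A5.four_group
        exact ⟨e.symm v, e.symm w, by rw [← map_mul, hv, map_one],
          by rw [← map_mul, hw, map_one], by rw [← map_mul, hvw, map_mul],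
          fun h' => hv1 (by simpa using congrArg e h'), fun h' => hw1 (by simpa using congrArg e h'),
          fun h' => hvw1 (by simpa using congrArg e h')⟩
      · let π' : (⊤ : Subgroup (G ⧸ N)) →* A5.Alt := π.comp (Subgroup.topEquiv).toMonoidHom
        obtain ⟨S, -, -, -, -, hsq, -, -, h5, -⟩ := frame (h.quotient N) (D := π.ker) (H := ⊤) le_top
          (by rw [Subgroup.normalizer_eq_top (H := π.ker)]) hk hb π'
          (hπ.comp Subgroup.topEquiv.surjective) (by ext x; rfl)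
        obtain ⟨⟨v, hv⟩, hv1⟩ := Subgroup.ne_bot_iff_exists_ne_one.1 hb
        obtain ⟨w, hw, hwv⟩ : ∃ w ∈ π.ker, w ∉ ({1, v} : Set (G ⧸ N)) := by
          by_contra hcon
          push Not at hcon
          have h1 := Set.ncard_le_ncard (show (π.ker : Set (G ⧸ N)) ⊆ {1, v} from hcon) (Set.toFinite _)
          have h2 := (Set.ncard_insert_le (1 : G ⧸ N) {v}).trans (by simp : ({v} : Set (G ⧸ N)).ncard + 1 ≤ 2)
          rw [← Nat.card_coe_set_eq] at h1
          simp only [SetLike.coe_sort_coe] at h1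
          have h3 : 1 < Nat.card π.ker := Finite.one_lt_card_iff_nontrivial.2 ((Subgroup.nontrivial_iff_ne_bot _).2 hb)
          omega
        simp only [Set.mem_insert_iff, Set.mem_singleton_iff, not_or] at hwv
        have hvw : v * w ∈ π.ker := π.ker.mul_mem hv hw
        refine ⟨v, w, hsq v hv, hsq w hw, ?_, fun e => hv1 (Subtype.ext e), hwv.1, fun e => hwv.2 ?_⟩
        · calc v * w = (v * w)⁻¹ := (inv_eq_of_mul_eq_one_right (hsq _ hvw)).symm
            _ = w * v := by
              rw [mul_inv_rev, inv_eq_of_mul_eq_one_right (hsq v hv), inv_eq_of_mul_eq_one_right (hsq w hw)]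
        · rw [eq_inv_of_mul_eq_one_right e, inv_eq_of_mul_eq_one_right (hsq v hv)]
    subst hp2
    exact hk.comap_of_ker_isPGroup (QuotientGroup.mk' N) (by rw [QuotientGroup.ker_mk']; exact hNp)

/-- Non-solvable groups with element orders at most five. -/
theorem shape {G : Type*} [Group G] [Finite G] (h : Ord5 G) (hns : ¬ Group.IsSolvable G) : Shape G :=
  shape_aux _ G rfl h hns

end Cfsg.Agent.Orders5
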