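import Cfsg.Agent.Lib.Orders5.Acting
import Cfsg.Agent.Lib.Solvable.GruenbergKegel

/-
The solvable 2-local case: `N(D) = D ⋊ (⟨y⟩ ⋊ ⟨t⟩)` with `t` inverting `y`.

* `no_order_four` : no element of order four normalises `⟨y⟩`
* `local_of_solvable` : the resulting configuration
-/

set_option autoImplicit false

namespace Cfsg.Agent.Orders5

open Cfsg.Agent.Solvable

variable {G : Type*} [Group G] [Finite G]

theorem no_order_four (h : Ord5 G) {D : Subgroup G} (hD : IsPGroup 2 D) (hD1 : D ≠ ⊥) {p : ℕ}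
    (hp : p = 3 ∨ p = 5) {y f : G} (hyD : y ∈ Subgroup.normalizer (D : Set G)) (hy : y ^ p = 1) (hy1 : y ≠ 1)
    (hfD : f ∈ Subgroup.normalizer (D : Set G)) (hf : f ^ 4 = 1) {i : ℕ} (hfy : f * y * f⁻¹ = y ^ i) :
    f * f = 1 := by
  by_contra hu1
  have hpp : p.Prime := by rcases hp with rfl | rfl <;> norm_num
  haveI := Fact.mk hpp
  have hp2 : p ≠ 2 := by omega
  have hu2 : (f * f) * (f * f) = 1 := by rw [← hf]; simp only [pow_succ, pow_zero, one_mul, mul_assoc]
  have hpow : ∀ k : ℕ, f * y ^ k * f⁻¹ = y ^ (i * k) := fun k => by rw [← conj_pow, hfy, ← pow_mul]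
  have huy : (f * f) * y * (f * f)⁻¹ = y ^ (i * i) := by
    rw [← hpow i, ← hfy]; group
  have huinv : (f * f) * y * (f * f)⁻¹ = y⁻¹ := inverts_of_fpf h hpp hp2 hu2 hu1 hy ⟨_, huy⟩
  have hord : orderOf y = p := orderOf_eq_prime hy hy1
  have hii : (i * i + 1) % p = 0 := by
    have h1 : y ^ (i * i + 1) = 1 := by rw [pow_succ, ← huy, huinv, inv_mul_cancel]
    rw [← Nat.dvd_iff_mod_eq_zero, ← hord]
    exact orderOf_dvd_of_pow_eq_one h1
  rcases hp with rfl | rfl
  · rw [Nat.add_mod, Nat.mul_mod] at hii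
    have h3 := Nat.mod_lt i (show 3 > 0 by norm_num)
    interval_cases hk : i % 3 <;> norm_num at hii
  have hi5 : i % 5 = 2 ∨ i % 5 = 3 := by
    rw [Nat.add_mod, Nat.mul_mod] at hii
    have h3 := Nat.mod_lt i (show 5 > 0 by norm_num)
    interval_cases hk : i % 5 <;> norm_num at hii <;> simp
  obtain ⟨hsq, hcard, hfix⟩ := dihedral h hD hpp hp2 hyD hy hy1 (mul_mem hfD hfD) hu2 huinv
  have hDcomm : ∀ a ∈ D, ∀ b ∈ D, Commute a b := fun a ha b hb => by
    have hi : ∀ u ∈ D, u⁻¹ = u := fun u hu => inv_eq_of_mul_eq_one_right (hsq u hu)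
    calc a * b = (a * b)⁻¹ := (hi _ (D.mul_mem ha hb)).symm
      _ = b * a := by rw [mul_inv_rev, hi a ha, hi b hb]
  have hfc : ∀ e ∈ D, f * e * f⁻¹ ∈ D := fun e he => (Subgroup.mem_normalizer_iff.1 hfD e).1 he
  -- `f` centralises the fixed points of `f * f`
  have hfixf : ∀ a ∈ D, Commute a (f * f) → f * a * f⁻¹ = a := by
    intro a ha hac
    obtain ⟨e, he, rfl⟩ := hfix a ha hac
    have h1 : (e * f) * (e * f) * ((e * f) * (e * f)) =
        e * (f * e * f⁻¹) * (f * (f * e * f⁻¹) * f⁻¹) * (f * (f * (f * e * f⁻¹) * f⁻¹) * f⁻¹) *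
          ((f * f) * (f * f)) := by group
    rw [hu2, mul_one] at h1
    have hmem : (e * f) * (e * f) * ((e * f) * (e * f)) ∈ D := by
      rw [h1]
      exact D.mul_mem (D.mul_mem (D.mul_mem he (hfc e he)) (hfc _ (hfc e he))) (hfc _ (hfc _ (hfc e he)))
    have h2 : (e * f) ^ 4 = 1 := by
      have h3 : (e * f) ^ (2 ^ 4) = 1 := by
        rw [show (2 : ℕ) ^ 4 = 4 * 4 by norm_num, pow_mul]
        exact h.pow_four_of_isPGroup hD (by
          rw [pow_succ, pow_succ, pow_two, mul_assoc (e * f * (e * f))]; exact hmem)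
      obtain ⟨k, -, hk⟩ := (Nat.dvd_prime_pow Nat.prime_two).1 (orderOf_dvd_of_pow_eq_one h3)
      exact h.pow_four hk
    rw [pow_succ, pow_succ, pow_two, mul_assoc (e * f * (e * f)), h1] at h2
    set e1 := f * e * f⁻¹ with he1
    set e2 := f * e1 * f⁻¹ with he2
    set e3 := f * e2 * f⁻¹ with he3
    have hin : ∀ u ∈ D, u⁻¹ = u := fun u hu => inv_eq_of_mul_eq_one_right (hsq u hu)
    have hue : (f * f) * e * (f * f)⁻¹ = e2 := by rw [he2, he1]; group
    rw [hue]
    rw [show f * (e * e2) * f⁻¹ = e1 * e3 by rw [← conj_mul, ← he1, ← he3]]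
    -- `e e₁ e₂ e₃ = 1`
    calc e1 * e3 = e⁻¹ * (e * e1 * e2 * e3) * (e3⁻¹ * e2⁻¹ * e3) := by group
      _ = e * e2 := by
        rw [h2, mul_one, hin e he, hin e2 (hfc _ (hfc e he)), hin e3 (hfc _ (hfc _ (hfc e he))),
          (hDcomm e3 (hfc _ (hfc _ (hfc e he))) e2 (hfc _ (hfc e he))).eq, mul_assoc e2,
          hsq e3 (hfc _ (hfc _ (hfc e he))), mul_one]
  -- so there are no fixed points
  have hZ : D ⊓ Subgroup.centralizer ({f * f} : Set G) = ⊥ := by
    refine eq_bot_iff.2 fun a ha => Subgroup.mem_bot.2 ?_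
    have hau : Commute a (f * f) := Subgroup.mem_centralizer_singleton_iff.1 ha.2
    let q : ℕ → G := fun k => y ^ k * a * (y ^ k)⁻¹
    have hyk : ∀ k, q k ∈ D := fun k => (Subgroup.mem_normalizer_iff.1 (pow_mem hyD k) a).1 ha.1
    have hq5 : ∀ k, q k = q (k % 5) := fun k => by
      show y ^ k * a * (y ^ k)⁻¹ = y ^ (k % 5) * a * (y ^ (k % 5))⁻¹
      rw [← pow_mod_orderOf y k, hord]
    have hqf : ∀ k, f * q k * f⁻¹ = q (i * k) := fun k => by
      calc f * (y ^ k * a * (y ^ k)⁻¹) * f⁻¹ = (f * y ^ k * f⁻¹) * (f * a * f⁻¹) * (f * y ^ k * f⁻¹)⁻¹ := by group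
        _ = _ := by rw [hpow, hfixf a ha.1 hau]
    have hqu : ∀ k, (f * f) * q k * (f * f)⁻¹ = q (4 * k) := fun k => by
      calc (f * f) * q k * (f * f)⁻¹ = f * (f * q k * f⁻¹) * f⁻¹ := by group
        _ = q (i * (i * k)) := by rw [hqf, hqf]
        _ = q (4 * k) := by
          rw [hq5, hq5 (4 * k), ← mul_assoc, Nat.mul_mod, Nat.mul_mod i i]
          rcases hi5 with e | e <;> rw [e] <;> simp [Nat.mul_mod]
    have hb : Commute (q 1 * q 4) (f * f) := by
      refine (mul_inv_eq_iff_eq_mul.1 ?_).symm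
      rw [← conj_mul, hqu, hqu, hq5 (4 * 4)]
      norm_num
      exact (hDcomm _ (hyk 4) _ (hyk 1)).eq
    have h14 := hfixf _ (D.mul_mem (hyk 1) (hyk 4)) hb
    rw [← conj_mul, hqf, hqf, mul_one, hq5 i, hq5 (i * 4), Nat.mul_mod] at h14
    have h23 : q 1 * q 4 = q 2 * q 3 := by
      rcases hi5 with e | e <;> rw [e] at h14 <;> norm_num at h14
      · exact h14.symm
      · rw [← h14]; exact ((hDcomm _ (hyk 3) _ (hyk 2)).eq)
    have hprod := MonoidHom.FixedPointFree.prod_pow_eq_one (φ := cj D y hyD)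
      (fun d hd => h.cj_fpf hD hpp hp2 hyD hy hy1 d hd) (n := 5)
      (funext fun d => Subtype.ext (by rw [coe_cj_iterate, hy]; show (1 : G) * d * 1⁻¹ = d; group)) ⟨a, ha.1⟩
    have hprod' : a * q 1 * q 2 * q 3 * q 4 = 1 := by
      have h' := congrArg Subtype.val hprod
      simp only [List.range_succ, List.range_zero, List.nil_append, List.map_append, List.map_cons,
        List.map_nil, List.prod_append, List.prod_cons, List.prod_nil, mul_one, one_mul,
        Subgroup.coe_mul, coe_cj_iterate, Subgroup.coe_one] at h'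
      simpa [q] using h'
    have h1 : q 1 * q 2 * q 3 * q 4 = 1 := by
      calc q 1 * q 2 * q 3 * q 4 = q 1 * (q 2 * q 3) * q 4 := by group
        _ = q 1 * (q 1 * q 4) * q 4 := by rw [h23]
        _ = (q 1 * q 1) * (q 4 * q 4) := by group
        _ = 1 := by rw [hsq _ (hyk 1), hsq _ (hyk 4), one_mul]
    calc a = a * (q 1 * q 2 * q 3 * q 4) := by rw [h1, mul_one]
      _ = a * q 1 * q 2 * q 3 * q 4 := by group
      _ = 1 := hprod'
  refine hD1 (Subgroup.card_eq_one.1 ?_)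
  rw [hcard, hZ, Subgroup.card_bot, one_pow]

/-- The configuration from a solvable `N(D)`. -/
theorem local_of_solvable [IsSimpleGroup G] (h : Ord5 G) {D : Subgroup G} (hD : IsPGroup 2 D)
    (hD1 : D ≠ ⊥) (hL : Subgroup.normalizer (D : Set G) ≠ ⊤)
    [Group.IsSolvable (Subgroup.normalizer (D : Set G))]
    (hcore : ∀ M : Subgroup G, M ≤ Subgroup.normalizer (D : Set G) →
      (∀ l ∈ Subgroup.normalizer (D : Set G), ∀ m ∈ M, l * m * l⁻¹ ∈ M) → IsPGroup 2 M → M ≤ D)
    (hex : ∃ w ∈ Subgroup.normalizer (D : Set G), w ∉ D ∧ w ^ 4 = 1) :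
    ∃ E : Local G, E.D.relIndex E.S = 2 ∧ ∃ v ∈ E.S, v ∉ E.D ∧ v * v = 1 := by
  haveI : Fact (Nat.Prime 2) := ⟨Nat.prime_two⟩
  set L := Subgroup.normalizer (D : Set G) with hLdef
  obtain ⟨w, hwL, hwD, hw4⟩ := hex
  have hDL : D ≤ L := Subgroup.le_normalizer
  have hconjD : ∀ l ∈ L, ∀ d ∈ D, l * d * l⁻¹ ∈ D := fun l hl d hd => (Subgroup.mem_normalizer_iff.1 hl d).1 hd
  haveI hDn : (D.subgroupOf L).Normal := ⟨fun d hd l => Subgroup.mem_subgroupOf.2 (hconjD l l.2 _ hd)⟩
  -- the odd prime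
  have h2 : 2 ∣ Nat.card L := by
    have hw1 : w ≠ 1 := fun e => hwD (e ▸ D.one_mem)
    obtain ⟨k, -, hk⟩ := (Nat.dvd_prime_pow Nat.prime_two).1
      (orderOf_dvd_of_pow_eq_one (show w ^ 2 ^ 2 = 1 from hw4))
    have h1 : orderOf w ∣ Nat.card L := by
      rw [← Subgroup.orderOf_mk w hwL]; exact orderOf_dvd_natCard _
    rw [hk] at h1
    refine (dvd_pow_self 2 ?_).trans h1
    rintro rfl
    exact hw1 (orderOf_eq_one_iff.1 (by rw [hk, pow_zero]))
  obtain ⟨p, hp, hpd, honly⟩ : ∃ p, (p = 3 ∨ p = 5) ∧ p ∣ Nat.card L ∧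
      ∀ r, r.Prime → r ∣ Nat.card L → r = 2 ∨ r = p := by
    by_cases h3 : 3 ∣ Nat.card L
    · refine ⟨3, Or.inl rfl, h3, fun r hr hd => ?_⟩
      rcases (h.subgroup L).prime_cases hr hd with rfl | rfl | rfl
      · exact Or.inl rfl
      · exact Or.inr rfl
      · exact absurd ⟨h2, h3, hd⟩ (h.subgroup L).solvable_two_primes
    · by_cases h5 : 5 ∣ Nat.card L
      · refine ⟨5, Or.inr rfl, h5, fun r hr hd => ?_⟩
        rcases (h.subgroup L).prime_cases hr hd with rfl | rfl | rfl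
        · exact Or.inl rfl
        · exact absurd hd h3
        · exact Or.inr rfl
      · exfalso
        refine hwD (hcore L le_rfl (fun l hl m hm => L.mul_mem (L.mul_mem hl hm) (L.inv_mem hl)) ?_ hwL)
        refine IsPGroup.of_card
          (Nat.eq_prime_pow_of_unique_prime_dvd Nat.card_pos.ne' fun {r} hr hd => ?_)
        rcases (h.subgroup L).prime_cases hr hd with rfl | rfl | rfl
        · rfl
        · exact absurd hd h3
        · exact absurd hd h5
  have hpp : p.Prime := by rcases hp with rfl | rfl <;> norm_num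
  haveI := Fact.mk hpp
  have hp2 : p ≠ 2 := by omega
  obtain ⟨P⟩ := (inferInstance : Nonempty (Sylow p L))
  have hP1 : (P : Subgroup L).map L.subtype ≠ ⊥ := by
    intro e
    have h1 := P.dvd_card_of_dvd_card hpd
    rw [← Subgroup.card_subtype L (P : Subgroup L), e, Subgroup.card_bot, Nat.dvd_one] at h1
    exact hpp.ne_one h1
  obtain ⟨y, hyP, hy1, hPy⟩ := eq_zpowers_of_act h hD hD1 hpp hp2 (P.isPGroup'.map L.subtype)
    (Subgroup.map_subtype_le _) hP1
  have hyL : y ∈ L := Subgroup.map_subtype_le _ hyP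
  have hy : y ^ p = 1 := h.pow_prime_of_isPGroup hp2 (P.isPGroup'.map L.subtype) hyP
  have hyord : orderOf y = p := orderOf_eq_prime hy hy1
  have hpow_y : ∀ g ∈ Subgroup.zpowers y, ∃ k : ℕ, g = y ^ k := fun g hg => by
    obtain ⟨k, hk⟩ := (isOfFinOrder_of_finite y).mem_powers_iff_mem_zpowers.2 hg
    exact ⟨k, hk.symm⟩
  have hyD : ∀ k : ℕ, y ^ k ∈ D → y ^ k = 1 := fun k hk => by
    refine h.fpf hpp hp2 hy hy1 (h.pow_four_of_isPGroup hD hk) ((Commute.refl y).pow_left k)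
  -- `⟨y⟩ D` is normal in `L`
  set mk := QuotientGroup.mk' (D.subgroupOf L) with hmk
  have hsurj : Function.Surjective mk := QuotientGroup.mk'_surjective _
  haveI : Nontrivial (L ⧸ D.subgroupOf L) := ⟨⟨mk ⟨w, hwL⟩, 1, fun e =>
    hwD ((QuotientGroup.eq_one_iff (N := D.subgroupOf L) (⟨w, hwL⟩ : L)).1 e)⟩⟩
  haveI : Group.IsSolvable ((⊤ : Subgroup (L ⧸ D.subgroupOf L))) :=
    inferInstance
  obtain ⟨r, hr, M, hMn, hM0, -, -, hMp, -, -⟩ :=
    exists_minimal_normal_pGroup (N := (⊤ : Subgroup (L ⧸ D.subgroupOf L))) top_ne_bot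
  haveI := Fact.mk hr
  have hrp : r = p := by
    have hd : r ∣ Nat.card L := by
      obtain ⟨k, hk⟩ := IsPGroup.iff_card.1 hMp
      have h1 : Nat.card M ∣ Nat.card L :=
        (Subgroup.card_subgroup_dvd_card M).trans (Subgroup.card_quotient_dvd_card _)
      rw [hk] at h1
      refine (dvd_pow_self r ?_).trans h1
      rintro rfl
      exact hM0 (Subgroup.card_eq_one.1 (by rw [hk, pow_zero]))
    rcases honly r hr hd with rfl | e
    · exfalso
      have hK : IsPGroup 2 (M.comap mk) := hMp.comap_of_ker_isPGroup mk (by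
        rw [QuotientGroup.ker_mk']; exact hD.comap_subtype)
      have h1 := hcore ((M.comap mk).map L.subtype) (Subgroup.map_subtype_le _) (by
        rintro l hl _ ⟨m, hm, rfl⟩
        exact ⟨⟨l, hl⟩ * m * (⟨l, hl⟩ : L)⁻¹, (hMn.comap mk).conj_mem m hm _, rfl⟩) (hK.map _)
      refine hM0 (eq_bot_iff.2 fun q hq => Subgroup.mem_bot.2 ?_)
      obtain ⟨l, rfl⟩ := hsurj q
      exact (QuotientGroup.eq_one_iff (N := D.subgroupOf L) l).2 (Subgroup.mem_subgroupOf.2 (h1 ⟨l, hq, rfl⟩))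
    · exact e
  subst hrp
  have hMy : M = Subgroup.zpowers (mk ⟨y, hyL⟩) := by
    have hle : M ≤ (P.mapSurjective hsurj : Sylow r (L ⧸ D.subgroupOf L)) := by
      set Q := P.mapSurjective hsurj
      exact le_sup_right.trans (Q.3 (Q.isPGroup'.to_sup_of_normal_right hMp) le_sup_left).le
    have himg : ((P.mapSurjective hsurj : Sylow r (L ⧸ D.subgroupOf L)) : Subgroup _) ≤
        Subgroup.zpowers (mk ⟨y, hyL⟩) := by
      rintro _ ⟨l, hl, rfl⟩
      obtain ⟨k, hk⟩ := hpow_y l.1 (hPy.le ⟨l, hl, rfl⟩)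
      rw [show l = (⟨y, hyL⟩ : L) ^ k from Subtype.ext (by simpa using hk), map_pow]
      exact pow_mem (Subgroup.mem_zpowers _) k
    refine Subgroup.eq_of_le_of_card_ge (hle.trans himg) ?_
    obtain ⟨k, hk⟩ := IsPGroup.iff_card.1 hMp
    have hk1 : 1 ≤ k := by
      by_contra hk0
      exact hM0 (Subgroup.card_eq_one.1 (by rw [hk, show k = 0 by omega, pow_zero]))
    rw [hk, Nat.card_zpowers]
    refine le_trans (Nat.le_of_dvd hpp.pos ?_) (Nat.le_self_pow (by omega) r)
    refine orderOf_dvd_of_pow_eq_one ?_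
    rw [← map_pow, show (⟨y, hyL⟩ : L) ^ r = 1 from Subtype.ext hy, map_one]
  have hconj : ∀ g ∈ L, ∃ d ∈ D, ∃ k : ℕ, (d * g) * y * (d * g)⁻¹ = y ^ k := by
    intro g hg
    have hmem : mk ⟨g, hg⟩ * mk ⟨y, hyL⟩ * (mk ⟨g, hg⟩)⁻¹ ∈ Subgroup.zpowers (mk ⟨y, hyL⟩) :=
      hMy ▸ hMn.conj_mem _ (hMy.ge (Subgroup.mem_zpowers _)) _
    obtain ⟨k, hk⟩ := (isOfFinOrder_of_finite (mk ⟨y, hyL⟩)).mem_powers_iff_mem_zpowers.2 hmem
    have hk' : mk ((⟨y, hyL⟩ : L) ^ k) = mk (⟨g, hg⟩ * ⟨y, hyL⟩ * (⟨g, hg⟩ : L)⁻¹) := by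
      rw [map_pow, map_mul, map_mul, map_inv]; exact hk
    have hu : (y ^ k)⁻¹ * (g * y * g⁻¹) ∈ D := by
      have := Subgroup.mem_subgroupOf.1 (QuotientGroup.eq.1 hk')
      simpa using this
    have hyk1 : y ^ k ≠ 1 := by
      intro e
      rw [e, inv_one, one_mul] at hu
      have h1 := hconjD g⁻¹ (L.inv_mem hg) _ hu
      have h2 : g⁻¹ * (g * y * g⁻¹) * g⁻¹⁻¹ = y := by group
      rw [h2] at h1
      exact hy1 (by simpa using hyD 1 (by simpa using h1))
    obtain ⟨d, hd, hd'⟩ := exists_adjust h hD hpp hp2 (y' := y ^ k) (pow_mem hyL k)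
      (by rw [← pow_mul, mul_comm, pow_mul, hy, one_pow]) hyk1 hu
    exact ⟨d, hd, k, by rw [← hd']; group⟩
  -- the elements normalising `⟨y⟩`
  have hclass : ∀ f ∈ L, ∀ k : ℕ, f * y * f⁻¹ = y ^ k →
      f ∈ Subgroup.zpowers y ∨ (f * f = 1 ∧ f * y * f⁻¹ = y⁻¹) := by
    intro f hf k hk
    have hodd : ∀ q, (q = 3 ∨ q = 5) → f ^ q = 1 → f ∈ Subgroup.zpowers y := by
      intro q hq hfq
      by_cases hf1 : f = 1
      · exact hf1 ▸ Subgroup.one_mem _
      have hqp : q.Prime := by rcases hq with rfl | rfl <;> norm_num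
      haveI := Fact.mk hqp
      have hof : orderOf f = q := orderOf_eq_prime hfq hf1
      have hqr : q = r := by
        have hd : q ∣ Nat.card L := by
          rw [← hof, ← Subgroup.orderOf_mk f hf]; exact orderOf_dvd_natCard _
        exact (honly q hqp hd).resolve_left (by omega)
      subst hqr
      have hn : Subgroup.zpowers f ≤ Subgroup.normalizer (Subgroup.zpowers y : Set G) := by
        refine Subgroup.zpowers_le.2 ((Subgroup.mem_normalizer_iff_map_conj_eq).2 ?_)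
        refine Subgroup.eq_of_le_of_card_ge ?_ (card_map_conj (Subgroup.zpowers y) f).ge
        rintro _ ⟨g, hg, rfl⟩
        obtain ⟨j, rfl⟩ := hpow_y g hg
        show f * y ^ j * f⁻¹ ∈ _
        rw [← conj_pow, hk, ← pow_mul]
        exact pow_mem (Subgroup.mem_zpowers y) _
      have hpz : ∀ g : G, g ^ q = 1 → IsPGroup q (Subgroup.zpowers g) := fun g hg => by
        rintro ⟨a, n, rfl⟩
        refine ⟨1, Subtype.ext ?_⟩
        show (g ^ n) ^ (q ^ 1) = 1
        rw [pow_one, ← zpow_natCast, ← zpow_mul, mul_comm, zpow_mul, zpow_natCast, hg, one_zpow]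
      have hsup := (hpz f hfq).to_sup_of_normal_right' (hpz y hy) hn
      have hle : Subgroup.zpowers f ⊔ Subgroup.zpowers y ≤ L :=
        sup_le (Subgroup.zpowers_le.2 hf) (Subgroup.zpowers_le.2 hyL)
      obtain ⟨y', hy'mem, hy'1, he⟩ := eq_zpowers_of_act h hD hD1 hpp hp2 hsup hle (fun e => hy1 (Subgroup.mem_bot.1
        (e ▸ Subgroup.mem_sup_right (Subgroup.mem_zpowers y))))
      have h1 : Subgroup.zpowers y = Subgroup.zpowers f ⊔ Subgroup.zpowers y := by
        refine Subgroup.eq_of_le_of_card_ge le_sup_right ?_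
        rw [he, Nat.card_zpowers, Nat.card_zpowers, hyord]
        exact Nat.le_of_dvd hpp.pos (orderOf_dvd_of_pow_eq_one (h.pow_prime_of_isPGroup hp2 hsup hy'mem))
      exact h1 ▸ Subgroup.mem_sup_left (Subgroup.mem_zpowers f)
    rcases h f with e | e | e
    · by_cases hf1 : f = 1
      · exact Or.inl (hf1 ▸ Subgroup.one_mem _)
      have hff := no_order_four h hD hD1 hp hyL hy hy1 hf e hk
      exact Or.inr ⟨hff, inverts_of_fpf h hpp hp2 hff hf1 hy ⟨k, hk⟩⟩
    · exact Or.inl (hodd 3 (Or.inl rfl) e)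
    · exact Or.inl (hodd 5 (Or.inr rfl) e)
  obtain ⟨t, htL, ht2, htinv⟩ : ∃ t ∈ L, t * t = 1 ∧ t * y * t⁻¹ = y⁻¹ := by
    obtain ⟨d, hd, k, hk⟩ := hconj w hwL
    rcases hclass _ (L.mul_mem (hDL hd) hwL) k hk with hin | hin
    · exfalso
      obtain ⟨j, hj⟩ := hpow_y _ hin
      have hq : mk ⟨w, hwL⟩ = mk ((⟨y, hyL⟩ : L) ^ j) := by
        refine QuotientGroup.eq.2 (Subgroup.mem_subgroupOf.2 ?_)
        have e : w⁻¹ * y ^ j = w⁻¹ * d * w⁻¹⁻¹ := by rw [← hj]; group
        have := hconjD w⁻¹ (L.inv_mem hwL) d hd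
        rw [← e] at this
        simpa using this
      have hp1 : mk ⟨w, hwL⟩ ^ r = 1 := by
        rw [hq, ← map_pow, ← pow_mul, mul_comm, pow_mul, show (⟨y, hyL⟩ : L) ^ r = 1 from Subtype.ext hy,
          one_pow, map_one]
      have h41 : mk ⟨w, hwL⟩ ^ 4 = 1 := by
        rw [← map_pow, show (⟨w, hwL⟩ : L) ^ 4 = 1 from Subtype.ext hw4, map_one]
      have h1 := Nat.eq_one_of_dvd_coprimes
        (show (4 : ℕ).Coprime r from ((Nat.coprime_primes Nat.prime_two hpp).2 (Ne.symm hp2)).pow_left 2)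
        (orderOf_dvd_of_pow_eq_one h41) (orderOf_dvd_of_pow_eq_one hp1)
      exact hwD ((QuotientGroup.eq_one_iff (N := D.subgroupOf L) (⟨w, hwL⟩ : L)).1 (orderOf_eq_one_iff.1 h1))
    · exact ⟨_, L.mul_mem (hDL hd) hwL, hin.1, hin.2⟩
  have hti : t⁻¹ = t := inv_eq_of_mul_eq_one_right ht2
  have ht1 : t ≠ 1 := by
    intro e
    rw [e, one_mul, inv_one, mul_one] at htinv
    have h2' : y ^ 2 = 1 := by rw [pow_two]; nth_rw 1 [htinv]; exact inv_mul_cancel y
    exact hy1 (orderOf_eq_one_iff.1 (Nat.eq_one_of_dvd_coprimes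
      ((Nat.coprime_primes hpp Nat.prime_two).2 hp2) (orderOf_dvd_of_pow_eq_one hy)
      (orderOf_dvd_of_pow_eq_one h2')))
  have htnD : t ∉ D := by
    intro htD
    refine hy1 ?_
    have h1 : y * t * y⁻¹ * t⁻¹ ∈ D := D.mul_mem (hconjD y hyL t htD) (D.inv_mem htD)
    have e : y * t * y⁻¹ * t⁻¹ = y ^ 2 := by
      calc y * t * y⁻¹ * t⁻¹ = y * (t * y * t⁻¹)⁻¹ := by group
        _ = y ^ 2 := by rw [htinv, inv_inv, pow_two]
    rw [e] at h1
    exact orderOf_eq_one_iff.1 (Nat.eq_one_of_dvd_coprimes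
      ((Nat.coprime_primes hpp Nat.prime_two).2 hp2) (orderOf_dvd_of_pow_eq_one hy)
      (orderOf_dvd_of_pow_eq_one (hyD 2 h1)))
  obtain ⟨hsq, hcard, -⟩ := dihedral h hD hpp hp2 hyL hy hy1 htL ht2 htinv
  -- the elements of `L`
  have hdecomp : ∀ g ∈ L, ∃ d ∈ D, ∃ k : ℕ, g = d * y ^ k ∨ g = d * y ^ k * t := by
    intro g hg
    obtain ⟨d, hd, k, hk⟩ := hconj g hg
    rcases hclass _ (L.mul_mem (hDL hd) hg) k hk with hin | hin
    · obtain ⟨j, hj⟩ := hpow_y _ hin
      exact ⟨d⁻¹, D.inv_mem hd, j, Or.inl (by rw [← hj]; group)⟩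
    · have hc : (d * g * t) * y * (d * g * t)⁻¹ = y ^ 1 := by
        calc (d * g * t) * y * (d * g * t)⁻¹ = (d * g) * (t * y * t⁻¹) * (d * g)⁻¹ := by group
          _ = y ^ 1 := by rw [htinv, ← conj_inv, hin.2, inv_inv, pow_one]
      rcases hclass _ (L.mul_mem (L.mul_mem (hDL hd) hg) htL) 1 hc with hin' | hin'
      · obtain ⟨j, hj⟩ := hpow_y _ hin'
        refine ⟨d⁻¹, D.inv_mem hd, j, Or.inr ?_⟩
        rw [← hj, mul_assoc d⁻¹, mul_assoc (d * g), ht2, mul_one, inv_mul_cancel_left]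
      · exfalso
        rw [hc, pow_one] at hin'
        have h2' : y ^ 2 = 1 := by rw [pow_two]; nth_rw 1 [hin'.2]; exact inv_mul_cancel y
        exact hy1 (orderOf_eq_one_iff.1 (Nat.eq_one_of_dvd_coprimes
          ((Nat.coprime_primes hpp Nat.prime_two).2 hp2) (orderOf_dvd_of_pow_eq_one hy)
          (orderOf_dvd_of_pow_eq_one h2')))
  have hconjt : ∀ d ∈ D, t * d * t ∈ D := fun d hd => by
    have := hconjD t htL d hd
    rwa [hti] at this
  let S : Subgroup G :=
    { carrier := {g | g ∈ D ∨ g * t ∈ D}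
      one_mem' := Or.inl D.one_mem
      mul_mem' := by
        intro a b ha hb
        rcases ha with ha | ha <;> rcases hb with hb | hb
        · exact Or.inl (D.mul_mem ha hb)
        · exact Or.inr (by rw [mul_assoc]; exact D.mul_mem ha hb)
        · refine Or.inr ?_
          have e : a * b * t = a * t * (t * b * t) := by
            rw [← mul_assoc, ← mul_assoc, mul_assoc a t t, ht2, mul_one]
          rw [e]; exact D.mul_mem ha (hconjt b hb)
        · refine Or.inl ?_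
          have e : a * b = a * t * (t * (b * t) * t) := by
            rw [← mul_assoc, ← mul_assoc, mul_assoc a t t, ht2, mul_one, ← mul_assoc, mul_assoc (a * b), ht2, mul_one]
          rw [e]; exact D.mul_mem ha (hconjt _ hb)
      inv_mem' := by
        intro a ha
        rcases ha with ha | ha
        · exact Or.inl (D.inv_mem ha)
        · refine Or.inr ?_
          have := hconjt _ (D.inv_mem ha)
          have e : t * (a * t)⁻¹ * t = a⁻¹ * t := by rw [mul_inv_rev, hti, ← mul_assoc, ht2, one_mul]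
          rwa [e] at this }
  have hDS : D ≤ S := fun d hd => Or.inl hd
  have htS : t ∈ S := Or.inr (by rw [ht2]; exact D.one_mem)
  have hSL : S ≤ L := by
    rintro g (hg | hg)
    · exact hDL hg
    · have : g = g * t * t := by rw [mul_assoc, ht2, mul_one]
      rw [this]; exact L.mul_mem (hDL hg) htL
  have hS2 : IsPGroup 2 S := by
    rintro ⟨g, hg⟩
    refine ⟨3, Subtype.ext ?_⟩
    show g ^ 2 ^ 3 = 1
    have h1 : g ^ 2 ∈ D := by
      rw [pow_two]
      rcases hg with hg | hg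
      · exact D.mul_mem hg hg
      · have e : g * g = g * t * (t * (g * t) * t) := by
          rw [← mul_assoc, ← mul_assoc, mul_assoc g t t, ht2, mul_one, ← mul_assoc, mul_assoc (g * g), ht2, mul_one]
        rw [e]; exact D.mul_mem hg (hconjt _ hg)
    rw [show 2 ^ 3 = 2 * 4 from rfl, pow_mul]
    exact h.pow_four_of_isPGroup hD h1
  have hrel : D.relIndex S = 2 := by
    rw [Subgroup.relIndex_eq_two_iff]
    refine ⟨t, htS, fun b hb => ?_⟩
    rcases hb with hb | hb
    · refine Or.inr ⟨hb, fun h1 => htnD ?_⟩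
      have := D.mul_mem (D.inv_mem hb) h1
      rwa [inv_mul_cancel_left] at this
    · refine Or.inl ⟨hb, fun h1 => htnD ?_⟩
      have := D.mul_mem (D.inv_mem h1) hb
      rwa [inv_mul_cancel_left] at this
  have hDcomm : ∀ a ∈ D, ∀ b ∈ D, Commute a b := fun a ha b hb => by
    have hi : ∀ u ∈ D, u⁻¹ = u := fun u hu => inv_eq_of_mul_eq_one_right (hsq u hu)
    calc a * b = (a * b)⁻¹ := (hi _ (D.mul_mem ha hb)).symm
      _ = b * a := by rw [mul_inv_rev, hi a ha, hi b hb]
  have hcentr : ∀ d ∈ D, Commute d t → d ∈ Subgroup.centralizer (S : Set G) := by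
    intro d hd hc
    refine Subgroup.mem_centralizer_iff.2 fun s hs => ?_
    rcases hs with hs | hs
    · exact hDcomm s hs d hd
    · have : s = s * t * t := by rw [mul_assoc, ht2, mul_one]
      rw [this]
      exact (show Commute (s * t) d from hDcomm _ hs d hd).mul_left hc.symm
  have hZeq : D ⊓ Subgroup.centralizer (S : Set G) = D ⊓ Subgroup.centralizer ({t} : Set G) := by
    refine le_antisymm (fun d hd => ⟨hd.1, Subgroup.mem_centralizer_singleton_iff.2
      (Subgroup.mem_centralizer_iff.1 hd.2 t htS).symm⟩) fun d hd => ⟨hd.1, ?_⟩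
    exact hcentr d hd.1 (Subgroup.mem_centralizer_singleton_iff.1 hd.2)
  have htwo : 2 ≤ Nat.card (D ⊓ Subgroup.centralizer ({t} : Set G) : Subgroup G) := by
    by_contra hlt
    refine hD1 (Subgroup.card_eq_one.1 ?_)
    rw [hcard, show Nat.card (D ⊓ Subgroup.centralizer ({t} : Set G) : Subgroup G) = 1 by
      have := Nat.card_pos (α := (D ⊓ Subgroup.centralizer ({t} : Set G) : Subgroup G)); omega, one_pow]
  refine ⟨{ ord := h, simple := inferInstance, D := D, S := S, D_le := hDS, S_le := hSL, L_ne_top := hL,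
            S_two := hS2, D_sq := hsq, S_max := ?_, centr := ?_, D_card := by rw [hZeq]; exact hcard,
            two_le := by rw [hZeq]; exact htwo, s_le := by rw [hrel, hZeq]; exact htwo,
            ne_DS := fun e => htnD (e ▸ htS) }, hrel, t, htS, htnD, ht2⟩
  · intro T hST hTL hT
    refine le_antisymm (fun g hg => ?_) hST
    obtain ⟨d, hd, k, hk⟩ := hdecomp g (hTL hg)
    have hykT : y ^ k ∈ T := by
      rcases hk with e | e
      · have := T.mul_mem (T.inv_mem (hST (hDS hd))) hg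
        rwa [e, inv_mul_cancel_left] at this
      · have := T.mul_mem (T.mul_mem (T.inv_mem (hST (hDS hd))) hg) (T.inv_mem (hST htS))
        rw [e] at this
        simpa [mul_assoc] using this
    have hyk : y ^ k = 1 := orderOf_eq_one_iff.1 (Nat.eq_one_of_dvd_coprimes
      (show (4 : ℕ).Coprime r from ((Nat.coprime_primes Nat.prime_two hpp).2 (Ne.symm hp2)).pow_left 2)
      (orderOf_dvd_of_pow_eq_one (h.pow_four_of_isPGroup hT hykT))
      (orderOf_dvd_of_pow_eq_one (by rw [← pow_mul, mul_comm, pow_mul, hy, one_pow])))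
    rw [hyk, mul_one] at hk
    rcases hk with rfl | rfl
    · exact hDS hd
    · exact S.mul_mem (hDS hd) htS
  · intro x hx hxD d hd hc
    refine hcentr d hd ?_
    rcases hx with hx | hx
    · exact absurd hx hxD
    · have h1 : Commute d ((x * t)⁻¹ * x) := (hDcomm d hd _ (D.inv_mem hx)).mul_right hc
      rw [mul_inv_rev, inv_mul_cancel_right, hti] at h1
      exact h1

end Cfsg.Agent.Orders5
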