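import Cfsg.Agent.Lib.Orders5.TI
import Cfsg.Agent.Lib.Orders5.Count
import Cfsg.Agent.Lib.Orders5.A5Frame
import Cfsg.Agent.Lib.Orders5.SolvableLocal
import Cfsg.Agent.Lib.OrthOuter.Recognise
import Cfsg.Agent.S0848
import Cfsg.Agent.S0494
import Cfsg.Agent.S0497

/-
Simple groups with element orders at most five are `A₅` and `A₆`, granted the structure of their proper
non-solvable subgroups.

* `simple_cases`
-/

set_option autoImplicit false

namespace Cfsg.Agent.Orders5

/-- The conclusion of the classification. -/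
def Shape (G : Type*) [Group G] : Prop :=
  Nonempty (G ≃* alternatingGroup (Fin 6)) ∨
    ∃ π : G →* A5.Alt, Function.Surjective π ∧ IsPGroup 2 π.ker

variable {G : Type*} [Group G] [Finite G]

/-- The dihedral centraliser case. -/
theorem card_of_dihedral [IsSimpleGroup G] (hns : ¬ Group.IsSolvable G) (E : Local G)
    (h2 : E.D.relIndex E.S = 2) (hZ : Nat.card E.Z = 2) {v : G} (hv : v ∈ E.S) (hvD : v ∉ E.D)
    (hv2 : v * v = 1) : Nat.card G = 360 := by
  haveI : Fact (Nat.Prime 2) := ⟨Nat.prime_two⟩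
  have hD4 : Nat.card E.D = 4 := by
    have h := E.D_card
    rw [show Nat.card (E.D ⊓ Subgroup.centralizer (E.S : Set G) : Subgroup G) = 2 from hZ] at h
    omega
  have hS8 : Nat.card E.S = 8 := by
    have h := Subgroup.card_mul_index (E.D.subgroupOf E.S)
    rw [Nat.card_congr (Subgroup.subgroupOfEquivOfLe E.D_le).toEquiv,
      show (E.D.subgroupOf E.S).index = E.D.relIndex E.S from rfl, h2, hD4] at h
    omega
  obtain ⟨z, hz⟩ := @exists_ne _ (Finite.one_lt_card_iff_nontrivial.1 (by omega : 1 < Nat.card E.Z)) (1 : E.Z)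
  have hz1 : (z : G) ≠ 1 := fun e => hz (Subtype.ext e)
  have hzD : (z : G) ∈ E.D := z.2.1
  obtain ⟨d, hd, hdZ⟩ := Local.not_mem_of_lt E.Z_lt_D
  obtain ⟨e⟩ := OrthOuter.nonempty_dihedral (Q := E.S) hS8 (u := ⟨z, E.D_le hzD⟩) (v := ⟨v, hv⟩)
    (x := ⟨d, E.D_le hd⟩) (y := ⟨v, hv⟩) (Subtype.ext (E.D_sq _ hzD)) (Subtype.ext hv2)
    (fun e => hz1 (congrArg Subtype.val e)) (fun e => hvD (by
      rw [show v = 1 from congrArg Subtype.val e]; exact E.D.one_mem))
    (fun e => hvD (by rw [← show (z : G) = v from congrArg Subtype.val e]; exact hzD))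
    (fun e => hdZ (E.mem_Z_of_commute hv hvD hd (congrArg Subtype.val e : d * v = v * d)))
  have hperf : commutator G = ⊤ := by
    rcases (inferInstance : (commutator G).Normal).eq_bot_or_eq_top with h | h
    · refine absurd ?_ hns
      have : Subgroup.center G = ⊤ := (commutator_eq_bot_iff_center_eq_top G).1 h
      exact Group.isSolvable_of_comm fun a b => (Subgroup.mem_center_iff.1 (this ▸ Subgroup.mem_top b) a)
    · exact h
  have ho : orderOf (z : G) = 2 := orderOf_eq_prime (by rw [pow_two]; exact E.D_sq _ hzD) hz1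
  rcases S0848.result hperf (z : G) ho ((MulEquiv.subgroupCongr (E.centralizer_eq z.2 hz1)).trans e) with h | h
  · exfalso
    rcases E.ord.prime_cases (p := 7) (by norm_num) (by rw [h]; norm_num) with h' | h' | h' <;> omega
  · exact h

/-- Simple groups with element orders at most five. -/
theorem simple_cases [IsSimpleGroup G] (h : Ord5 G) (hns : ¬ Group.IsSolvable G)
    (IH : ∀ H : Subgroup G, H ≠ ⊤ → ¬ Group.IsSolvable H → Shape H) :
    Nat.card G = 60 ∨ Nat.card G = 360 := by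
  classical
  haveI : Fact (Nat.Prime 2) := ⟨Nat.prime_two⟩
  by_cases hti : ∀ S T : Sylow 2 G, S ≠ T → (S : Subgroup G) ⊓ (T : Subgroup G) = ⊥
  · exact Or.inl (card_sixty h hns hti)
  refine Or.inr ?_
  push Not at hti
  obtain ⟨S₀, T₀, hne₀, hST₀⟩ := hti
  haveI : Nonempty {q : Sylow 2 G × Sylow 2 G // q.1 ≠ q.2} := ⟨⟨(S₀, T₀), hne₀⟩⟩
  obtain ⟨⟨⟨S, T⟩, hne⟩, hmax⟩ := Finite.exists_max fun q : {q : Sylow 2 G × Sylow 2 G // q.1 ≠ q.2} =>
    Nat.card ((q.1.1 : Subgroup G) ⊓ (q.1.2 : Subgroup G) : Subgroup G)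
  set D : Subgroup G := (S : Subgroup G) ⊓ (T : Subgroup G) with hDdef
  have hD : IsPGroup 2 D := S.2.to_le inf_le_left
  have hD1 : D ≠ ⊥ := by
    intro e
    have h1 := hmax ⟨(S₀, T₀), hne₀⟩
    rw [show Nat.card ((S : Subgroup G) ⊓ (T : Subgroup G) : Subgroup G) = 1 by
      rw [← hDdef, e, Subgroup.card_bot]] at h1
    exact hST₀ (Subgroup.card_eq_one.1 (le_antisymm h1 Nat.card_pos))
  set L := Subgroup.normalizer (D : Set G) with hLdef
  have hL : L ≠ ⊤ := by
    intro e
    rcases (Subgroup.normalizer_eq_top_iff.1 e).eq_bot_or_eq_top with hb | hb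
    · exact hD1 hb
    · refine hns ?_
      have hp : IsPGroup 2 G := (hb ▸ hD : IsPGroup 2 (⊤ : Subgroup G)).of_equiv Subgroup.topEquiv
      haveI := hp.isNilpotent
      infer_instance
  have hgrow : ∀ U : Sylow 2 G, D ≤ (U : Subgroup G) → D ≠ (U : Subgroup G) →
      ∃ w ∈ (U : Subgroup G), w ∉ D ∧ w ∈ L := fun U hle hne' => exists_normalizing hle U.2 hne'
  have hDneS : D ≠ (S : Subgroup G) := fun e =>
    hne (Sylow.ext (S.3 T.2 (e.ge.trans (inf_le_right : D ≤ (T : Subgroup G))))).symm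
  have hDneT : D ≠ (T : Subgroup G) := fun e =>
    hne (Sylow.ext (T.3 S.2 (e.ge.trans (inf_le_left : D ≤ (S : Subgroup G)))))
  have hcore : ∀ M : Subgroup G, M ≤ L → (∀ l ∈ L, ∀ m ∈ M, l * m * l⁻¹ ∈ M) → IsPGroup 2 M → M ≤ D := by
    intro M hML hMn hM2
    have key : ∀ U : Sylow 2 G, D ≤ (U : Subgroup G) → D ≠ (U : Subgroup G) → M ≤ (U : Subgroup G) := by
      intro U hle hne'
      have hN : (U : Subgroup G) ⊓ L ≤ Subgroup.normalizer (M : Set G) := fun l hl =>
        Subgroup.mem_normalizer_iff.2 fun m => ⟨fun hm => hMn l hl.2 m hm, fun hm => by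
          have := hMn l⁻¹ (L.inv_mem hl.2) _ hm
          simpa [mul_assoc] using this⟩
      have hp := (U.2.to_le (inf_le_left : (U : Subgroup G) ⊓ L ≤ U)).to_sup_of_normal_right' hM2 hN
      obtain ⟨V, hV⟩ := hp.exists_le_sylow
      by_contra hMU
      have hUV : U ≠ V := fun e => hMU (e ▸ le_sup_right.trans hV)
      have hle2 : (U : Subgroup G) ⊓ L ≤ (U : Subgroup G) ⊓ V := le_inf inf_le_left (le_sup_left.trans hV)
      have h1 := hmax ⟨(U, V), hUV⟩
      have h2 := Subgroup.card_le_of_le hle2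
      obtain ⟨w, hwU, hwD, hwL⟩ := hgrow U hle hne'
      have h3 : Nat.card D < Nat.card ((U : Subgroup G) ⊓ L : Subgroup G) := by
        by_contra hlt
        push Not at hlt
        exact hwD ((Subgroup.eq_of_le_of_card_ge (le_inf hle Subgroup.le_normalizer) hlt).ge ⟨hwU, hwL⟩)
      have h4 : Nat.card ((U : Subgroup G) ⊓ V : Subgroup G) ≤ Nat.card D := h1
      omega
    exact le_inf (key S inf_le_left hDneS) (key T inf_le_right hDneT)
  obtain ⟨w, hwS, hwD, hwL⟩ := hgrow S inf_le_left hDneS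
  have hw4 := h.pow_four_of_isPGroup S.2 hwS
  by_cases hsol : Group.IsSolvable L
  · obtain ⟨E, hE2, v, hv, hvD, hv2⟩ := local_of_solvable h hD hD1 hL hcore ⟨w, hwL, hwD, hw4⟩
    have hs := (E.square hv hvD hv2).1
    rw [hE2] at hs
    exact card_of_dihedral hns E hE2 hs.symm hv hvD hv2
  exfalso
  have hDL : D ≤ L := Subgroup.le_normalizer
  haveI hDn : (D.subgroupOf L).Normal :=
    ⟨fun d hd l => Subgroup.mem_subgroupOf.2 ((Subgroup.mem_normalizer_iff.1 l.2 d).1 hd)⟩
  rcases IH L hL hsol with ⟨⟨e⟩⟩ | ⟨π, hπ, hker2⟩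
  · haveI : IsSimpleGroup (alternatingGroup (Fin 6)) := alternatingGroup.isSimpleGroup (by simp)
    haveI : IsSimpleGroup L := (e.isSimpleGroup_congr).2 inferInstance
    rcases hDn.eq_bot_or_eq_top with hb | hb
    · exact hD1 (eq_bot_iff.2 fun d hd => by
        have : (⟨d, hDL hd⟩ : L) ∈ (⊥ : Subgroup L) := hb ▸ Subgroup.mem_subgroupOf.2 hd
        exact Subgroup.mem_bot.2 (congrArg Subtype.val (Subgroup.mem_bot.1 this)))
    · exact hwD (Subgroup.subgroupOf_eq_top.1 hb hwL)
  have hker : π.ker = D.subgroupOf L := by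
    refine le_antisymm (fun l hl => ?_) ?_
    · refine Subgroup.mem_subgroupOf.2 (hcore (π.ker.map L.subtype) (Subgroup.map_subtype_le _) ?_
        (hker2.map _) ⟨l, hl, rfl⟩)
      rintro l hl _ ⟨m, hm, rfl⟩
      exact ⟨⟨l, hl⟩ * m * (⟨l, hl⟩ : L)⁻¹, (inferInstance : π.ker.Normal).conj_mem m hm _, rfl⟩
    · haveI : IsSimpleGroup A5.Alt := alternatingGroup.isSimpleGroup (by simp)
      rcases (hDn.map π hπ).eq_bot_or_eq_top with hb | hb
      · exact (Subgroup.map_eq_bot_iff _).1 hb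
      · exfalso
        have h5 : IsPGroup 2 ((D.subgroupOf L).map π) := hD.comap_subtype.map π
        rw [hb] at h5
        obtain ⟨k, hk⟩ := IsPGroup.iff_card.1 h5
        rw [Subgroup.card_top, A5.card_alt] at hk
        exact absurd (Nat.prime_three.dvd_of_dvd_pow (show 3 ∣ 2 ^ k from hk ▸ (by norm_num))) (by norm_num)
  obtain ⟨U, hDU, hUL, hU2, hrel, hsq, hcentr, hDcard, h5, ⟨v, hvU, hvD, hv2⟩, hUmax, hLcard, -⟩ :=
    frame h hDL le_rfl hD hD1 π hπ hker
  have hZ2 : 2 ≤ Nat.card (D ⊓ Subgroup.centralizer (U : Set G) : Subgroup G) := by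
    by_contra hlt
    refine hD1 (Subgroup.card_eq_one.1 ?_)
    rw [hDcard, show Nat.card (D ⊓ Subgroup.centralizer (U : Set G) : Subgroup G) = 1 by
      have := Nat.card_pos (α := (D ⊓ Subgroup.centralizer (U : Set G) : Subgroup G)); omega, one_pow]
  have hZ4 : 4 ≤ Nat.card (D ⊓ Subgroup.centralizer (U : Set G) : Subgroup G) := by
    obtain ⟨k, hk⟩ := IsPGroup.iff_card.1 (hD.to_le (inf_le_left : D ⊓ Subgroup.centralizer (U : Set G) ≤ D))
    by_contra hlt
    rw [hDcard, hk] at h5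
    rw [hk] at hlt hZ2
    obtain rfl : k = 1 := by
      rcases k with _ | _ | k
      · norm_num at hZ2
      · rfl
      · exact absurd (Nat.pow_le_pow_right (show 1 ≤ 2 by norm_num) (show 2 ≤ k + 1 + 1 by omega)) (by norm_num; omega)
    norm_num at h5
  let E : Local G :=
    { ord := h, simple := inferInstance, D := D, S := U, D_le := hDU, S_le := hUL, L_ne_top := hL,
      S_two := hU2, D_sq := hsq, S_max := hUmax, centr := hcentr, D_card := hDcard, two_le := hZ2,
      s_le := hrel ▸ hZ4,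
      ne_DS := fun e => hvD (e.ge hvU) }
  have hs : D.relIndex U = Nat.card E.Z := (E.square hvU hvD hv2).1
  rw [hrel] at hs
  refine Count.false_of_fused E hs.symm hns ?_ hvU hvD hv2
  -- `L` is transitive on `D#`
  obtain ⟨z, hz⟩ := @exists_ne _ (Finite.one_lt_card_iff_nontrivial.1 (by omega : 1 < Nat.card E.Z)) (1 : E.Z)
  have hz1 : (z : G) ≠ 1 := fun e => hz (Subtype.ext e)
  let f : L ⧸ (U.subgroupOf L) → {d : G // d ∈ D ∧ d ≠ 1} :=
    Quotient.lift (fun l : L => (⟨(l : G) * z * (l : G)⁻¹, (Subgroup.mem_normalizer_iff.1 l.2 _).1 z.2.1,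
      fun e => hz1 (conj_eq_one_iff.1 e)⟩ : {d : G // d ∈ D ∧ d ≠ 1})) fun a b hab => by
        have h1 := Subgroup.mem_subgroupOf.1 (QuotientGroup.leftRel_apply.1 hab)
        rw [Subgroup.coe_mul, Subgroup.coe_inv] at h1
        refine Subtype.ext ?_
        show (a : G) * z * (a : G)⁻¹ = b * z * (b : G)⁻¹
        calc (a : G) * z * (a : G)⁻¹ = a * (((a : G)⁻¹ * b) * z * ((a : G)⁻¹ * b)⁻¹) * (a : G)⁻¹ := by
              rw [(E.Z_central z.2 h1).eq, mul_inv_cancel_right]
          _ = b * z * (b : G)⁻¹ := by group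
  have hf : Function.Injective f := by
    intro a b
    refine Quotient.inductionOn₂ a b fun a b e => Quotient.sound (QuotientGroup.leftRel_apply.2 ?_)
    have e' : (a : G) * z * (a : G)⁻¹ = b * z * (b : G)⁻¹ := congrArg Subtype.val e
    refine Subgroup.mem_subgroupOf.2 (E.mem_S_of_commute z.2 hz1 ?_)
    rw [Subgroup.coe_mul, Subgroup.coe_inv]
    show (a : G)⁻¹ * b * z = z * ((a : G)⁻¹ * b)
    calc (a : G)⁻¹ * b * z = (a : G)⁻¹ * (b * z * (b : G)⁻¹) * b := by group
      _ = z * ((a : G)⁻¹ * b) := by rw [← e']; group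
  have hD16 : Nat.card D = 16 := by
    rw [hDcard, show Nat.card (D ⊓ Subgroup.centralizer (U : Set G) : Subgroup G) = 4 from hs.symm]
    norm_num
  have hUcard : Nat.card U = 64 := by
    have h1 := Subgroup.card_mul_index (D.subgroupOf U)
    rw [Nat.card_congr (Subgroup.subgroupOfEquivOfLe hDU).toEquiv,
      show (D.subgroupOf U).index = D.relIndex U from rfl, hrel, hD16] at h1
    omega
  have hbij : Function.Bijective f := by
    refine (Nat.bijective_iff_injective_and_card f).2 ⟨hf, ?_⟩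
    have h1 := Subgroup.card_mul_index (U.subgroupOf L)
    rw [Nat.card_congr (Subgroup.subgroupOfEquivOfLe hUL).toEquiv, hUcard, hLcard, hD16] at h1
    rw [← Subgroup.index_eq_card]
    have h2 : Nat.card {d : G // d ∈ D ∧ d ≠ 1} = 15 := by
      show Nat.card ((D : Set G) \ {1} : Set G) = 15
      rw [Nat.card_coe_set_eq, Set.ncard_sdiff_singleton_of_mem (show (1 : G) ∈ (D : Set G) from D.one_mem),
        ← Nat.card_coe_set_eq]
      simp only [SetLike.coe_sort_coe, hD16]
    omega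
  intro d hd hd1 d' hd' hd'1
  obtain ⟨a, ha⟩ := hbij.2 ⟨d, hd, hd1⟩
  obtain ⟨b, hb⟩ := hbij.2 ⟨d', hd', hd'1⟩
  induction a using Quotient.inductionOn with | _ a => ?_
  induction b using Quotient.inductionOn with | _ b => ?_
  refine ⟨(b : G) * (a : G)⁻¹, ?_⟩
  rw [← show (a : G) * z * (a : G)⁻¹ = d from congrArg Subtype.val ha,
    ← show (b : G) * z * (b : G)⁻¹ = d' from congrArg Subtype.val hb]
  group

end Cfsg.Agent.Orders5
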