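import Cfsg.Agent.Lib.Orders5.Local
import Cfsg.Agent.Lib.CentralizerTI.Simple

/-
A simple group with element orders at most five and TI Sylow 2-subgroups has order 60.

* `card_sixty`
-/

set_option autoImplicit false

open MulAction

namespace Cfsg.Agent.Orders5

open CentralizerTI

variable {G : Type*} [Group G] [Finite G]

theorem two_pow_succ_three {w j : ℕ} (h : 2 ^ w = 3 ^ j + 1) : w ≤ 2 := by
  by_contra hw
  push Not at hw
  have h8 : (3 ^ j + 1) % 8 = 0 := by
    rw [← h]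
    exact Nat.mod_eq_zero_of_dvd (dvd_trans (by norm_num : (8 : ℕ) ∣ 2 ^ 3) (pow_dvd_pow 2 hw))
  have h3 : 3 ^ j % 8 = 1 ∨ 3 ^ j % 8 = 3 := by
    clear h h8
    induction j with
    | zero => simp
    | succ j ih =>
      rcases ih with e | e <;> rw [pow_succ, Nat.mul_mod, e] <;> norm_num
  omega

theorem two_pow_succ_five {w j : ℕ} (h : 2 ^ w = 5 ^ j + 1) : w ≤ 1 := by
  by_contra hw
  push Not at hw
  have h4 : (5 ^ j + 1) % 4 = 0 := by
    rw [← h]
    exact Nat.mod_eq_zero_of_dvd (dvd_trans (by norm_num : (4 : ℕ) ∣ 2 ^ 2) (pow_dvd_pow 2 hw))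
  have h5 : 5 ^ j % 4 = 1 := by simp [Nat.pow_mod]
  omega

theorem five_pow_eq {i c : ℕ} (h : 5 ^ c = 2 ^ i + 1) : i ≤ 2 := by
  by_contra hi
  push Not at hi
  have h8 : 5 ^ c % 8 = 1 := by
    rw [h, Nat.add_mod, Nat.mod_eq_zero_of_dvd (dvd_trans (by norm_num : (8 : ℕ) ∣ 2 ^ 3) (pow_dvd_pow 2 hi))]
  obtain ⟨d, rfl⟩ : ∃ d, c = 2 * d := by
    refine ⟨c / 2, ?_⟩
    by_contra hne
    have e : c = 2 * (c / 2) + 1 := by omega
    rw [e, pow_succ, pow_mul, Nat.mul_mod, Nat.pow_mod] at h8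
    norm_num at h8
  have h3 : 5 ^ (2 * d) % 3 = 1 := by rw [pow_mul, Nat.pow_mod]; norm_num
  have h3' : (3 : ℕ) ∣ 2 ^ i := Nat.dvd_of_mod_eq_zero (by omega)
  exact absurd (Nat.prime_three.dvd_of_dvd_pow h3') (by norm_num)

/-- A simple group with element orders at most five and TI Sylow 2-subgroups has order 60. -/
theorem card_sixty [IsSimpleGroup G] (h : Ord5 G) (hns : ¬ Group.IsSolvable G)
    (hti : ∀ S T : Sylow 2 G, S ≠ T → (S : Subgroup G) ⊓ (T : Subgroup G) = ⊥) : Nat.card G = 60 := by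
  classical
  haveI : Fact (Nat.Prime 2) := ⟨Nat.prime_two⟩
  obtain ⟨h2, h3, h5⟩ := h.dvd_of_not_solvable hns
  obtain ⟨S⟩ := (inferInstance : Nonempty (Sylow 2 G))
  haveI : Nontrivial (S : Subgroup G) := Finite.one_lt_card_iff_nontrivial.1
    (lt_of_lt_of_le one_lt_two (Nat.le_of_dvd Nat.card_pos (S.dvd_card_of_dvd_card h2)))
  haveI := S.2.center_nontrivial
  obtain ⟨z₀, hz₀⟩ := exists_prime_orderOf_dvd_card' (G := Subgroup.center (S : Subgroup G)) 2 (by
    obtain ⟨n, hn⟩ := IsPGroup.iff_card.1 (S.2.to_subgroup (Subgroup.center (S : Subgroup G)))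
    have h1 := Finite.one_lt_card (α := Subgroup.center (S : Subgroup G))
    rw [hn] at h1 ⊢
    exact dvd_pow_self 2 (by rintro rfl; simp at h1))
  set z : G := ((z₀ : (S : Subgroup G)) : G) with hzdef
  have hz2 : z * z = 1 := by
    have := pow_orderOf_eq_one z
    rwa [show orderOf z = 2 by rw [hzdef, Subgroup.orderOf_coe, Subgroup.orderOf_coe, hz₀], pow_two] at this
  have hz1 : z ≠ 1 := fun e => by
    have h1 : orderOf z = 2 := by rw [hzdef, Subgroup.orderOf_coe, Subgroup.orderOf_coe, hz₀]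
    rw [e, orderOf_one] at h1
    omega
  have hSC : (S : Subgroup G) ≤ Subgroup.centralizer ({z} : Set G) := fun s hs =>
    Subgroup.mem_centralizer_singleton_iff.2
      (congrArg Subtype.val (Subgroup.mem_center_iff.1 z₀.2 ⟨s, hs⟩) : s * z = z * s)
  have hA : Subgroup.centralizer ({z} : Set G) = (S : Subgroup G) :=
    S.3 (h.centralizer_isPGroup (pow_four_of_sq hz2) hz1) hSC
  have hAtop : Subgroup.centralizer ({z} : Set G) ≠ ⊤ := by
    intro e
    refine hns ?_
    have hp : IsPGroup 2 G := isPGroup_two_of_pow_four (fun g _ => h.pow_four_of_isPGroup S.2 (by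
      rw [← hA, e]; exact Subgroup.mem_top g) : ∀ g ∈ (⊤ : Subgroup G), g ^ 4 = 1) |>.of_equiv
      Subgroup.topEquiv
    haveI := hp.isNilpotent
    infer_instance
  have htiN : ∀ x ∈ (S : Subgroup G), x ≠ 1 → ∀ g : G, g * x * g⁻¹ ∈ (S : Subgroup G) →
      g ∈ Subgroup.normalizer ((S : Subgroup G) : Set G) := by
    intro x hx hx1 g hgx
    by_contra hg
    have hne : S ≠ g • S := fun e => hg (Subgroup.mem_normalizer_iff_map_conj_eq.2
      (congrArg (fun T : Sylow 2 G => (T : Subgroup G)) e).symm)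
    have h1 : g * x * g⁻¹ ∈ (S : Subgroup G) ⊓ ((g • S : Sylow 2 G) : Subgroup G) := ⟨hgx, ⟨x, hx, rfl⟩⟩
    rw [hti S _ hne, Subgroup.mem_bot] at h1
    exact hx1 (conj_eq_one_iff.1 h1)
  have hcent : ∀ x ∈ (S : Subgroup G), x ≠ 1 → ∀ g : G, Commute g x → g ∈ (S : Subgroup G) := by
    intro x hx hx1 g hg
    have hx4 := h.pow_four_of_isPGroup S.2 hx
    obtain ⟨T, hT⟩ := (h.centralizer_isPGroup hx4 hx1).exists_le_sylow
    by_cases e : S = T
    · exact e ▸ hT (Subgroup.mem_centralizer_singleton_iff.2 hg.eq)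
    · have h1 : x ∈ (S : Subgroup G) ⊓ (T : Subgroup G) :=
        ⟨hx, hT (Subgroup.mem_centralizer_singleton_iff.2 rfl)⟩
      rw [hti S T e, Subgroup.mem_bot] at h1
      exact absurd h1 hx1
  let E : Setup G :=
    { simple := inferInstance, z := z, z_inv := ⟨hz1, hz2⟩, A_ne_top := hAtop
      cent_le := by rw [hA]; exact hcent
      ti_field := by rw [hA]; exact htiN
      hall_field := by rw [hA]; exact S.card_coprime_index
      exists_outer := by
        rw [hA]
        by_contra hcon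
        push Not at hcon
        have hAtop' : (S : Subgroup G) ≠ ⊤ := hA ▸ hAtop
        have hzS : z ∈ (S : Subgroup G) := hA ▸ Subgroup.mem_centralizer_singleton_iff.2 rfl
        have hF : Cfsg.IsFrobeniusComplement (S : Subgroup G) := by
          refine ⟨fun e => hz1 (Subgroup.mem_bot.1 (e ▸ hzS)), hAtop', fun g hg => ?_⟩
          refine (eq_bot_iff).2 fun y hy => ?_
          obtain ⟨hy1, x, hx, hxy⟩ := hy
          by_contra hy0
          rw [Subgroup.mem_bot] at hy0
          refine hg (hcon g (htiN x hx (fun e => hy0 (by rw [← hxy, e]; exact map_one (MulAut.conj g))) g ?_))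
          have : g * x * g⁻¹ = y := hxy
          rw [this]; exact hy1
        have hc := Frobenius.frobKernel_isComplement hF
        haveI := Frobenius.frobKernel_normal hF
        rcases (Frobenius.frobKernel_normal hF).eq_bot_or_eq_top with hk | hk
        · exact Frobenius.frobKernel_ne_bot hF hk
        · rw [hk, Subgroup.isComplement'_top_left] at hc
          exact hF.1 hc }
  obtain ⟨b, hb⟩ := E.exists_ne_pt
  have hkD := E.card_D hb
  have hk2 := E.two_le_k
  have hkodd := E.odd_k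
  haveI : Nontrivial (E.D b) := Finite.one_lt_card_iff_nontrivial.1 (by omega)
  obtain ⟨d, hd⟩ := exists_ne (1 : E.D b)
  have hd1 : (d : G) ≠ 1 := fun e => hd (Subtype.ext e)
  -- `k` is an odd prime power
  obtain ⟨p, hp, hdp⟩ : ∃ p, (p = 3 ∨ p = 5) ∧ (d : G) ^ p = 1 := by
    rcases h d with e | e | e
    · exfalso
      obtain ⟨j, hj⟩ := hkodd
      have hk : (d : G) ^ E.k = 1 := by
        rw [← hkD]; exact congrArg Subtype.val (pow_card_eq_one' (x := d))
      exact hd1 (orderOf_eq_one_iff.1 (Nat.eq_one_of_dvd_coprimes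
        (Nat.Coprime.pow_left 2 (Nat.coprime_two_left.2 ⟨j, hj⟩) : (2 ^ 2).Coprime E.k)
        (orderOf_dvd_of_pow_eq_one e) (orderOf_dvd_of_pow_eq_one hk)))
    · exact ⟨3, Or.inl rfl, e⟩
    · exact ⟨5, Or.inr rfl, e⟩
  have hpp : p.Prime := by rcases hp with rfl | rfl <;> norm_num
  haveI : Fact p.Prime := ⟨hpp⟩
  obtain ⟨j, hj⟩ : ∃ j, E.k = p ^ j := by
    rw [← hkD]
    refine IsPGroup.iff_card.1 fun c => ⟨1, Subtype.ext ?_⟩
    have hc : Commute (c : G) d := E.D_comm hb c.2 d.2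
    rcases hp with rfl | rfl
    · simpa using h.comm_three hdp hd1 hc
    · simpa using h.comm_five hdp hd1 hc
  -- `|W| = k + 1`
  have hWS : E.W ≤ (S : Subgroup G) := fun w hw => hA ▸ hw.1
  obtain ⟨w, hw⟩ := IsPGroup.iff_card.1 (S.2.to_le hWS)
  rw [E.card_W] at hw
  have hk3 : E.k = 3 := by
    rcases hp with rfl | rfl
    · have hw2 := two_pow_succ_three (w := w) (j := j) (by omega)
      interval_cases w <;> omega
    · have hw1 := two_pow_succ_five (w := w) (j := j) (by omega)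
      interval_cases w <;> omega
  -- orders
  obtain ⟨i, hi⟩ := IsPGroup.iff_card.1 S.2
  have hAcard : Nat.card E.A = 2 ^ i := by rw [show E.A = (S : Subgroup G) from hA, hi]
  have hn := E.card_Ω.1
  have hNcard : Nat.card E.N = 2 ^ i * 3 := by
    have h1 := Subgroup.card_mul_index (E.A.subgroupOf E.N)
    rw [Nat.card_congr (Subgroup.subgroupOfEquivOfLe E.A_le_N).toEquiv, hAcard,
      show (E.A.subgroupOf E.N).index = E.A.relIndex E.N from rfl, E.relIndex_A, hk3] at h1
    exact h1.symm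
  have hG : Nat.card G = 2 ^ i * 3 * (2 ^ i + 1) := by
    rw [← Subgroup.card_mul_index E.N, hNcard, Subgroup.index_eq_card, hn, hAcard]
  -- the Sylow 3-subgroup has order 3
  haveI : Fact (Nat.Prime 3) := ⟨Nat.prime_three⟩
  have hd3 : (d : G) ^ 3 = 1 := by
    rw [← hk3, ← hkD]; exact congrArg Subtype.val (pow_card_eq_one' (x := d))
  have h9 : ¬ 3 ∣ 2 ^ i + 1 := by
    intro hdvd
    have hzp : IsPGroup 3 (Subgroup.zpowers (d : G)) := by
      rintro ⟨a, n, rfl⟩
      refine ⟨1, Subtype.ext ?_⟩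
      show ((d : G) ^ n) ^ (3 ^ 1) = 1
      rw [pow_one, ← zpow_natCast, ← zpow_mul, mul_comm, zpow_mul, zpow_natCast, hd3, one_zpow]
    obtain ⟨P, hP⟩ := hzp.exists_le_sylow
    have hdP : (d : G) ∈ (P : Subgroup G) := hP (Subgroup.mem_zpowers _)
    haveI : Nontrivial (P : Subgroup G) := ⟨⟨d, hdP⟩, 1, fun e => hd1 (congrArg Subtype.val e)⟩
    haveI := P.2.center_nontrivial
    obtain ⟨c, hc⟩ := exists_ne (1 : Subgroup.center (P : Subgroup G))
    have hc1 : ((c : (P : Subgroup G)) : G) ≠ 1 := fun e => hc (Subtype.ext (Subtype.ext e))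
    have hcP : ∀ y ∈ (P : Subgroup G), Commute y ((c : (P : Subgroup G)) : G) := fun y hy =>
      congrArg Subtype.val (Subgroup.mem_center_iff.1 c.2 ⟨y, hy⟩)
    have hcD : ((c : (P : Subgroup G)) : G) ∈ E.D b := E.centralizer_D hb d.2 hd1 (hcP d hdP).symm
    have hPD : (P : Subgroup G) ≤ E.D b := fun y hy => E.centralizer_D hb hcD hc1 (hcP y hy)
    have h1 := Subgroup.card_le_of_le hPD
    rw [hkD, hk3, Sylow.card_eq_multiplicity P] at h1
    have h9 : 3 ^ 2 ∣ Nat.card G := by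
      rw [hG]
      obtain ⟨q, hq⟩ := hdvd
      exact ⟨2 ^ i * q, by rw [hq]; ring⟩
    have h2 := ((Nat.Prime.pow_dvd_iff_le_factorization Nat.prime_three Nat.card_pos.ne').1 h9)
    have : 3 ^ 2 ≤ 3 ^ (Nat.card G).factorization 3 := Nat.pow_le_pow_right (by norm_num) h2
    omega
  have hi2 : 2 ≤ i := by
    have h1 := Subgroup.card_le_of_le hWS
    rw [E.card_W, hk3, hi] at h1
    by_contra hlt
    interval_cases i <;> omega
  have hodd : ¬ 2 ∣ 2 ^ i + 1 := by
    have : 2 ∣ 2 ^ i := dvd_pow_self 2 (by omega)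
    omega
  obtain ⟨c, hc⟩ : ∃ c, 2 ^ i + 1 = 5 ^ c := by
    refine ⟨_, Nat.eq_prime_pow_of_unique_prime_dvd (p := 5) (by positivity) fun {r} hr hrd => ?_⟩
    rcases h.prime_cases hr (hG ▸ hrd.mul_left _) with rfl | rfl | rfl
    · exact absurd hrd hodd
    · exact absurd hrd h9
    · rfl
  have hi' := five_pow_eq hc.symm
  obtain rfl : i = 2 := by omega
  rw [hG]
  norm_num

end Cfsg.Agent.Orders5
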