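import Cfsg.Agent.S1475
import Cfsg.Agent.S3992
import Cfsg.Agent.Lib.Linear.PSLTwoSmall
import Cfsg.Agent.Lib.PSL2.Elements
import Cfsg.Agent.Lib.GLOrder.Torus
import Cfsg.Agent.Lib.GLOrder.Basic
import Cfsg.Agent.Lib.Suzuki.Stabilizer
import Cfsg.Agent.Lib.Suzuki.LieModel
import Cfsg.Prelude

/-
Groups all of whose element orders are powers of two or primes other than five.

* `TwoSeven.classify` : with at least three prime divisors such a group is `PSL₂(7)`, given the list of
  simple groups all of whose elements have prime power order.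
-/

set_option autoImplicit false

open Matrix Pointwise

namespace Cfsg.Agent.Orders5.TwoSeven

universe u

/-- Element orders: powers of two, or primes other than five. -/
def Ord27 (G : Type*) [Group G] : Prop :=
  ∀ g : G, g ≠ 1 → (∃ k : ℕ, orderOf g = 2 ^ k) ∨ ((orderOf g).Prime ∧ orderOf g ≠ 5)

variable {G : Type*} [Group G]

theorem Ord27.dvd_cases (h : Ord27 G) {g : G} {d : ℕ} (hd : d ∣ orderOf g) :
    d = 1 ∨ (∃ k, d = 2 ^ k) ∨ (d.Prime ∧ d ≠ 5) := by
  by_cases hg : g = 1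
  · subst hg
    rw [orderOf_one, Nat.dvd_one] at hd
    exact Or.inl hd
  rcases h g hg with ⟨k, hk⟩ | ⟨hp, h5⟩
  · rw [hk] at hd
    obtain ⟨j, -, hj⟩ := (Nat.dvd_prime_pow Nat.prime_two).1 hd
    exact Or.inr (Or.inl ⟨j, hj⟩)
  · rcases (Nat.dvd_prime hp).1 hd with e | e
    · exact Or.inl e
    · exact Or.inr (Or.inr (e ▸ ⟨hp, h5⟩))

theorem Ord27.ne_mul (h : Ord27 G) {g : G} {p q : ℕ} (hp : p.Prime) (hq : q.Prime) (hpq : p ≠ q) :
    ¬ p * q ∣ orderOf g := by
  intro hd
  rcases h.dvd_cases hd with e | ⟨k, e⟩ | ⟨e, -⟩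
  · exact hp.ne_one (Nat.eq_one_of_mul_eq_one_right e)
  · have h1 := (Nat.prime_dvd_prime_iff_eq hp Nat.prime_two).1 (hp.dvd_of_dvd_pow ⟨q, e.symm⟩)
    have h2 := (Nat.prime_dvd_prime_iff_eq hq Nat.prime_two).1 (hq.dvd_of_dvd_pow ⟨p, by rw [← e, mul_comm]⟩)
    exact hpq (h1.trans h2.symm)
  · exact Nat.not_prime_mul hp.ne_one hq.ne_one e

theorem Ord27.ne_nine (h : Ord27 G) {g : G} : ¬ 9 ∣ orderOf g := by
  intro hd
  rcases h.dvd_cases hd with e | ⟨k, e⟩ | ⟨e, -⟩
  · norm_num at e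
  · rcases k with _ | k
    · norm_num at e
    · rw [pow_succ] at e; omega
  · norm_num at e

theorem Ord27.five (h : Ord27 G) [Finite G] : ¬ 5 ∣ Nat.card G := by
  intro hd
  haveI := Fact.mk Nat.prime_five
  obtain ⟨g, hg⟩ := exists_prime_orderOf_dvd_card' 5 hd
  rcases h.dvd_cases (g := g) (d := 5) (by rw [hg]) with e | ⟨k, e⟩ | ⟨-, e⟩
  · norm_num at e
  · rcases k with _ | k
    · norm_num at e
    · rw [pow_succ] at e; omega
  · exact e rfl

theorem Ord27.eppo (h : Ord27 G) : ∀ g : G, g ≠ 1 → IsPrimePow (orderOf g) := by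
  intro g hg
  rcases h g hg with ⟨k, hk⟩ | ⟨hp, -⟩
  · rw [hk]
    refine (Nat.prime_two.isPrimePow).pow ?_
    rintro rfl
    exact hg (orderOf_eq_one_iff.1 (by rw [hk, pow_zero]))
  · exact hp.isPrimePow

theorem Ord27.of_surjective {H : Type*} [Group H] (h : Ord27 G) (f : G →* H) (hf : Function.Surjective f) :
    Ord27 H := by
  intro y hy
  obtain ⟨g, rfl⟩ := hf y
  rcases h.dvd_cases (orderOf_map_dvd f g) with e | e | e
  · exact absurd (orderOf_eq_one_iff.1 e) hy
  · exact Or.inl e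
  · exact Or.inr e

theorem Ord27.subgroup (h : Ord27 G) (K : Subgroup G) : Ord27 K := fun y hy => by
  rw [← Subgroup.orderOf_coe]
  exact h y fun e => hy (Subtype.ext e)

theorem Ord27.of_mulEquiv {H : Type*} [Group H] (h : Ord27 G) (e : G ≃* H) : Ord27 H :=
  h.of_surjective e.toMonoidHom e.surjective

/-- The simple groups in question. -/
theorem simple_case {M : Type*} [Group M] [Finite M] (h : Ord27 M)
    (hlist : Nonempty (M ≃* alternatingGroup (Fin 6)) ∨
      (∃ (F : Type) (_ : Field F) (_ : Fintype F), Fintype.card F ∈ ({4, 7, 8, 17} : Finset ℕ) ∧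
        Nonempty (M ≃* Matrix.ProjectiveSpecialLinearGroup (Fin 2) F)) ∨
      (∃ (F : Type) (_ : Field F) (_ : Fintype F), Fintype.card F = 4 ∧
        Nonempty (M ≃* Matrix.ProjectiveSpecialLinearGroup (Fin 3) F)) ∨
      (∃ (F : Type) (_ : Field F) (_ : Fintype F),
        (Fintype.card F = 8 ∧ Nonempty (M ≃* ↥(Cfsg.Lie.Sz F 4))) ∨
          (Fintype.card F = 32 ∧ Nonempty (M ≃* ↥(Cfsg.Lie.Sz F 8))))) :
    ∃ (F : Type) (_ : Field F) (_ : Fintype F), Fintype.card F = 7 ∧
      Nonempty (M ≃* Matrix.ProjectiveSpecialLinearGroup (Fin 2) F) := by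
  classical
  have key : ∀ {N : Type} [Group N] [Finite N], (M ≃* N) → 5 ∣ Nat.card N → False := fun {N} _ _ e hd =>
    (h.of_mulEquiv e).five hd
  rcases hlist with ⟨⟨e⟩⟩ | ⟨F, iF, iFF, hF, ⟨e⟩⟩ | ⟨F, iF, iFF, hF, ⟨e⟩⟩ | ⟨F, iF, iFF, hF⟩
  · refine (key e ?_).elim
    rw [Nat.card_eq_fintype_card, card_alternatingGroup, Fintype.card_fin]
    decide
  · simp only [Finset.mem_insert, Finset.mem_singleton] at hF
    have nine : (9 ∣ Nat.card F - 1 ∨ 9 ∣ Nat.card F + 1) → False := fun hd => by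
      obtain ⟨g, hg⟩ := GLOrder.exists_orderOf_SL_two (F := F) (d := 9) hd
      refine (h.of_mulEquiv e).ne_nine (g := QuotientGroup.mk' (Subgroup.center (SpecialLinearGroup (Fin 2) F)) g) ?_
      have h1 := pow_orderOf_eq_one (QuotientGroup.mk' (Subgroup.center (SpecialLinearGroup (Fin 2) F)) g)
      rw [← map_pow] at h1
      set n := orderOf (QuotientGroup.mk' (Subgroup.center (SpecialLinearGroup (Fin 2) F)) g)
      have h2 : g ^ (n * 2) = 1 := by
        rw [pow_mul]
        rcases PSL2.mem_center_iff'.1 ((QuotientGroup.eq_one_iff _).1 h1) with e1 | e1 <;> simp [e1]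
      have h3 := orderOf_dvd_of_pow_eq_one h2
      rw [hg] at h3
      exact (Nat.Coprime.dvd_of_dvd_mul_right (by norm_num) h3)
    rcases hF with hF | hF | hF | hF
    · refine (key e ?_).elim
      rw [GLOrder.card_PSL_two, Nat.card_eq_fintype_card, hF]
      decide
    · exact ⟨F, iF, iFF, hF, ⟨e⟩⟩
    · exact (nine (by rw [Nat.card_eq_fintype_card, hF]; norm_num)).elim
    · exact (nine (by rw [Nat.card_eq_fintype_card, hF]; norm_num)).elim
  · refine (key e ?_).elim
    rw [GLOrder.card_PSL, GLOrder.card_SL, Nat.card_eq_fintype_card, hF]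
    simp only [Fintype.card_fin, show Finset.Ico 1 3 = {1, 2} from rfl]
    decide
  · rcases hF with ⟨hF, ⟨e⟩⟩ | ⟨hF, ⟨e⟩⟩
    · refine (key e ?_).elim
      have hF' : Fintype.card F = 2 ^ (2 * 1 + 1) := by rw [hF]; norm_num
      have h1 := (Nat.card_congr (Suzuki.lieEquiv (m := 1) le_rfl hF').symm.toEquiv).trans
        (Suzuki.card_sz le_rfl hF')
      have h2 : ∀ r : ℕ, r = 2 ^ (1 + 1) → Nat.card ↥(Cfsg.Lie.Sz F r) = 8 ^ 2 * (8 ^ 2 + 1) * (8 - 1) := by
        rintro r rfl
        exact h1.trans (by norm_num)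
      rw [h2 4 (by norm_num)]
      norm_num
    · refine (key e ?_).elim
      have hF' : Fintype.card F = 2 ^ (2 * 2 + 1) := by rw [hF]; norm_num
      have h1 := (Nat.card_congr (Suzuki.lieEquiv (m := 2) (by norm_num) hF').symm.toEquiv).trans
        (Suzuki.card_sz (by norm_num) hF')
      have h2 : ∀ r : ℕ, r = 2 ^ (2 + 1) → Nat.card ↥(Cfsg.Lie.Sz F r) = 32 ^ 2 * (32 ^ 2 + 1) * (32 - 1) := by
        rintro r rfl
        exact h1.trans (by norm_num)
      rw [h2 8 (by norm_num)]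
      norm_num

/-- The matrix of a quarter turn. -/
def mA : SpecialLinearGroup (Fin 2) (ZMod 7) := ⟨!![0, 1; -1, 0], by decide +kernel⟩

/-- A second element of order four. -/
def mB : SpecialLinearGroup (Fin 2) (ZMod 7) := ⟨!![2, 3; 3, -2], by decide +kernel⟩

/-- A transvection. -/
def mU : SpecialLinearGroup (Fin 2) (ZMod 7) := ⟨!![1, 1; 0, 1], by decide +kernel⟩

/-- An element normalising the transvections. -/
def mK : SpecialLinearGroup (Fin 2) (ZMod 7) := ⟨!![4, 0; 0, 2], by decide +kernel⟩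

theorem mat_facts :
    (mA * mA = 1 ∨ mA * mA = -1) ∧ (mB * mB = 1 ∨ mB * mB = -1) ∧ (mA * mB = mB * mA ∨ mA * mB = -(mB * mA)) ∧
      ¬ (mA = 1 ∨ mA = -1) ∧ ¬ (mB = 1 ∨ mB = -1) ∧ ¬ (mA * mB = 1 ∨ mA * mB = -1) ∧
      (mU ^ 7 = 1 ∨ mU ^ 7 = -1) ∧ ¬ (mU = 1 ∨ mU = -1) ∧ (mK ^ 3 = 1 ∨ mK ^ 3 = -1) ∧ ¬ (mK = 1 ∨ mK = -1) ∧
      (mK * mU = mU ^ 2 * mK ∨ mK * mU = -(mU ^ 2 * mK)) := by
  decide +kernel

/-- Generators of a four group and of a Frobenius group of order 21. -/
theorem psl_facts {F : Type*} [Field F] [Fintype F] (hF : Fintype.card F = 7) :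
    Nat.card (ProjectiveSpecialLinearGroup (Fin 2) F) = 168 ∧
      ∃ a b g k : ProjectiveSpecialLinearGroup (Fin 2) F, a * a = 1 ∧ b * b = 1 ∧ a * b = b * a ∧ a ≠ 1 ∧
        b ≠ 1 ∧ a * b ≠ 1 ∧ g ^ 7 = 1 ∧ g ≠ 1 ∧ k ^ 3 = 1 ∧ k ≠ 1 ∧ k * g * k⁻¹ = g ^ 2 := by
  refine ⟨by rw [GLOrder.card_PSL_two, Nat.card_eq_fintype_card, hF]; decide, ?_⟩
  haveI : Fact (Nat.Prime 7) := ⟨by norm_num⟩
  let e := Linear.pslMapEquiv (ι := Fin 2) (ZMod.ringEquivOfPrime F (by norm_num : Nat.Prime 7) hF)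
  let S := SpecialLinearGroup (Fin 2) (ZMod 7)
  let q : S →* ProjectiveSpecialLinearGroup (Fin 2) (ZMod 7) := QuotientGroup.mk' _
  let π : S →* ProjectiveSpecialLinearGroup (Fin 2) F := e.toMonoidHom.comp q
  have h1 : ∀ A : S, π A = 1 ↔ (A = 1 ∨ A = -1) := fun A => by
    show e (q A) = 1 ↔ _
    rw [e.map_eq_one_iff]
    exact (QuotientGroup.eq_one_iff A).trans PSL2.mem_center_iff'
  have h2 : ∀ A B : S, π A = π B ↔ (A = B ∨ A = -B) := fun A B => by
    rw [← inv_mul_eq_one, ← map_inv, ← map_mul, h1, inv_mul_eq_one, inv_mul_eq_iff_eq_mul, mul_neg, mul_one]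
    constructor <;> rintro (rfl | rfl) <;> first | exact Or.inl rfl | exact Or.inr (neg_neg _).symm
  obtain ⟨f1, f2, f3, f4, f5, f6, f7, f8, f9, f10, f11⟩ := mat_facts
  refine ⟨π mA, π mB, π mU, π mK, ?_, ?_, ?_, (h1 _).not.2 f4, (h1 _).not.2 f5, ?_, ?_, (h1 _).not.2 f8,
    ?_, (h1 _).not.2 f10, ?_⟩
  · rw [← map_mul, h1]; exact f1
  · rw [← map_mul, h1]; exact f2
  · rw [← map_mul, ← map_mul, h2]; exact f3
  · rw [← map_mul, Ne, h1]; exact f6
  · rw [← map_pow, h1]; exact f7
  · rw [← map_pow, h1]; exact f9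
  · rw [mul_inv_eq_iff_eq_mul, ← map_pow, ← map_mul, ← map_mul, h2]; exact f11

/-- An almost simple group with socle `PSL₂(7)` in question is that socle. -/
theorem socle_eq_top {A : Type*} [Group A] [Finite A] (h : Ord27 A) (M : Subgroup A) [M.Normal]
    [IsSimpleGroup M] (hnc : ¬ IsMulCommutative M) (hmin : ∀ N : Subgroup A, N.Normal → N ≠ ⊥ → M ≤ N)
    (hcard : Nat.card M = 168) : M = ⊤ := by
  classical
  haveI : Fact (Nat.Prime 7) := ⟨by norm_num⟩
  let P : Sylow 7 M := default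
  have hP : Nat.card P = 7 := by
    rw [P.card_eq_multiplicity, hcard]
    rw [show (168 : ℕ) = 7 * 24 from rfl]
    rw [Nat.factorization_mul (by norm_num) (by norm_num), Finsupp.add_apply,
      Nat.Prime.factorization_self (by norm_num), Nat.factorization_eq_zero_of_not_dvd (by norm_num)]
    norm_num
  set Q : Subgroup A := (P : Subgroup M).map M.subtype with hQ
  have hQcard : Nat.card Q = 7 := by
    rw [hQ, Subgroup.card_subtype]; exact hP
  have hQM : Q ≤ M := Subgroup.map_subtype_le _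
  -- the conjugates of `Q`
  let Ω := MulAction.orbit (ConjAct A) Q
  have hΩM : ∀ X ∈ Ω, X ≤ M ∧ Nat.card X = 7 := by
    rintro _ ⟨x, rfl⟩
    refine ⟨?_, ?_⟩
    · rintro _ ⟨y, hy, rfl⟩
      exact (inferInstance : M.Normal).conj_mem y (hQM hy) _
    · rw [← hQcard]
      exact (Nat.card_congr (Subgroup.equivSMul x Q).toEquiv).symm
  have hΩ8 : Nat.card Ω ≤ 8 := by
    have hn : Nat.card (Sylow 7 M) ≤ 8 := by
      have hi : (P : Subgroup M).index = 24 := by
        have := Subgroup.card_mul_index (P : Subgroup M)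
        rw [hcard, hP] at this
        omega
      have hd := P.card_dvd_index
      rw [hi] at hd
      have hm := card_sylow_modEq_one 7 M
      have hle := Nat.le_of_dvd (by norm_num) hd
      unfold Nat.ModEq at hm
      by_contra hgt
      push Not at hgt
      interval_cases Nat.card (Sylow 7 M) <;> omega
    refine le_trans ?_ hn
    refine Nat.card_le_card_of_injective
      (fun X : Ω => Sylow.ofCard (p := 7) (X.1.subgroupOf M) (by
        obtain ⟨hle, hc⟩ := hΩM X.1 X.2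
        rw [Nat.card_congr (Subgroup.subgroupOfEquivOfLe hle).toEquiv, hc]; exact hP.symm.trans P.card_eq_multiplicity)) ?_
    intro X Y hXY
    have h1 := congrArg (fun S : Sylow 7 M => (S : Subgroup M).map M.subtype) hXY
    simp only [Sylow.coe_ofCard] at h1
    rw [Subgroup.map_subgroupOf_eq_of_le (hΩM X.1 X.2).1, Subgroup.map_subgroupOf_eq_of_le (hΩM Y.1 Y.2).1] at h1
    exact Subtype.ext h1
  have horb : Nat.card Ω * Nat.card (Subgroup.normalizer (Q : Set A)) = Nat.card A := by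
    have h1 : Nat.card Ω = (MulAction.stabilizer (ConjAct A) Q).index := by
      rw [MulAction.index_stabilizer, Nat.card_coe_set_eq]
    have h2 : MulAction.stabilizer (ConjAct A) Q =
        (Subgroup.normalizer (Q : Set A)).map (ConjAct.toConjAct : A ≃* ConjAct A).toMonoidHom := by
      ext x
      simp only [MulAction.mem_stabilizer_iff, Subgroup.mem_map_equiv]
      rw [Subgroup.mem_normalizer_iff_map_conj_eq]
      rfl
    rw [h1, h2, mul_comm,
      show Nat.card (Subgroup.normalizer (Q : Set A)) = Nat.card ↥((Subgroup.normalizer (Q : Set A)).map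
          (ConjAct.toConjAct : A ≃* ConjAct A).toMonoidHom) from
        (Nat.card_congr (Subgroup.equivMapOfInjective _ _ (ConjAct.toConjAct : A ≃* ConjAct A).injective).toEquiv),
      Subgroup.card_mul_index]
    exact Nat.card_congr ConjAct.ofConjAct.toEquiv
  -- the action on the conjugates is faithful
  have hfaith : Function.Injective (MulAction.toPermHom (ConjAct A) Ω) := by
    rw [← MonoidHom.ker_eq_bot_iff]
    by_contra hne
    let N := (MulAction.toPermHom (ConjAct A) Ω).ker.map (ConjAct.ofConjAct : ConjAct A ≃* A).toMonoidHom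
    have hN : M ≤ N := hmin N (Subgroup.Normal.map inferInstance _ ConjAct.ofConjAct.surjective)
      (fun e => hne ((Subgroup.map_eq_bot_iff_of_injective _ ConjAct.ofConjAct.injective).1 e))
    have hPn : (P : Subgroup M).Normal := by
      refine ⟨fun y hy m => ?_⟩
      obtain ⟨x, hx, hxm⟩ := hN m.2
      have h1 := Equiv.Perm.ext_iff.1 (MonoidHom.mem_ker.1 hx) ⟨Q, MulAction.mem_orbit_self Q⟩
      have h2 : x • Q = Q := congrArg Subtype.val h1
      have h3 : x • ((y : M) : A) ∈ x • Q := Subgroup.smul_mem_pointwise_smul _ _ _ ⟨y, hy, rfl⟩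
      rw [h2] at h3
      obtain ⟨z, hz, hze⟩ := h3
      have : m * y * m⁻¹ = z := by
        refine Subtype.ext ?_
        rw [Subgroup.coe_mul, Subgroup.coe_mul, Subgroup.coe_inv]
        refine Eq.trans ?_ hze.symm
        rw [ConjAct.smul_def, ← hxm]
        rfl
      rw [this]
      exact hz
    rcases hPn.eq_bot_or_eq_top with hb | ht
    · rw [hb, Subgroup.card_bot] at hP; norm_num at hP
    · rw [ht, Subgroup.card_top, hcard] at hP; norm_num at hP
  have hfact : Nat.card A ∣ Nat.factorial 8 := by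
    have h1 := Subgroup.card_dvd_of_injective _ hfaith
    rw [Nat.card_perm, Nat.card_congr (ConjAct.ofConjAct : ConjAct A ≃* A).toEquiv] at h1
    exact h1.trans (Nat.factorial_dvd_factorial hΩ8)
  -- the centralizer and normalizer of `Q`
  obtain ⟨g, hg⟩ := (isCyclic_of_prime_card (α := Q) hQcard).exists_generator
  have hgo : orderOf (g : A) = 7 := by
    rw [Subgroup.orderOf_coe, orderOf_eq_card_of_forall_mem_zpowers hg, hQcard]
  have hC : Nat.card (Subgroup.centralizer (Q : Set A)) ≤ 7 := by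
    set C := Subgroup.centralizer (Q : Set A)
    have hall : IsPGroup 7 C := by
      intro c
      by_contra hno
      push Not at hno
      have hne : (c : A) ≠ 1 := fun e => hno 0 (by rw [pow_zero, pow_one]; exact Subtype.ext e)
      obtain ⟨r, hr, hrd⟩ := Nat.exists_prime_and_dvd (n := orderOf (c : A))
        (fun e => hne (orderOf_eq_one_iff.1 e))
      by_cases hr7 : r = 7
      · subst hr7
        rcases h (c : A) hne with ⟨k, hk⟩ | ⟨hp, -⟩
        · rw [hk] at hrd
          have := (Nat.prime_dvd_prime_iff_eq hr Nat.prime_two).1 (hr.dvd_of_dvd_pow hrd)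
          omega
        · have he : orderOf (c : A) = 7 := ((Nat.prime_dvd_prime_iff_eq hr hp).1 hrd).symm
          exact hno 1 (Subtype.ext (by
            rw [SubmonoidClass.coe_pow, pow_one, ← he]; exact pow_orderOf_eq_one _))
      · have hx := orderOf_pow_orderOf_div (orderOf_pos (c : A)).ne' hrd
        have hcom : Commute (g : A) ((c : A) ^ (orderOf (c : A) / r)) :=
          Commute.pow_right (Subgroup.mem_centralizer_iff.1 c.2 _ g.2) _
        refine h.ne_mul (by norm_num : Nat.Prime 7) hr (Ne.symm hr7) (g := (g : A) * (c : A) ^ (orderOf (c : A) / r)) ?_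
        rw [hcom.orderOf_mul_eq_mul_orderOf_of_coprime (by
          rw [hgo, hx]; exact (Nat.coprime_primes (by norm_num) hr).2 (Ne.symm hr7)), hgo, hx]
    obtain ⟨k, hk⟩ := IsPGroup.iff_card.1 hall
    have h1 := (Subgroup.card_subgroup_dvd_card C).trans hfact
    rw [hk] at h1 ⊢
    have h2 : k ≤ 1 := by
      by_contra hk2
      have h3 : 7 ^ 2 ∣ Nat.factorial 8 := (pow_dvd_pow 7 (by omega)).trans h1
      norm_num [Nat.factorial] at h3
    calc 7 ^ k ≤ 7 ^ 1 := Nat.pow_le_pow_right (by norm_num) h2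
      _ = 7 := pow_one 7
  have hN : Nat.card (Subgroup.normalizer (Q : Set A)) ≤ 21 := by
    set φ := Q.normalizerMonoidHom
    have h1 := Subgroup.card_mul_index φ.ker
    rw [Subgroup.index_ker, Q.normalizerMonoidHom_ker] at h1
    have h2 : Nat.card ((Subgroup.centralizer (Q : Set A)).subgroupOf (Subgroup.normalizer (Q : Set A))) ≤ 7 := by
      refine le_trans (Nat.card_le_card_of_injective (fun x => (⟨x.1.1, x.2⟩ : Subgroup.centralizer (Q : Set A))) ?_) hC
      intro x y e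
      exact Subtype.ext (Subtype.ext (congrArg (fun z : Subgroup.centralizer (Q : Set A) => (z : A)) e))
    have h3 : Nat.card φ.range ≤ 3 := by
      haveI : IsCyclic Q := isCyclic_of_prime_card hQcard
      have h6 : Nat.card (MulAut Q) = 6 := by
        rw [IsCyclic.card_mulAut, hQcard]; decide
      have h4 : Nat.card φ.range ∣ 6 := h6 ▸ Subgroup.card_subgroup_dvd_card _
      by_contra hlt
      have h5 : Nat.card φ.range = 6 := by
        have := Nat.le_of_dvd (by norm_num) h4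
        interval_cases Nat.card φ.range <;> omega
      have hcomm : ∀ u v : φ.range, Commute u v := by
        intro u v
        refine Subtype.ext (MulEquiv.ext fun z => ?_)
        obtain ⟨n, rfl⟩ := Subgroup.mem_zpowers_iff.1 (hg z)
        obtain ⟨i, hi⟩ := Subgroup.mem_zpowers_iff.1 (hg (u.1 g))
        obtain ⟨j, hj⟩ := Subgroup.mem_zpowers_iff.1 (hg (v.1 g))
        show u.1 (v.1 (g ^ n)) = v.1 (u.1 (g ^ n))
        have key : u.1 (v.1 g) = v.1 (u.1 g) := by
          rw [← hj, ← hi, map_zpow, map_zpow, ← hi, ← hj, ← _root_.zpow_mul, ← _root_.zpow_mul, mul_comm]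
        rw [map_zpow, map_zpow, map_zpow, map_zpow, key]
      haveI := Fact.mk Nat.prime_two
      haveI := Fact.mk Nat.prime_three
      obtain ⟨u, hu⟩ := exists_prime_orderOf_dvd_card' (G := φ.range) 2 (by rw [h5]; norm_num)
      obtain ⟨v, hv⟩ := exists_prime_orderOf_dvd_card' (G := φ.range) 3 (by rw [h5]; norm_num)
      obtain ⟨⟨_, x, rfl⟩, hxo⟩ : ∃ w : φ.range, orderOf w = 2 * 3 :=
        ⟨u * v, by rw [(hcomm u v).orderOf_mul_eq_mul_orderOf_of_coprime (by rw [hu, hv]; norm_num), hu, hv]⟩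
      refine h.ne_mul Nat.prime_two Nat.prime_three (by norm_num) (g := (x : A)) ?_
      rw [Subgroup.orderOf_coe, ← hxo]
      exact orderOf_map_dvd φ.rangeRestrict x
    rw [← h1]
    exact le_trans (Nat.mul_le_mul h2 h3) le_rfl
  refine Subgroup.eq_top_of_le_card M ?_
  rw [hcard, ← horb]
  exact le_trans (Nat.mul_le_mul hΩ8 hN) (by norm_num)

/-- There is no nontrivial normal `p`-subgroup under `PSL₂(7)`. -/
theorem radical_eq_bot [Finite G] (h : Ord27 G) {A : Type*} [Group A] (f : G →* A) (hf : Function.Surjective f)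
    {p : ℕ} (hp : p.Prime) (hR : IsPGroup p f.ker)
    (a b g k : A) (ha : a * a = 1) (hb : b * b = 1) (hab : a * b = b * a) (ha1 : a ≠ 1) (hb1 : b ≠ 1)
    (hab1 : a * b ≠ 1) (hg : g ^ 7 = 1) (hg1 : g ≠ 1) (hk : k ^ 3 = 1) (hk1 : k ≠ 1)
    (hkg : k * g * k⁻¹ = g ^ 2) : f.ker = ⊥ := by
  classical
  haveI := Fact.mk hp
  by_contra hne
  set R := f.ker
  haveI : Nontrivial R := (Subgroup.nontrivial_iff_ne_bot R).2 hne
  haveI := hR.center_nontrivial
  let Z : Subgroup G :=
    { carrier := {z | z ∈ R ∧ (∀ r ∈ R, r * z = z * r) ∧ z ^ p = 1}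
      one_mem' := ⟨R.one_mem, fun r _ => by simp, one_pow p⟩
      mul_mem' := by
        rintro x y ⟨hx, hxc, hxp⟩ ⟨hy, hyc, hyp⟩
        refine ⟨R.mul_mem hx hy, fun r hr => ?_, ?_⟩
        · exact (Commute.mul_right (hxc r hr) (hyc r hr)).eq
        · rw [(hyc x hx : x * y = y * x) |> (Commute.mul_pow · p), hxp, hyp, one_mul]
      inv_mem' := by
        rintro x ⟨hx, hxc, hxp⟩
        exact ⟨R.inv_mem hx, fun r hr => (Commute.inv_right (hxc r hr)).eq, by rw [inv_pow, hxp, inv_one]⟩ }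
  haveI hZn : Z.Normal := ⟨by
    rintro z ⟨hz, hzc, hzp⟩ x
    refine ⟨(inferInstance : R.Normal).conj_mem z hz x, fun r hr => ?_, by rw [conj_pow, hzp, mul_one, mul_inv_cancel]⟩
    have h1 := hzc _ ((inferInstance : R.Normal).conj_mem r hr x⁻¹)
    rw [inv_inv] at h1
    calc r * (x * z * x⁻¹) = x * ((x⁻¹ * r * x) * z) * x⁻¹ := by group
      _ = x * (z * (x⁻¹ * r * x)) * x⁻¹ := by rw [h1]
      _ = x * z * x⁻¹ * r := by group⟩
  have hZne : ∃ z : Z, z ≠ 1 := by
    have hd : p ∣ Nat.card (Subgroup.center R) := by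
      have hc := hR.to_subgroup (Subgroup.center R)
      obtain ⟨n, hn⟩ := IsPGroup.iff_card.1 hc
      have h1 : 1 < Nat.card (Subgroup.center R) := Finite.one_lt_card
      rw [hn] at h1 ⊢
      exact dvd_pow_self p (by rintro rfl; simp at h1)
    obtain ⟨z, hz⟩ := exists_prime_orderOf_dvd_card' (G := Subgroup.center R) p hd
    refine ⟨⟨z.1.1, z.1.2, fun r hr => congrArg Subtype.val (Subgroup.mem_center_iff.1 z.2 ⟨r, hr⟩), ?_⟩, ?_⟩
    · have := congrArg (fun w : Subgroup.center R => w.1.1) (hz ▸ pow_orderOf_eq_one z)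
      simpa using this
    · intro e
      have : z = 1 := Subtype.ext (Subtype.ext (congrArg (fun w : Z => (w : G)) e))
      rw [this, orderOf_one] at hz
      exact hp.ne_one hz.symm
  letI : CommGroup Z :=
    { (inferInstance : Group Z) with mul_comm := fun x y => Subtype.ext (y.2.2.1 x x.2.1) }
  have hker : f.ker ≤ (MulAut.conjNormal (H := Z)).ker := by
    intro r hr
    refine MonoidHom.mem_ker.2 (MulEquiv.ext fun z => Subtype.ext ?_)
    rw [MulAut.conjNormal_apply, MulAut.one_apply, z.2.2.1 r hr, mul_inv_cancel_right]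
  let θ : A →* MulAut Z := f.liftOfSurjective hf ⟨MulAut.conjNormal, hker⟩
  have hθ : ∀ x : G, θ (f x) = MulAut.conjNormal x := fun x => f.liftOfRightInverse_comp_apply _ _ _ x
  -- fixed point freeness
  have hfpf : ∀ (y : A) (n : ℕ), n.Prime → n ≠ p → y ^ n = 1 → y ≠ 1 → ∀ z : Z, θ y z = z → z = 1 := by
    intro y n hn hnp hy hy1 z hz
    obtain ⟨x, rfl⟩ := hf y
    by_contra hz1
    have hzo : orderOf (z : G) = p := orderOf_eq_prime z.2.2.2 fun e => hz1 (Subtype.ext e)
    haveI := Fact.mk hn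
    have hd : n ∣ orderOf x := (orderOf_eq_prime hy hy1) ▸ orderOf_map_dvd f x
    have hx0 := orderOf_pow_orderOf_div (orderOf_pos x).ne' hd
    have hxz : Commute x (z : G) := by
      have h1 := congrArg Subtype.val hz
      rw [hθ, MulAut.conjNormal_apply] at h1
      exact mul_inv_eq_iff_eq_mul.1 h1
    refine h.ne_mul hn hp hnp (g := x ^ (orderOf x / n) * (z : G)) ?_
    rw [(hxz.pow_left _).orderOf_mul_eq_mul_orderOf_of_coprime (by
      rw [hx0, hzo]; exact (Nat.coprime_primes hn hp).2 hnp), hx0, hzo]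
  have hnorm : ∀ (y : A) (n : ℕ), n.Prime → n ≠ p → y ^ n = 1 → y ≠ 1 → ∀ z : Z,
      ∏ i ∈ Finset.range n, θ (y ^ i) z = 1 := by
    intro y n hn hnp hy hy1 z
    refine hfpf y n hn hnp hy hy1 _ ?_
    rw [map_prod]
    have h1 : ∀ i, θ y (θ (y ^ i) z) = θ (y ^ (i + 1)) z := fun i => by
      rw [pow_succ', map_mul, MulAut.mul_apply]
    simp only [h1]
    obtain ⟨m, rfl⟩ := Nat.exists_eq_succ_of_ne_zero hn.ne_zero
    rw [Finset.prod_range_succ, hy, Finset.prod_range_succ' (fun i => θ (y ^ i) z), pow_zero]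
  obtain ⟨z, hz⟩ := hZne
  apply hz
  have hzp : z ^ p = 1 := Subtype.ext (by simpa using z.2.2.2)
  by_cases hp2 : p = 2
  · subst hp2
    have hkk : ∀ i : ℕ, k * g ^ i * k⁻¹ = g ^ (2 * i) := fun i => by rw [← conj_pow, hkg, ← pow_mul]
    have hk' : ∀ i : ℕ, k * g ^ i = g ^ (2 * i) * k := fun i => mul_inv_eq_iff_eq_mul.1 (hkk i)
    have hsq : ∀ i : ℕ, (g ^ i * k) ^ 2 = (g ^ 3) ^ i * k ^ 2 := fun i => by
      rw [pow_two, mul_assoc, ← mul_assoc k, hk', mul_assoc, ← pow_two, ← mul_assoc, ← pow_add, ← pow_mul]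
      congr 2
      omega
    have h3 : ∀ i : ℕ, (g ^ i * k) ^ 3 = 1 ∧ g ^ i * k ≠ 1 := fun i => by
      refine ⟨?_, fun e => ?_⟩
      · have hk2 : k ^ 2 * g ^ i = g ^ (2 * (2 * i)) * k ^ 2 := by
          rw [pow_two, mul_assoc, hk', ← mul_assoc, hk', mul_assoc]
        rw [pow_succ, hsq, mul_assoc, ← mul_assoc (k ^ 2), hk2, mul_assoc (g ^ (2 * (2 * i))), ← pow_succ,
          hk, mul_one, ← pow_mul, ← pow_add, show 3 * i + 2 * (2 * i) = 7 * i by omega, pow_mul, hg, one_pow]
      · have hkk' : k = (g ^ i)⁻¹ := eq_inv_of_mul_eq_one_right e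
        rw [hkk'] at hkg
        have : g = g ^ 2 := by
          rw [← hkg]; group
        rw [pow_two] at this
        exact hg1 (mul_eq_left.1 this.symm)
    have key : ∀ i : ℕ, z * θ (g ^ i) (θ k z) * θ ((g ^ 3) ^ i) (θ (k ^ 2) z) = 1 := fun i => by
      have h1 := hnorm (g ^ i * k) 3 Nat.prime_three (by norm_num) (h3 i).1 (h3 i).2 z
      rw [Finset.prod_range_succ, Finset.prod_range_succ, Finset.prod_range_one, pow_zero, pow_one, hsq,
        map_one, MulAut.one_apply, map_mul, MulAut.mul_apply, map_mul, MulAut.mul_apply] at h1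
      exact h1
    have h7 : Nat.Prime 7 := by norm_num
    have hg3 : (g ^ 3) ^ 7 = 1 := by rw [← pow_mul, mul_comm, pow_mul, hg, one_pow]
    have hg31 : g ^ 3 ≠ 1 := fun e => hg1 (by
      calc g = (g ^ 7) * ((g ^ 3) ^ 2)⁻¹ := by rw [← pow_mul]; group
        _ = 1 := by rw [hg, e, one_pow, inv_one, mul_one])
    have h1 := Finset.prod_eq_one (fun i (_ : i ∈ Finset.range 7) => key i)
    rw [Finset.prod_mul_distrib, Finset.prod_mul_distrib, hnorm g 7 h7 (by norm_num) hg hg1,
      hnorm (g ^ 3) 7 h7 (by norm_num) hg3 hg31, mul_one, mul_one, Finset.prod_const, Finset.card_range] at h1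
    calc z = z ^ 7 * ((z ^ 2) ^ 3)⁻¹ := by group
      _ = 1 := by rw [h1, hzp, one_pow, inv_one, mul_one]
  · have hinv : ∀ y : A, y * y = 1 → y ≠ 1 → ∀ w : Z, θ y w = w⁻¹ := by
      intro y hy hy1 w
      have h1 := hnorm y 2 Nat.prime_two (Ne.symm hp2) (by rw [pow_two]; exact hy) hy1 w
      rw [Finset.prod_range_succ, Finset.prod_range_one, pow_zero, pow_one, map_one, MulAut.one_apply] at h1
      exact eq_inv_of_mul_eq_one_right h1
    have e1 := hinv (a * b) (by rw [mul_assoc, ← mul_assoc b, ← hab, ← mul_assoc, ← mul_assoc, ha, one_mul, hb]) hab1 z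
    rw [map_mul, MulAut.mul_apply, hinv b hb hb1, hinv a ha ha1, inv_inv] at e1
    have e2 : z ^ 2 = 1 := by rw [pow_two]; nth_rewrite 2 [e1]; exact mul_inv_cancel z
    have e3 := Nat.dvd_gcd (orderOf_dvd_of_pow_eq_one e2) (orderOf_dvd_of_pow_eq_one hzp)
    rw [Nat.Coprime.gcd_eq_one ((Nat.coprime_primes Nat.prime_two hp).2 (Ne.symm hp2)), Nat.dvd_one] at e3
    exact orderOf_eq_one_iff.1 e3

/-- The classification, from the list of simple groups with elements of prime power order. -/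
theorem classify {G : Type u} [Group G] [Finite G]
    (hlist : ∀ (M : Type u) [Group M] [Finite M] [IsSimpleGroup M], ¬ IsMulCommutative M →
      (∀ g : M, g ≠ 1 → IsPrimePow (orderOf g)) →
      Nonempty (M ≃* alternatingGroup (Fin 6)) ∨
      (∃ (F : Type) (_ : Field F) (_ : Fintype F), Fintype.card F ∈ ({4, 7, 8, 17} : Finset ℕ) ∧
        Nonempty (M ≃* Matrix.ProjectiveSpecialLinearGroup (Fin 2) F)) ∨
      (∃ (F : Type) (_ : Field F) (_ : Fintype F), Fintype.card F = 4 ∧
        Nonempty (M ≃* Matrix.ProjectiveSpecialLinearGroup (Fin 3) F)) ∨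
      (∃ (F : Type) (_ : Field F) (_ : Fintype F),
        (Fintype.card F = 8 ∧ Nonempty (M ≃* ↥(Cfsg.Lie.Sz F 4))) ∨
          (Fintype.card F = 32 ∧ Nonempty (M ≃* ↥(Cfsg.Lie.Sz F 8)))))
    (h : Ord27 G) (h3 : 3 ≤ (Nat.card G).primeFactors.card) {E : Type*} [Field E] [Fintype E]
    (hE : Fintype.card E = 7) : Nonempty (G ≃* Matrix.ProjectiveSpecialLinearGroup (Fin 2) E) := by
  classical
  have hns : ¬ Group.IsSolvable G := fun hs => by
    have h2 := S1475.result (G := G) (fun g => (em (g = 1)).symm.imp_left (h.eppo g))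
    omega
  obtain ⟨R, ⟨hRn, hRs⟩, hRmax⟩ : ∃ R : Subgroup G, (R.Normal ∧ Group.IsSolvable R) ∧
      ∀ N : Subgroup G, N.Normal → Group.IsSolvable N → N ≤ R := by
    obtain ⟨R, hR, hRmax⟩ := Set.exists_max_image {N : Subgroup G | N.Normal ∧ Group.IsSolvable N}
      (fun N => Nat.card N) (Set.toFinite _) ⟨⊥, inferInstance, inferInstance⟩
    refine ⟨R, hR, fun N hN hNs => ?_⟩
    haveI := hR.1
    haveI := hR.2
    have hs : Group.IsSolvable ↥(N ⊔ R) := Solvable.isSolvable_sup N R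
    have h1 := hRmax (N ⊔ R) ⟨Subgroup.sup_normal N R, hs⟩
    exact le_sup_left.trans (Subgroup.eq_of_le_of_card_ge le_sup_right h1).ge
  obtain ⟨⟨p, hp, hRp⟩, ⟨M, hMn, hMs, hMnc, hMmin⟩, -⟩ := S3992.result hns h.eppo R hRs hRmax
  have hA : Ord27 (G ⧸ R) := h.of_surjective (QuotientGroup.mk' R) (QuotientGroup.mk'_surjective R)
  obtain ⟨F, iF, iFF, hF, ⟨e⟩⟩ := simple_case (hA.subgroup M) (hlist M hMnc (hA.subgroup M).eppo)
  obtain ⟨hcard, a, b, g, k, ha, hb, hab, ha1, hb1, hab1, hg, hg1, hk, hk1, hkg⟩ := psl_facts hF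
  have hM : M = ⊤ := socle_eq_top hA M hMnc hMmin ((Nat.card_congr e.toEquiv).trans hcard)
  let ε : G ⧸ R ≃* ProjectiveSpecialLinearGroup (Fin 2) F :=
    (Subgroup.topEquiv.symm.trans (MulEquiv.subgroupCongr hM.symm)).trans e
  let f : G →* ProjectiveSpecialLinearGroup (Fin 2) F := ε.toMonoidHom.comp (QuotientGroup.mk' R)
  have hfker : f.ker = R := by
    ext x
    rw [MonoidHom.mem_ker, MonoidHom.comp_apply, MulEquiv.coe_toMonoidHom, ε.map_eq_one_iff]
    exact QuotientGroup.eq_one_iff x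
  have hfs : Function.Surjective f := ε.surjective.comp (QuotientGroup.mk'_surjective R)
  have hbot := radical_eq_bot h f hfs hp (hfker.symm ▸ hRp) a b g k ha hb hab ha1 hb1 hab1 hg hg1 hk hk1 hkg
  haveI : Fact (Nat.Prime 7) := ⟨by norm_num⟩
  exact ⟨(MulEquiv.ofBijective f ⟨(MonoidHom.ker_eq_bot_iff f).1 hbot, hfs⟩).trans
    (Linear.pslMapEquiv ((ZMod.ringEquivOfPrime F (by norm_num : Nat.Prime 7) hF).symm.trans
      (ZMod.ringEquivOfPrime E (by norm_num : Nat.Prime 7) hE)))⟩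

end Cfsg.Agent.Orders5.TwoSeven
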